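import Cfsg.Agent.Lib.Perm.Trans.TensorPowerU.Star
import Cfsg.Agent.Lib.Perm.Trans.TensorHermCore

/-!
# Special isometries of one factor
-/

set_option autoImplicit false
set_option linter.all false

namespace CfsgLib.Perm.Trans.TensorPowerU

open scoped Matrix
open Matrix Cfsg.Geo CfsgLib.Perm.Asch CfsgLib.Perm.Trans CfsgLib.Perm.Trans.TensorPower

variable {F : Type*} [Field F]

/-- the data of the scalars -/
structure Sc (σ : F ≃+* F) : Prop where
  invol : ∀ a, σ (σ a) = a
  ne : σ ≠ RingEquiv.refl F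

section Form

variable {ι : Type} [Fintype ι] [DecidableEq ι]

/-- the form with the monomial Gram matrix -/
def hform (σ : F ≃+* F) (S : ι → ι) (v w : ι → F) : F := v ⬝ᵥ dual σ S w

variable {σ : F ≃+* F} {S : ι → ι}

theorem hform_unitary (h : Sc σ) (hS : Function.Involutive S) : IsUnitaryForm σ (hform σ S) where
  ne_refl := h.ne
  involutive := h.invol
  add_left x y v := add_dotProduct x y _
  smul_left c x v := smul_dotProduct c x _
  herm v w := by rw [hform, hform, dotProduct_comm w, dual_dot_dual h.invol hS, dotProduct_comm]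
  nondegenerate := by
    intro v hv
    obtain ⟨a, ha⟩ := Function.ne_iff.1 hv
    refine ⟨⟨Pi.single (S a) 1, ?_⟩, ⟨Pi.single (S a) 1, ?_⟩⟩
    · rw [hform, single_dotProduct, one_mul, dual, hS]
      simpa using ha
    · rw [hform, dual_single hS, dotProduct_single, map_one, mul_one, hS]
      exact ha

variable [Fintype F]

theorem hv_hform (h : Sc σ) (hS : Function.Involutive S) (u : ι → F) :
    hv (hform_unitary h hS) u = dual σ S u :=
  dot_ext (hform_unitary h hS) fun x => by rw [hv_dot, hform, dotProduct_comm]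

omit [Fintype F] in
theorem isoU_hform (h : Sc σ) (hS : Function.Involutive S) : Unit.isoU (hform σ S) = uSub σ S h.invol hS := by
  ext g
  rw [Unit.mem_isoU, mem_uSub]
  constructor
  · intro hg
    have hcol : adj σ S (g : Matrix ι ι F) * (g : Matrix ι ι F) = 1 := by
      ext x y
      have := hg (Pi.single y 1) (Pi.single (S x) 1)
      rw [hform, hform, dual_mulVec h.invol hS, dual_single hS, hS, map_one, dotProduct_comm, ← dotProduct_mulVec,
        mulVec_mulVec, single_dotProduct, one_mul, mulVec_single_one, single_dotProduct, one_mul] at this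
      simp only [Matrix.col_apply] at this
      rw [this, Matrix.one_apply, Pi.single_apply]
      exact if_congr eq_comm rfl rfl
    exact mul_eq_one_comm.1 hcol
  · intro hg x y
    rw [hform, hform, dual_mulVec h.invol hS, dotProduct_comm, ← dotProduct_mulVec, mulVec_mulVec,
      mul_eq_one_comm.1 hg, one_mulVec, dotProduct_comm]

end Form

variable {σ : F ≃+* F} {n t : ℕ}

/-- the transvection with an isotropic centre -/
def utv (σ : F ≃+* F) (u : Fin (n + 3) → F) (hu : dual σ (s1 n) u ⬝ᵥ u = 0) (c : F) : GL (Fin (n + 3)) F :=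
  tv (c • u) (dual σ (s1 n) u) (by rw [dotProduct_smul, hu, smul_zero])

theorem utv_coe (u : Fin (n + 3) → F) (hu : dual σ (s1 n) u ⬝ᵥ u = 0) (c : F) :
    (utv σ u hu c : Matrix (Fin (n + 3)) (Fin (n + 3)) F) = 1 + c • vecMulVec u (dual σ (s1 n) u) := by
  rw [utv, tv_coe, smul_vecMulVec]

theorem vmv_dual_sq {u : Fin (n + 3) → F} (hu : dual σ (s1 n) u ⬝ᵥ u = 0) :
    vecMulVec u (dual σ (s1 n) u) * vecMulVec u (dual σ (s1 n) u) = 0 := by
  rw [vecMulVec_mul_vecMulVec, hu, zero_smul]; ext; simp [vecMulVec_apply]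

theorem utv_det (u : Fin (n + 3) → F) (hu : dual σ (s1 n) u ⬝ᵥ u = 0) (c : F) :
    (utv σ u hu c : Matrix (Fin (n + 3)) (Fin (n + 3)) F).det = 1 := congrArg Units.val (tv_mem_SL _ _ _)

theorem utv_mem (hσ : ∀ a, σ (σ a) = a) (u : Fin (n + 3) → F) (hu : dual σ (s1 n) u ⬝ᵥ u = 0) {c : F}
    (hc : σ c = -c) : utv σ u hu c ∈ u1 σ hσ n :=
  mem_of_one_add (utv_coe u hu c) (by rw [Matrix.smul_mul, Matrix.mul_smul, vmv_dual_sq hu, smul_zero, smul_zero])
    (by rw [adj_smul, adj_vecMulVec hσ s1_inv, hc, neg_smul])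

theorem e0_iso : dual σ (s1 n) (Pi.single 0 (1 : F)) ⬝ᵥ Pi.single 0 1 = 0 := by
  rw [dual_single s1_inv, s1_zero]; simp

theorem vmv_single2 (a b : Fin (n + 3)) (c d : F) :
    vecMulVec (Pi.single a c) (Pi.single b d) = Matrix.single a b (c * d) := by
  ext x y
  rw [vecMulVec_apply, Pi.single_apply, Pi.single_apply, Matrix.single_apply]
  by_cases h1 : x = a <;> by_cases h2 : y = b <;> simp [h1, h2, Ne.symm]

theorem vmv_e0 :
    vecMulVec (Pi.single 0 (1 : F)) (dual σ (s1 n) (Pi.single 0 1)) = Matrix.single (0 : Fin (n + 3)) 1 1 := by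
  rw [dual_single s1_inv, s1_zero, map_one, vmv_single2, mul_one]

/-- the long root element of the standard centre -/
def rt (σ : F ≃+* F) (c : F) : GL (Fin (n + 3)) F := utv σ (Pi.single 0 1) e0_iso c

theorem rt_coe (c : F) : (rt (n := n) σ c : Matrix (Fin (n + 3)) (Fin (n + 3)) F) = 1 + c • Matrix.single 0 1 1 := by
  rw [rt, utv_coe, vmv_e0]

/-- a short root element fixing the first vector -/
def eta (σ : F ≃+* F) (a : Fin (n + 3)) (ha0 : a ≠ 0) (ha1 : a ≠ 1) (l μ : F) : GL (Fin (n + 3)) F :=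
  tv (Pi.single a l) (Pi.single 1 1) (by simp [dotProduct_single, ha1, ha1.symm]) *
    tv (Pi.single 0 1) (Pi.single a (-σ l) + Pi.single 1 μ) (by
      simp [dotProduct_single, ha0, ha0.symm])

theorem eta_coe {a : Fin (n + 3)} (ha0 : a ≠ 0) (ha1 : a ≠ 1) (l μ : F) :
    (eta σ a ha0 ha1 l μ : Matrix (Fin (n + 3)) (Fin (n + 3)) F) =
      1 + (Matrix.single a 1 l + Matrix.single 0 a (-σ l) + Matrix.single 0 1 μ) := by
  rw [eta, Units.val_mul, tv_coe, tv_coe, vecMulVec_add, vmv_single2, vmv_single2, vmv_single2, mul_one, one_mul,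
    one_mul]
  simp only [add_mul, mul_add, one_mul, mul_one]
  rw [Matrix.single_mul_single_of_ne (h := show (1 : Fin (n + 3)) ≠ 0 by simp),
    Matrix.single_mul_single_of_ne (h := show (1 : Fin (n + 3)) ≠ 0 by simp)]
  abel

theorem eta_det {a : Fin (n + 3)} (ha0 : a ≠ 0) (ha1 : a ≠ 1) (l μ : F) :
    (eta σ a ha0 ha1 l μ : Matrix (Fin (n + 3)) (Fin (n + 3)) F).det = 1 := by
  rw [eta, Units.val_mul, Matrix.det_mul]
  have hd : ∀ (u φ : Fin (n + 3) → F) (h : φ ⬝ᵥ u = 0),
      ((tv u φ h : GL (Fin (n + 3)) F) : Matrix (Fin (n + 3)) (Fin (n + 3)) F).det = 1 :=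
    fun u φ h => congrArg Units.val (tv_mem_SL u φ h)
  rw [hd, hd, one_mul]

theorem eta_mem (hσ : ∀ a, σ (σ a) = a) {a : Fin (n + 3)} (ha0 : a ≠ 0) (ha1 : a ≠ 1) {l μ : F}
    (h : μ + σ μ + l * σ l = 0) : eta σ a ha0 ha1 l μ ∈ u1 σ hσ n := by
  rw [mem_uSub, eta_coe ha0 ha1, adj_add, adj_one s1_inv, adj_add, adj_add, adj_single s1_inv, adj_single s1_inv,
    adj_single s1_inv, s1_zero, s1_one, s1_other ha0 ha1, map_neg, hσ]
  have h10 : (1 : Fin (n + 3)) ≠ 0 := by simp
  have z : ∀ (p q r s : Fin (n + 3)) (x y : F), q ≠ r → Matrix.single p q x * Matrix.single r s y = 0 :=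
    fun p q r s x y hh => by rw [Matrix.single_mul_single_of_ne (h := hh)]
  simp only [mul_add, add_mul, one_mul, mul_one, z _ _ _ _ _ _ h10, z _ _ _ _ _ _ ha0, z _ _ _ _ _ _ ha1.symm,
    z _ _ _ _ _ _ ha1, z _ _ _ _ _ _ h10.symm, Matrix.single_mul_single_same, add_zero, zero_add]
  have e1 : Matrix.single a (1 : Fin (n + 3)) (-l) = -Matrix.single a 1 l := (map_neg (Matrix.singleAddMonoidHom a 1) l)
  have e2 : Matrix.single (0 : Fin (n + 3)) a (-σ l) = -Matrix.single 0 a (σ l) :=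
    (map_neg (Matrix.singleAddMonoidHom 0 a) _)
  have e3 : Matrix.single (0 : Fin (n + 3)) (1 : Fin (n + 3)) μ + Matrix.single 0 1 (σ μ) +
      Matrix.single 0 1 (-σ l * -l) = 0 := by
    rw [← Matrix.single_add, ← Matrix.single_add, show μ + σ μ + -σ l * -l = 0 by linear_combination h,
      Matrix.single_zero]
  rw [e1, e2]
  calc _ = 1 + (Matrix.single (0 : Fin (n + 3)) (1 : Fin (n + 3)) μ + Matrix.single 0 1 (σ μ) +
        Matrix.single 0 1 (-σ l * -l)) := by abel
    _ = 1 := by rw [e3, add_zero]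

theorem perm_diag (p : Equiv.Perm (Fin (n + 3))) (d : Fin (n + 3) → F) :
    (Matrix.of fun x y => if x = p y then d y else 0) = (Matrix.diagonal d).submatrix p.symm id := by
  ext x y
  rw [Matrix.of_apply, Matrix.submatrix_apply, id, Matrix.diagonal_apply]
  by_cases h : x = p y
  · rw [if_pos h, if_pos (by rw [h, Equiv.symm_apply_apply]), h, Equiv.symm_apply_apply]
  · rw [if_neg h, if_neg (fun e => h (by rw [← e, Equiv.apply_symm_apply]))]

/-- a monomial isometry -/
def mono (p : Equiv.Perm (Fin (n + 3))) (d : Fin (n + 3) → Fˣ) : GL (Fin (n + 3)) F :=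
  Matrix.GeneralLinearGroup.mkOfDetNeZero (Matrix.of fun x y => if x = p y then (d y : F) else 0) (by
    rw [perm_diag p fun y => (d y : F)]
    rw [Matrix.det_permute, Matrix.det_diagonal]
    exact mul_ne_zero (by rcases Int.units_eq_one_or (Equiv.Perm.sign p.symm) with h | h <;> rw [h] <;> simp)
      (Finset.prod_ne_zero_iff.2 fun y _ => (d y).ne_zero))

theorem mono_coe (p : Equiv.Perm (Fin (n + 3))) (d : Fin (n + 3) → Fˣ) :
    (mono p d : Matrix (Fin (n + 3)) (Fin (n + 3)) F) = Matrix.of fun x y => if x = p y then (d y : F) else 0 := rfl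

theorem mono_det (p : Equiv.Perm (Fin (n + 3))) (d : Fin (n + 3) → Fˣ) :
    (mono p d : Matrix (Fin (n + 3)) (Fin (n + 3)) F).det = (Equiv.Perm.sign p : ℤ) * ∏ y, (d y : F) := by
  rw [mono_coe, perm_diag p fun y => (d y : F), Matrix.det_permute, Matrix.det_diagonal, Equiv.Perm.sign_symm]

theorem mono_mulVec_single (p : Equiv.Perm (Fin (n + 3))) (d : Fin (n + 3) → Fˣ) (y : Fin (n + 3)) :
    (mono p d : Matrix (Fin (n + 3)) (Fin (n + 3)) F) *ᵥ Pi.single y 1 = Pi.single (p y) (d y : F) := by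
  funext x
  rw [mono_coe, mulVec_single_one, Matrix.col_apply, Matrix.of_apply, Pi.single_apply]

theorem mono_mem (hσ : ∀ a, σ (σ a) = a) {p : Equiv.Perm (Fin (n + 3))} {d : Fin (n + 3) → Fˣ}
    (hp : ∀ y, p (s1 n y) = s1 n (p y)) (hd : ∀ y, σ (d (s1 n y) : F) * d y = 1) : mono p d ∈ u1 σ hσ n := by
  refine mul_eq_one_comm.1 ?_
  ext x z
  rw [Matrix.mul_apply, Matrix.one_apply, Finset.sum_eq_single (p z) (fun y _ hy => by simp [mono_coe, hy]) (by simp),
    adj_apply]
  simp only [mono_coe, Matrix.of_apply, if_true, apply_ite σ, map_zero]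
  by_cases h : x = z
  · subst h
    rw [if_pos (hp x).symm, if_pos rfl, hd]
  · rw [if_neg (fun e => h ?_), if_neg h, zero_mul]
    rw [← hp] at e
    exact s1_inv.injective (p.injective e).symm

section Finite

variable [Fintype F]

theorem Sc.exists_skew (h : Sc σ) : ∃ c : F, c ≠ 0 ∧ σ c = -c :=
  exists_trace_zero (hform_unitary h (s1_inv (n := 0)))

theorem Sc.exists_trace (h : Sc σ) (l : F) : ∃ μ : F, μ + σ μ + l * σ l = 0 := by
  obtain ⟨μ, hμ⟩ := CfsgLib.Perm.Trans.exists_trace (hform_unitary h (s1_inv (n := 0)))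
    (d := -(l * σ l)) (by rw [map_neg, map_mul, h.invol, mul_comm])
  exact ⟨μ, by rw [hμ, neg_add_cancel]⟩

theorem Sc.exists_norm (h : Sc σ) {d : F} (hd : σ d = d) : ∃ x : F, x * σ x = d :=
  CfsgLib.Perm.Trans.exists_norm (hform_unitary h (s1_inv (n := 0))) hd

/-- an element is a combination of one and a given unfixed scalar over the fixed scalars -/
theorem Sc.exists_unfixed (h : Sc σ) : ∃ a : F, σ a ≠ a := by
  by_contra hcon
  push Not at hcon
  exact h.ne (RingEquiv.ext hcon)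

theorem Sc.exists_skew_mul (h : Sc σ) {a : F} (ha : a ≠ 0) : ∃ x : F, x * a - σ (x * a) ≠ 0 := by
  obtain ⟨b, hb⟩ := h.exists_unfixed
  exact ⟨b * a⁻¹, by rw [mul_assoc, inv_mul_cancel₀ ha, mul_one]; exact sub_ne_zero.2 (Ne.symm hb)⟩

end Finite

/-- the base group of the special isometries is in `M` -/
def HasUBase (σ : F ≃+* F) (hσ : ∀ a, σ (σ a) = a) (M : Subgroup (GL (Fin t → Fin (n + 3)) F)) : Prop :=
  ∀ (i : Fin t) (a : GL (Fin (n + 3)) F), a ∈ u1 σ hσ n → (a : Matrix (Fin (n + 3)) (Fin (n + 3)) F).det = 1 →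
    sl i a ∈ M

variable {hσ : ∀ a, σ (σ a) = a} {M : Subgroup (GL (Fin t → Fin (n + 3)) F)}

theorem HasUBase.utv_mem (hB : HasUBase σ hσ M) (i : Fin t) (u : Fin (n + 3) → F)
    (hu : dual σ (s1 n) u ⬝ᵥ u = 0) {c : F} (hc : σ c = -c) : sl i (utv σ u hu c) ∈ M :=
  hB i _ (TensorPowerU.utv_mem hσ u hu hc) (utv_det u hu c)

theorem HasUBase.eta_mem (hB : HasUBase σ hσ M) (i : Fin t) {a : Fin (n + 3)} (ha0 : a ≠ 0) (ha1 : a ≠ 1) {l μ : F}
    (h : μ + σ μ + l * σ l = 0) : sl i (eta σ a ha0 ha1 l μ) ∈ M :=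
  hB i _ (TensorPowerU.eta_mem hσ ha0 ha1 h) (eta_det ha0 ha1 l μ)

theorem HasUBase.pure_mem (hB : HasUBase σ hσ M) (B : Fin t → GL (Fin (n + 3)) F) (hu : ∀ l, B l ∈ u1 σ hσ n)
    (hd : ∀ l, (B l : Matrix (Fin (n + 3)) (Fin (n + 3)) F).det = 1) : pureGL B ∈ M := by
  classical
  have : ∀ L : Finset (Fin t), pureGL (L.piecewise B 1) ∈ M := by
    intro L
    induction L using Finset.induction_on with
    | empty => rw [Finset.piecewise_empty, pureGL_one]; exact M.one_mem
    | @insert l L hl ih =>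
      have e : (insert l L).piecewise B 1 = Pi.mulSingle l (B l) * L.piecewise B 1 := by
        funext x
        rcases eq_or_ne x l with rfl | hx
        · simp [hl]
        · by_cases hx' : x ∈ L <;> simp [hx, hx', Pi.mulSingle_eq_of_ne hx]
      rw [e, ← pureGL_mul]
      exact M.mul_mem (hB l _ (hu l) (hd l)) ih
  simpa using this Finset.univ

end CfsgLib.Perm.Trans.TensorPowerU
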