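import Cfsg.Agent.Lib.Perm.Trans.TensorPowerU.Full

/-!
# Elements commuting with a root: the blocks
-/

set_option autoImplicit false
set_option linter.all false

namespace CfsgLib.Perm.Trans.TensorPowerU

open scoped Matrix
open Matrix Cfsg.Geo CfsgLib.Perm.Asch CfsgLib.Perm.Trans CfsgLib.Perm.Trans.TensorPower

variable {F : Type*} [Field F] {σ : F ≃+* F} {n s t : ℕ} {hσ : ∀ a, σ (σ a) = a}

local notation "Mat" => Matrix (Fin t → Fin (n + 3)) (Fin t → Fin (n + 3)) F

theorem ext_blk (j : Fin t) {X Y : Mat} (h : ∀ x y, blk j x y X = blk j x y Y) : X = Y := by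
  rw [← blk_sum j X, ← blk_sum j Y]
  simp only [h]

theorem slot_single_smul (j : Fin t) (a b : Fin (n + 3)) (r : F) : (slot j (Matrix.single a b r) : Mat) = r • sx j a b := by
  rw [single_smul_one r, ← slotHom_apply, map_smul]; rfl

theorem blk_slot (j : Fin t) (x y : Fin (n + 3)) (A : Matrix (Fin (n + 3)) (Fin (n + 3)) F) :
    blk j x y (slot j A : Mat) = A x y • 1 := by
  have e : ∀ r, sx j r x * slot j A * sx j y r = (A x y) • (sx j r r : Mat) := fun r => by
    rw [← slot_single_smul, sx, sx, slot_mul, slot_mul]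
    congr 1
    ext p q
    rw [Matrix.mul_apply, Finset.sum_eq_single y (fun z _ hz => by simp [Ne.symm hz]) (by simp), Matrix.mul_apply,
      Finset.sum_eq_single x (fun z _ hz => by simp [Ne.symm hz]) (by simp)]
    by_cases h1 : r = p <;> by_cases h2 : r = q <;> simp [h1, h2, Matrix.single_apply]
  rw [blk, Finset.sum_congr rfl fun r _ => e r, ← Finset.smul_sum, sx_sum]

theorem blk_cj (j : Fin t) (g : GL (Fin t → Fin (n + 3)) F) (x y p q : Fin (n + 3)) :
    blk j x y (cj g (sx j p q)) = blk j x p (g : Mat) * blk j q y ((g⁻¹ : GL (Fin t → Fin (n + 3)) F) : Mat) := by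
  rw [blk_mul_blk]; rfl

theorem cm_adj {j : Fin t} {X : Mat} (h : Cm j X) : Cm j (adj σ (sT n t) X) := fun u v => by
  have e := congrArg (adj σ (sT n t)) (h (s1 n v) (s1 n u))
  rw [adj_mul sT_inv, adj_mul sT_inv, adj_sx, s1_inv, s1_inv] at e
  exact e.symm

theorem adj_blk (j : Fin t) (x y : Fin (n + 3)) (X : Mat) :
    adj σ (sT n t) (blk j x y X) = blk j (s1 n y) (s1 n x) (adj σ (sT n t) X) := by
  have e : ∀ f : Fin (n + 3) → Mat, adj σ (sT n t) (∑ r, f r) = ∑ r, adj σ (sT n t) (f r) := fun f => by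
    ext p q
    simp [adj_apply, Matrix.sum_apply, map_sum]
  rw [blk, blk, e]
  refine Fintype.sum_equiv s1_inv.toPerm _ _ fun r => ?_
  rw [adj_mul sT_inv, adj_mul sT_inv, adj_sx, adj_sx, ← mul_assoc, Function.Involutive.coe_toPerm]

theorem cm_one (j : Fin t) : Cm j (1 : Mat) := fun u v => by rw [mul_one, one_mul]

/-- the blocks of an element commuting with the root -/
theorem root_shape {j : Fin t} {X : Mat} (h : X * sx j 0 1 = sx j 0 1 * X) :
    (∀ y, y ≠ 1 → blk j 1 y X = 0) ∧ (∀ x, x ≠ 0 → blk j x 0 X = 0) ∧ blk j 1 1 X = blk j 0 0 X := by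
  have E : ∀ x y, (if y = 1 then blk j x 0 X else 0) = if x = 0 then blk j 1 y X else 0 := fun x y => by
    have := congrArg (blk j x y) h
    rwa [blk_sx_left, blk_sx_right] at this
  exact ⟨fun y hy => by simpa [hy] using (E 0 y).symm, fun x hx => by simpa [hx] using E x 1,
    by simpa using (E 0 1).symm⟩

theorem inv_comm {g : GL (Fin t → Fin (n + 3)) F} {X : Mat} (h : (g : Mat) * X = X * (g : Mat)) :
    ((g⁻¹ : GL (Fin t → Fin (n + 3)) F) : Mat) * X = X * ((g⁻¹ : GL (Fin t → Fin (n + 3)) F) : Mat) :=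
  (show Commute (g : Mat) X from h).units_inv_left.eq

theorem scalar_pair [Fintype F] (hs : Sc σ) {P Q : Mat} (h : ∀ l : F, ∃ c : F, l • P + σ l • Q = c • 1) :
    (∃ c : F, P = c • 1) ∧ ∃ c : F, Q = c • 1 := by
  obtain ⟨w, hw⟩ := hs.exists_unfixed
  obtain ⟨c, hc⟩ := h w
  obtain ⟨d, hd⟩ := h 1
  rw [map_one, one_smul, one_smul] at hd
  have e : (w - σ w) • P = (c - σ w * d) • (1 : Mat) := by
    rw [sub_smul, sub_smul, mul_smul, ← hd, ← hc, smul_add]; abel
  have hP : P = ((w - σ w)⁻¹ * (c - σ w * d)) • (1 : Mat) := by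
    rw [mul_smul, ← e, smul_smul, inv_mul_cancel₀ (sub_ne_zero.2 (Ne.symm hw)), one_smul]
  exact ⟨⟨_, hP⟩, d - (w - σ w)⁻¹ * (c - σ w * d), by rw [sub_smul, ← hd, ← hP, add_sub_cancel_left]⟩

/-- unipotent elements with prescribed middle coordinates -/
theorem exists_heis [Fintype F] (hs : Sc σ) (hσ : ∀ a, σ (σ a) = a) (v : Fin (n + 3) → F) :
    ∀ S : Finset (Fin (n + 3)), (0 : Fin (n + 3)) ∉ S → (1 : Fin (n + 3)) ∉ S →
    ∃ (y : GL (Fin (n + 3)) F) (N : Matrix (Fin (n + 3)) (Fin (n + 3)) F), y ∈ uQ σ hσ n ∧ Sh N ∧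
      (y : Matrix (Fin (n + 3)) (Fin (n + 3)) F) = 1 + N ∧
      ∀ a, a ≠ 0 → a ≠ 1 → N a 1 = if a ∈ S then v a else 0 := by
  classical
  intro S
  induction S using Finset.induction_on with
  | empty => exact fun _ _ => ⟨1, 0, one_mem _, sh_zero, by simp, by simp⟩
  | @insert b S hb ih =>
    intro h0 h1
    rw [Finset.mem_insert, not_or] at h0 h1
    obtain ⟨y, N, hy, hN, hye, hNe⟩ := ih h0.2 h1.2
    obtain ⟨μ, hμ⟩ := hs.exists_trace (v b)
    obtain ⟨hem, N', hN', he⟩ := eta_mem_uQ (hσ := hσ) (Ne.symm h0.1) (Ne.symm h1.1) hμ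
    have hval : N' = Matrix.single b 1 (v b) + Matrix.single 0 b (-σ (v b)) + Matrix.single 0 1 μ := by
      rw [eta_coe, add_right_inj] at he; exact he.symm
    refine ⟨y * eta σ b (Ne.symm h0.1) (Ne.symm h1.1) (v b) μ, N + N' + N * N', mul_mem hy ⟨hem, N', hN', he⟩,
      (hN.add hN').add (hN.mul hN'), by rw [Units.val_mul, hye, he]; noncomm_ring, fun a ha0 ha1 => ?_⟩
    rw [Matrix.add_apply, Matrix.add_apply, hN.mul_eq hN' a 1 (Or.inl ha0), add_zero, hNe a ha0 ha1, hval]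
    rcases eq_or_ne a b with rfl | hab
    · simp [hb, Ne.symm ha0, Ne.symm h0.1]
    · simp [hab, hab.symm, Ne.symm ha0]

/-- the setting -/
structure UCtx (σ : F ≃+* F) (hσ : ∀ a, σ (σ a) = a) (M : Subgroup (GL (Fin (s + 1) → Fin (n + 3)) F)) [Fintype F] :
    Prop where
  sc : Sc σ
  hq : 1 ≤ n ∨ 4 < Fintype.card F
  base : HasUBase σ hσ M
  perms : HasUPerms M
  le : M ≤ uT σ hσ n (s + 1)
  proper : ¬ uT σ hσ n (s + 1) ⊓ specialLinear (Fin (s + 1) → Fin (n + 3)) F ≤ M

variable [Fintype F] {M : Subgroup (GL (Fin (s + 1) → Fin (n + 3)) F)}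

/-- the cofactor of a root in `M` is scalar -/
theorem UCtx.scalar (h : UCtx σ hσ M) {j : Fin (s + 1)}
    {C : Matrix (Fin (s + 1) → Fin (n + 3)) (Fin (s + 1) → Fin (n + 3)) F} (hC : Cm j C)
    (hm : Mem1 M (sx j 0 1 * C)) : ∃ c : F, C = c • 1 := by
  obtain ⟨Z, rfl⟩ := eq_emb j hC
  by_contra hcon
  push Not at hcon
  refine h.proper (le_of_nonscalar h.sc h.hq h.base h.perms h.le (mem_smallS.2 hm) fun c hc => hcon c ?_)
  rw [hc, map_smul, map_one]

/-- conjugates of the base by `g` lie in `M` -/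
def NormsInto (σ : F ≃+* F) (hσ : ∀ a, σ (σ a) = a) (M : Subgroup (GL (Fin (s + 1) → Fin (n + 3)) F))
    (g : GL (Fin (s + 1) → Fin (n + 3)) F) : Prop :=
  ∀ (i : Fin (s + 1)) (a : GL (Fin (n + 3)) F), a ∈ u1 σ hσ n →
    (a : Matrix (Fin (n + 3)) (Fin (n + 3)) F).det = 1 → g * sl i a * g⁻¹ ∈ M

/-- the blocks of an element commuting with a root are proportional to one of them, apart from one -/
theorem UCtx.blocks (h : UCtx σ hσ M) {g : GL (Fin (s + 1) → Fin (n + 3)) F} (hg : g ∈ uT σ hσ n (s + 1))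
    (hgb : NormsInto σ hσ M g) {j : Fin (s + 1)}
    (hc : (g : Matrix (Fin (s + 1) → Fin (n + 3)) _ F) * sx j 0 1 = sx j 0 1 * (g : Matrix (Fin (s + 1) → Fin (n + 3)) _ F))
    (x y : Fin (n + 3)) (hxy : ¬ (x = 0 ∧ y = 1)) :
    ∃ c : F, blk j x y (g : Matrix (Fin (s + 1) → Fin (n + 3)) _ F) =
      c • blk j 0 0 (g : Matrix (Fin (s + 1) → Fin (n + 3)) _ F) := by
  classical
  set B := fun x y => blk j x y (g : Matrix (Fin (s + 1) → Fin (n + 3)) (Fin (s + 1) → Fin (n + 3)) F) with hB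
  set B' := fun x y => blk j x y ((g⁻¹ : GL (Fin (s + 1) → Fin (n + 3)) F) :
    Matrix (Fin (s + 1) → Fin (n + 3)) (Fin (s + 1) → Fin (n + 3)) F) with hB'
  obtain ⟨hr, hcl, h11⟩ := root_shape hc
  obtain ⟨hr', hcl', h11'⟩ := root_shape (inv_comm hc)
  have hmul : ∀ x y, ∑ e, B x e * B' e y = if x = y then 1 else 0 := fun x y => by
    rw [hB, hB', sum_blk_mul, gl_mul_inv, blk_one]
  have hBB : B' 0 0 * B 0 0 = 1 := by
    have e := sum_blk_mul j 0 0 ((g⁻¹ : GL (Fin (s + 1) → Fin (n + 3)) F) :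
      Matrix (Fin (s + 1) → Fin (n + 3)) (Fin (s + 1) → Fin (n + 3)) F) (g : Matrix (Fin (s + 1) → Fin (n + 3)) _ F)
    rwa [gl_inv_mul, blk_one, if_pos rfl, Finset.sum_eq_single 0 (fun e _ he => by rw [hcl e he, mul_zero]) (by simp)] at e
  have hBB' : B 0 0 * B' 0 0 = 1 := by
    have e := hmul 0 0
    rwa [if_pos rfl, Finset.sum_eq_single 0 (fun e _ he => by rw [show B' e 0 = 0 from hcl' e he, mul_zero]) (by simp)] at e
  -- the image of a short root
  have img : ∀ d, d ≠ 0 → d ≠ 1 → ∀ l : F, ∃ (μ : F) (G : GL (Fin (s + 1) → Fin (n + 3)) F)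
      (X : Matrix (Fin (s + 1) → Fin (n + 3)) (Fin (s + 1) → Fin (n + 3)) F), G ∈ M ∧ G.val = 1 + X ∧
      ∀ x y, blk j x y X = l • (B x d * B' 1 y) + (-σ l) • (B x 0 * B' d y) + μ • (B x 0 * B' 1 y) := by
    intro d hd0 hd1 l
    obtain ⟨μ, hμ⟩ := h.sc.exists_trace l
    refine ⟨μ, _, cj g (slot j (Matrix.single d 1 l + Matrix.single 0 d (-σ l) + Matrix.single 0 1 μ)),
      hgb j _ (eta_mem hσ hd0 hd1 hμ) (eta_det _ _ _ _), ?_, fun x y => ?_⟩
    · rw [← cj_coe, sl_coe, eta_coe, slot_add, slot_one, cj_add, cj_one]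
    · rw [slot_add, slot_add, cj_add, cj_add, slot_single_smul, slot_single_smul, slot_single_smul, cj_smul, cj_smul,
        cj_smul, blk_add, blk_add, blk_smul, blk_smul, blk_smul, blk_cj, blk_cj, blk_cj]
  -- commutators with short roots
  have hmid : ∀ a d, a ≠ 0 → a ≠ 1 → d ≠ 0 → d ≠ 1 →
      (∃ c : F, B a d = c • B 0 0) ∧ ∃ c : F, B 0 0 * B' d a = c • 1 := by
    intro a d ha0 ha1 hd0 hd1
    suffices hpair : ∀ l : F, ∃ c : F, l • (B a d * B' 0 0) + σ l • (-(B 0 0 * B' d a)) = c • 1 by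
      obtain ⟨⟨c, hc'⟩, e, he⟩ := scalar_pair h.sc hpair
      exact ⟨⟨c, by rw [← mul_one (B a d), ← hBB, ← mul_assoc, hc', Matrix.smul_mul, one_mul]⟩,
        -e, by rw [neg_smul, ← he, neg_neg]⟩
    intro l
    obtain ⟨μ, G, X, hGM, hGe, hX⟩ := img d hd0 hd1 l
    obtain ⟨μ', hμ'⟩ := h.sc.exists_trace 1
    set N := Matrix.single a (1 : Fin (n + 3)) (1 : F) + Matrix.single 0 a (-σ 1) + Matrix.single 0 1 μ' with hN
    set H := sl j (eta σ a ha0 ha1 1 μ') with hH
    have hHM : H ∈ M := h.base.eta_mem j ha0 ha1 hμ'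
    have hHe : H.val = 1 + slot j N := by rw [hH, sl_coe, eta_coe, slot_add, slot_one]
    set Z := l • (B a d * B' 0 0) + σ l • (-(B 0 0 * B' d a)) with hZ
    have hZc : Cm j Z := fun u v => by
      have e1 : ∀ p q p' q', sx j u v * (B p q * B' p' q') = B p q * B' p' q' * sx j u v := fun p q p' q' => by
        rw [← mul_assoc, cm_blk j p q _ u v, mul_assoc, cm_blk j p' q' _ u v, ← mul_assoc]
      rw [hZ, mul_add, add_mul, Matrix.mul_smul, Matrix.smul_mul, Matrix.mul_smul, Matrix.smul_mul, mul_neg, neg_mul,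
        e1, e1]
    have hX0 : ∀ x, blk j x 0 X = 0 := fun x => by
      rw [hX, show B' 1 0 = 0 from hr' 0 (by simp), show B' d 0 = 0 from hcl' d hd0]; simp
    have hX1 : ∀ y, blk j 1 y X = 0 := fun y => by
      rw [hX, show B 1 d = 0 from hr d hd1, show B 1 0 = 0 from hr 0 (by simp)]; simp
    have hXa : ∀ x, blk j x a X = (-σ l) • if x = 0 then B 0 0 * B' d a else 0 := fun x => by
      rw [hX, show B' 1 a = 0 from hr' a ha1]
      split_ifs with hx
      · subst hx; simp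
      · rw [show B x 0 = 0 from hcl x hx]; simp
    have haX : ∀ y, blk j a y X = l • if y = 1 then B a d * B' 0 0 else 0 := fun y => by
      rw [hX, show B a 0 = 0 from hcl a ha0]
      split_ifs with hy
      · subst hy; rw [show B' 1 1 = B' 0 0 from h11']; simp
      · rw [show B' 1 y = 0 from hr' y hy]; simp
    have hcomm : X * slot j N - slot j N * X = sx j 0 1 * Z := by
      refine ext_blk j fun x y => ?_
      rw [blk_right hZc, blk_sx, hN, slot_add, slot_add, slot_single_smul, slot_single_smul, slot_single_smul]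
      simp only [mul_add, add_mul, blk_sub, blk_add, Matrix.smul_mul, Matrix.mul_smul, blk_smul, blk_sx_left,
        blk_sx_right, hX0, hX1, hXa, haX, one_smul, map_one, ite_self, smul_zero, add_zero]
      by_cases hx : x = 0 <;> by_cases hy : y = 1 <;> simp [hx, hy, hZ, add_comm]
    have hX1' : sx j 0 1 * X = 0 := ext_blk j fun x y => by rw [blk_sx_left, blk_zero, hX1, ite_self]
    have hN1 : sx j 0 1 * slot j N = (0 : Matrix (Fin (s + 1) → Fin (n + 3)) _ F) := by
      rw [sx, slot_mul, hN, mul_add, mul_add, Matrix.single_mul_single_of_ne (h := ha1.symm),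
        Matrix.single_mul_single_of_ne (h := show (1 : Fin (n + 3)) ≠ 0 by simp),
        Matrix.single_mul_single_of_ne (h := show (1 : Fin (n + 3)) ≠ 0 by simp), add_zero, add_zero, slot_zero]
    refine h.scalar hZc ⟨G * H * G⁻¹ * H⁻¹, M.mul_mem (M.mul_mem (M.mul_mem hGM hHM) (M.inv_mem hGM)) (M.inv_mem hHM), ?_⟩
    have key : (G * H : GL (Fin (s + 1) → Fin (n + 3)) F).val = (1 + sx j 0 1 * Z) * (H * G).val := by
      rw [Units.val_mul, Units.val_mul, hGe, hHe]
      have e1 : sx j 0 1 * Z * slot j N = 0 := by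
        rw [hZc, mul_assoc, hN1, mul_zero]
      have e2 : sx j 0 1 * Z * X = 0 := by rw [hZc, mul_assoc, hX1', mul_zero]
      have e3 : sx j 0 1 * Z * (slot j N * X) = 0 := by rw [← mul_assoc, e1, zero_mul]
      simp only [add_mul, mul_add, one_mul, mul_one, e1, e2, e3, add_zero, zero_add]
      rw [← hcomm]; abel
    calc (G * H * G⁻¹ * H⁻¹ : GL (Fin (s + 1) → Fin (n + 3)) F).val
        = (G * H : GL (Fin (s + 1) → Fin (n + 3)) F).val * ((H * G)⁻¹ : GL (Fin (s + 1) → Fin (n + 3)) F).val := by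
          rw [← Units.val_mul]; congr 1; group
      _ = _ := by rw [key, mul_assoc, gl_mul_inv, mul_one]
  -- the correction by an element of the base
  have hcor : ∀ d, d ≠ 0 → d ≠ 1 → (∃ c : F, B 0 d = c • B 0 0) ∧ ∃ c : F, B 0 0 * B' d 1 = c • 1 := by
    intro d hd0 hd1
    suffices hpair : ∀ l : F, ∃ c : F, l • (B 0 d * B' 0 0) + σ l • (-(B 0 0 * B' d 1)) = c • 1 by
      obtain ⟨⟨c, hc'⟩, e, he⟩ := scalar_pair h.sc hpair
      exact ⟨⟨c, by rw [← mul_one (B 0 d), ← hBB, ← mul_assoc, hc', Matrix.smul_mul, one_mul]⟩,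
        -e, by rw [neg_smul, ← he, neg_neg]⟩
    intro l
    obtain ⟨μ, G, X, hGM, hGe, hX⟩ := img d hd0 hd1 l
    have hA : ∀ a, ∃ c : F, a ≠ 0 → a ≠ 1 → B a d = c • B 0 0 := fun a => by
      by_cases ha : a ≠ 0 ∧ a ≠ 1
      · obtain ⟨c, hc⟩ := (hmid a d ha.1 ha.2 hd0 hd1).1; exact ⟨c, fun _ _ => hc⟩
      · exact ⟨0, fun h0 h1 => absurd ⟨h0, h1⟩ ha⟩
    choose α hα using hA
    obtain ⟨v, hv⟩ : ∃ v : Fin (n + 3) → F, v = fun a => -(l * α a) := ⟨_, rfl⟩
    obtain ⟨z, N, hz, hN, hze, hNv⟩ := exists_heis h.sc hσ v ((Finset.univ.erase 0).erase 1) (by simp) (by simp)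
    have hzM : sl j z ∈ M := h.base j z hz.1 (uQ_det hz)
    have hX0 : ∀ x, blk j x 0 X = 0 := fun x => by
      rw [hX, show B' 1 0 = 0 from hr' 0 (by simp), show B' d 0 = 0 from hcl' d hd0]; simp
    have hX1 : ∀ y, blk j 1 y X = 0 := fun y => by
      rw [hX, show B 1 d = 0 from hr d hd1, show B 1 0 = 0 from hr 0 (by simp)]; simp
    have hXm' : ∀ a y, a ≠ 0 → a ≠ 1 → blk j a y X = if y = 1 then (l * α a) • 1 else 0 := fun a y ha0 ha1 => by
      rw [hX, show B a 0 = 0 from hcl a ha0]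
      split_ifs with hy
      · subst hy; rw [show B' 1 1 = B' 0 0 from h11', hα a ha0 ha1, Matrix.smul_mul, hBB', smul_smul]; simp
      · rw [show B' 1 y = 0 from hr' y hy]; simp
    -- the blocks of the corrected element
    set W := X + slot j N + X * slot j N with hW
    have hG'e : (G * sl j z).val = 1 + W := by
      rw [Units.val_mul, hGe, sl_coe, hze, slot_add, slot_one, hW]
      simp only [add_mul, mul_add, one_mul, mul_one]; abel
    have hXN : ∀ x y, blk j x y (X * slot j N) = ∑ e, N e y • blk j x e X := fun x y => by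
      rw [← sum_blk_mul j x y X]
      exact Finset.sum_congr rfl fun e _ => by rw [blk_slot, Matrix.mul_smul, mul_one]
    have hWb : ∀ x y, blk j x y W = blk j x y X + N x y • 1 + ∑ e, N e y • blk j x e X := fun x y => by
      rw [hW, blk_add, blk_add, blk_slot, hXN]
    have hWlow : ∀ x y, x ≠ 0 → blk j x y W = 0 := by
      intro x y hx
      rw [hWb]
      by_cases hx1 : x = 1
      · subst hx1
        simp [hX1, (hN 1 y).2.2]
      rw [hXm' x y hx hx1, Finset.sum_eq_zero fun e _ => ?_, add_zero]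
      · by_cases hy : y = 1
        · subst hy
          rw [if_pos rfl, hNv x hx hx1, if_pos (by simp [hx, hx1]), ← add_smul, hv]; simp
        · rw [if_neg hy, (hN x y).1 hx hy, zero_smul, add_zero]
      · rw [hXm' x e hx hx1]
        split_ifs with he
        · rw [he, (hN 1 y).2.2, zero_smul]
        · rw [smul_zero]
    have hXr : ∀ e, e ≠ 1 → ∃ c : F, blk j 0 e X = c • 1 := by
      intro e he
      by_cases he0 : e = 0
      · exact ⟨0, by rw [he0, hX0, zero_smul]⟩
      obtain ⟨c, hc⟩ := (hmid e d he0 he hd0 hd1).2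
      exact ⟨-σ l * c, by rw [hX, show B' 1 e = 0 from hr' e he, hc]; simp [smul_smul]⟩
    choose! χ hχ using hXr
    have hsum : ∀ y, ∑ e, N e y • blk j 0 e X = (∑ e, N e y * χ e) • (1 : Matrix (Fin (s + 1) → Fin (n + 3)) _ F) := by
      intro y
      rw [Finset.sum_smul]
      refine Finset.sum_congr rfl fun e _ => ?_
      by_cases he : e = 1
      · rw [he, (hN 1 y).2.2, zero_smul, zero_mul, zero_smul]
      · rw [hχ e he, smul_smul]
    have hW00 : blk j 0 0 W = 0 := by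
      rw [hWb, hX0, (hN 0 0).2.1, Finset.sum_eq_zero fun e _ => by rw [(hN e 0).2.1, zero_smul]]
      simp
    have hiso := mem_uSub.1 (mul_mem (h.le hGM) (h.le hzM))
    rw [hG'e, adj_add, adj_one sT_inv, mul_add, mul_one, add_mul, one_mul, add_assoc, add_eq_left,
      ← add_assoc] at hiso
    have hW0y : ∀ y, y ≠ 0 → y ≠ 1 → blk j 0 y W = 0 := by
      intro y hy0 hy1
      obtain ⟨e, he⟩ : ∃ e : F, blk j 0 y W = e • 1 :=
        ⟨χ y + N 0 y + ∑ e, N e y * χ e, by rw [hWb, hsum, hχ y hy1, add_smul, add_smul]⟩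
      have e1 := congrArg (blk j y 1) hiso
      rw [blk_add, blk_add, blk_zero, hWlow y 1 hy0, ← sum_blk_mul j y 1 W,
        Finset.sum_eq_zero (fun f _ => by rw [hWlow y f hy0, zero_mul]), add_zero, zero_add,
        show blk j y 1 (adj σ (sT n (s + 1)) W) = adj σ (sT n (s + 1)) (blk j 0 y W) by
          rw [adj_blk, s1_other hy0 hy1, s1_zero],
        he, adj_smul, adj_one sT_inv, smul_eq_zero, map_eq_zero] at e1
      rw [he, e1.resolve_right one_mat_ne, zero_smul]
    have hWe : W = sx j 0 1 * blk j 0 1 W := by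
      refine ext_blk j fun x y => ?_
      rw [blk_right (cm_blk j 0 1 W), blk_sx]
      by_cases hxy : x = 0 ∧ y = 1
      · rw [if_pos hxy, one_mul, hxy.1, hxy.2]
      rw [if_neg hxy, zero_mul]
      by_cases hx : x = 0
      · subst hx
        by_cases hy : y = 0
        · rw [hy, hW00]
        · exact hW0y y hy fun e => hxy ⟨rfl, e⟩
      · exact hWlow x y hx
    obtain ⟨c, hc'⟩ := h.scalar (cm_blk j 0 1 W) ⟨G * sl j z, M.mul_mem hGM hzM, by rw [← hWe]; exact hG'e⟩
    refine ⟨c - N 0 1 - (∑ e, N e 1 * χ e) - μ, ?_⟩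
    rw [hWb, hsum, hX, show B' 1 1 = B' 0 0 from h11', hBB'] at hc'
    rw [sub_smul, sub_smul, sub_smul, ← hc', neg_smul, smul_neg]
    abel
  by_cases hx1 : x = 1
  · subst hx1
    by_cases hy : y = 1
    · subst hy; exact ⟨1, by rw [one_smul]; exact h11⟩
    · exact ⟨0, by rw [zero_smul]; exact hr y hy⟩
  by_cases hy0 : y = 0
  · subst hy0
    by_cases hx : x = 0
    · subst hx; exact ⟨1, (one_smul _ _).symm⟩
    · exact ⟨0, by rw [zero_smul]; exact hcl x hx⟩
  by_cases hx0 : x = 0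
  · subst hx0
    exact (hcor y hy0 fun e => hxy ⟨rfl, e⟩).1
  by_cases hy1 : y = 1
  · subst hy1
    have hterm : ∀ e, ∃ c : F, e ≠ 1 → B x e * B' e 1 = c • 1 := by
      intro e
      by_cases he1 : e = 1
      · exact ⟨0, fun h => absurd he1 h⟩
      by_cases he0 : e = 0
      · exact ⟨0, fun _ => by rw [he0, show B x 0 = 0 from hcl x hx0, zero_mul, zero_smul]⟩
      obtain ⟨α, hα⟩ := (hmid x e hx0 hx1 he0 he1).1
      obtain ⟨β, hβ⟩ := (hcor e he0 he1).2
      exact ⟨α * β, fun _ => by rw [hα, Matrix.smul_mul, hβ, smul_smul]⟩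
    choose γ hγ using hterm
    have e := hmul x 1
    rw [if_neg hx1, ← Finset.add_sum_erase _ _ (Finset.mem_univ 1),
      Finset.sum_congr rfl (fun e he => hγ e (Finset.ne_of_mem_erase he)), ← Finset.sum_smul,
      show B' 1 1 = B' 0 0 from h11', add_eq_zero_iff_eq_neg] at e
    refine ⟨-(∑ e ∈ Finset.univ.erase 1, γ e), ?_⟩
    show B x 1 = _
    rw [← mul_one (B x 1), ← hBB, ← mul_assoc, e, ← neg_smul, Matrix.smul_mul, one_mul]
  · exact (hmid x y hx0 hx1 hy0 hy1).1

end CfsgLib.Perm.Trans.TensorPowerU
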