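import Cfsg.Agent.Lib.Perm.Trans.TensorPowerU.Roots
import Cfsg.Agent.Lib.Perm.Trans.TensorPower.TwoClass

/-!
# A conjugate of a unitary root in the wreath subgroup is a root
-/

set_option autoImplicit false
set_option linter.all false

namespace CfsgLib.Perm.Trans.TensorPowerU

open scoped Matrix
open Matrix Cfsg.Geo CfsgLib.Perm.Asch CfsgLib.Perm.Trans CfsgLib.Perm.Trans.TensorPower

variable {F : Type*} [Field F] {σ : F ≃+* F} {n s t : ℕ} {hσ : ∀ a, σ (σ a) = a}

theorem dual_dual {ι : Type} (hσ : ∀ a, σ (σ a) = a) {S : ι → ι} (hS : Function.Involutive S) (u : ι → F) :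
    dual σ S (dual σ S u) = u := funext fun x => by rw [dual, dual, hσ, hS]

theorem IsURoot.isRoot {r : GL (Fin t → Fin (n + 3)) F} (hr : IsURoot σ r) : IsRoot r := by
  obtain ⟨i, u, hu, c, hu0, hc0, hc, rfl⟩ := hr
  refine ⟨i, c • u, dual σ (s1 n) u, smul_ne_zero hc0 hu0, fun e => hu0 (funext fun y => ?_),
    by rw [dotProduct_smul, hu, smul_zero], by rw [sl_coe, utv_coe, slot_add, slot_one, smul_vecMulVec]⟩
  have := congrFun e (s1 n y)
  simpa [dual, s1_inv y] using this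

/-- an isometric root is a unitary root -/
theorem uroot_of_root {r : GL (Fin t → Fin (n + 3)) F} (hr : IsRoot r) (hrU : r ∈ uT σ hσ n t) : IsURoot σ r := by
  obtain ⟨i, u, φ, hu0, hφ0, hφu, he⟩ := hr
  obtain ⟨w, rfl⟩ : ∃ w, φ = dual σ (s1 n) w := ⟨_, (dual_dual hσ s1_inv φ).symm⟩
  set V := vecMulVec w (dual σ (s1 n) w) with hV
  haveI : Nonempty (Fin (n + 3)) := ⟨0⟩
  have h1 := adj_of_one_add hrU he (by
    rw [slot_mul, vecMulVec_mul_vecMulVec, hφu, zero_smul,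
      show vecMulVec u (0 : Fin (n + 3) → F) = 0 by ext; simp [vecMulVec_apply], slot_zero])
  rw [adj_slot, adj_vecMulVec hσ s1_inv, ← slotHom_apply, ← slotHom_apply, ← map_neg, slotHom_apply,
    slotHom_apply] at h1
  have h2 := slot_injective i h1
  have hw0 : w ≠ 0 := fun e => hφ0 (by rw [e]; funext x; simp [dual])
  obtain ⟨a, ha⟩ := Function.ne_iff.1 hw0
  have ha' : w a ≠ 0 := ha
  have hdu : dual σ (s1 n) u = (-(u a) / w a) • dual σ (s1 n) w := funext fun x => by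
    have := congrFun (congrFun h2 a) x
    rw [Matrix.neg_apply, vecMulVec_apply, vecMulVec_apply] at this
    rw [Pi.smul_apply, smul_eq_mul, div_mul_eq_mul_div, eq_div_iff ha']
    linear_combination this
  obtain ⟨d, rfl⟩ : ∃ d : F, u = d • w := ⟨σ (-(u a) / w a), by
    conv_lhs => rw [← dual_dual hσ s1_inv u]
    rw [hdu, dual_smul, dual_dual hσ s1_inv]⟩
  have hd0 : d ≠ 0 := fun e => hu0 (by rw [e, zero_smul])
  have hww : dual σ (s1 n) w ⬝ᵥ w = 0 := by
    rw [dotProduct_smul, smul_eq_mul, mul_eq_zero] at hφu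
    exact hφu.resolve_left hd0
  have hV0 : V ≠ 0 := vmv_ne_zero hw0 hφ0
  rw [dual_smul, vecMulVec_smul, smul_vecMulVec, ← hV, ← neg_smul] at h2
  refine ⟨i, w, hww, d, hw0, hd0, smul_left_injective F hV0 h2, Units.ext ?_⟩
  rw [he, sl_coe, utv_coe, slot_add, slot_one, smul_vecMulVec]

/-- the factors of a wreath isometry are similitudes -/
theorem exists_sim {π : Equiv.Perm (Fin t)} {A : Fin t → GL (Fin (n + 3)) F}
    (h : permGL π * pureGL A ∈ uT σ hσ n t) (l : Fin t) :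
    ∃ ν : F, ν ≠ 0 ∧ σ ν = ν ∧
      (A l : Matrix (Fin (n + 3)) (Fin (n + 3)) F) * adj σ (s1 n) (A l : Matrix (Fin (n + 3)) (Fin (n + 3)) F) = ν • 1 := by
  have h1 : pureGL A ∈ uT σ hσ n t := by
    have := mul_mem (inv_mem (permGL_mem_uT (hσ := hσ) π)) h
    rwa [inv_mul_cancel_left] at this
  rw [mem_uSub, pureGL_coe, adj_pure, pure_mul, ← pure_one] at h1
  obtain ⟨ν, hν, e⟩ := pure_prop h1 (fun k e => gl_ne_zero (A k) (by
    have e1 := congrArg (((A k)⁻¹ : GL (Fin (n + 3)) F).val * ·) e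
    simp only [Pi.mul_apply, ← mul_assoc, gl_inv_mul, one_mul, mul_zero] at e1
    rw [← adj_adj hσ s1_inv (A k : Matrix (Fin (n + 3)) (Fin (n + 3)) F), e1, adj_zero])) (fun _ => one_ne_zero_mat) l
  rw [Pi.mul_apply, Pi.one_apply] at e
  refine ⟨ν, hν, ?_, e⟩
  have e2 := congrArg (adj σ (s1 n)) e
  rw [adj_mul s1_inv, adj_adj hσ s1_inv, e, adj_smul, adj_one s1_inv] at e2
  have := congrFun (congrFun e2 0) 0
  simpa using this.symm

/-- conjugation by a similitude preserves isometries -/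
theorem sim_conj_mem {A x : GL (Fin (n + 3)) F} {ν : F} (hν : ν ≠ 0)
    (hA : (A : Matrix (Fin (n + 3)) (Fin (n + 3)) F) * adj σ (s1 n) (A : Matrix (Fin (n + 3)) (Fin (n + 3)) F) = ν • 1)
    (hx : x ∈ u1 σ hσ n) : A * x * A⁻¹ ∈ u1 σ hσ n := by
  have h1 : adj σ (s1 n) (A : Matrix (Fin (n + 3)) (Fin (n + 3)) F) = ν • ((A⁻¹ : GL (Fin (n + 3)) F) : Matrix _ _ F) := by
    have := congrArg (((A⁻¹ : GL (Fin (n + 3)) F) : Matrix (Fin (n + 3)) (Fin (n + 3)) F) * ·) hA
    simpa only [← mul_assoc, gl_inv_mul, one_mul, Matrix.mul_smul, mul_one] using this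
  have h2 : adj σ (s1 n) ((A⁻¹ : GL (Fin (n + 3)) F) : Matrix (Fin (n + 3)) (Fin (n + 3)) F) =
      ν⁻¹ • (A : Matrix (Fin (n + 3)) (Fin (n + 3)) F) := by
    have h3 : adj σ (s1 n) ((A⁻¹ : GL (Fin (n + 3)) F) : Matrix (Fin (n + 3)) (Fin (n + 3)) F) *
        adj σ (s1 n) (A : Matrix (Fin (n + 3)) (Fin (n + 3)) F) = 1 := by
      rw [← adj_mul s1_inv, gl_mul_inv, adj_one s1_inv]
    have := congrArg (· * (A : Matrix (Fin (n + 3)) (Fin (n + 3)) F)) h3
    simp only [h1, Matrix.mul_smul, Matrix.smul_mul, mul_assoc, gl_inv_mul, mul_one, one_mul] at this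
    rw [← this, smul_smul, inv_mul_cancel₀ hν, one_smul]
  rw [mem_uSub, Units.val_mul, Units.val_mul, adj_mul s1_inv, adj_mul s1_inv, h1, h2, adj_of_mem hx]
  simp only [Matrix.smul_mul, Matrix.mul_smul, smul_smul, mul_inv_cancel₀ hν, one_smul, ← mul_assoc]
  rw [mul_assoc ((A : Matrix (Fin (n + 3)) (Fin (n + 3)) F) * _) _ (A : Matrix (Fin (n + 3)) (Fin (n + 3)) F),
    gl_inv_mul, mul_one, mul_assoc (A : Matrix (Fin (n + 3)) (Fin (n + 3)) F), gl_mul_inv, mul_one, gl_mul_inv]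

theorem rt_mul (c d : F) : rt (n := n) σ c * rt σ d = rt σ (c + d) := Units.ext (by
  rw [Units.val_mul, rt_coe, rt_coe, rt_coe]
  have hz : Matrix.single (0 : Fin (n + 3)) (1 : Fin (n + 3)) (1 : F) *
      Matrix.single (0 : Fin (n + 3)) (1 : Fin (n + 3)) (1 : F) = 0 :=
    Matrix.single_mul_single_of_ne (h := show (1 : Fin (n + 3)) ≠ 0 by simp) ..
  simp only [add_mul, mul_add, one_mul, mul_one, Matrix.smul_mul, Matrix.mul_smul, hz, smul_zero, add_zero, add_smul]
  abel)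

theorem rt_zero : rt (n := n) σ 0 = 1 := Units.ext (by rw [rt_coe, zero_smul, add_zero, Units.val_one])

theorem tor_conj_rt (hσ : ∀ a, σ (σ a) = a) (x : Fˣ) (c : F) :
    tor σ n x * rt σ c * (tor σ n x)⁻¹ = rt σ (c * ((x : F) * σ x)) := Units.ext (by
  rw [← cj_coe, rt_coe, rt_coe, cj_add, cj_one, cj_smul, cj_tor hσ, smul_smul])

/-- projective involutions commuting with the standard root in dimension three -/
theorem inv_shape {B : Matrix (Fin 3) (Fin 3) F} (h2 : (2 : F) = 0) {c ν : F} (hc : c ≠ 0)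
    (hsq : B * B = c • 1) (hsim : B * adj σ (Equiv.swap (0 : Fin 3) 1) B = ν • 1)
    (hcom : B * Matrix.single 0 1 1 = Matrix.single 0 1 1 * B) : ∃ a β : F, B = a • 1 + β • Matrix.single 0 1 1 := by
  have E : ∀ x y, (B * Matrix.single 0 1 (1 : F) : Matrix (Fin 3) (Fin 3) F) x y =
      (Matrix.single 0 1 (1 : F) * B : Matrix (Fin 3) (Fin 3) F) x y := fun x y => by rw [hcom]
  have b10 : B 1 0 = 0 := by simpa [Matrix.mul_apply, Matrix.single_apply] using (E 1 1)
  have b20 : B 2 0 = 0 := by simpa [Matrix.mul_apply, Matrix.single_apply] using (E 2 1)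
  have b12 : B 1 2 = 0 := by simpa [Matrix.mul_apply, Matrix.single_apply] using (E 0 2).symm
  have b11 : B 1 1 = B 0 0 := by simpa [Matrix.mul_apply, Matrix.single_apply] using (E 0 1).symm
  have hS : ∀ x y, (B * B : Matrix (Fin 3) (Fin 3) F) x y = (c • (1 : Matrix (Fin 3) (Fin 3) F)) x y :=
    fun x y => by rw [hsq]
  have s00 : B 0 0 * B 0 0 = c := by simpa [Matrix.mul_apply, Fin.sum_univ_three, b10, b20] using hS 0 0
  have s22 : B 2 2 * B 2 2 = c := by simpa [Matrix.mul_apply, Fin.sum_univ_three, b20, b12] using hS 2 2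
  have b22 : B 2 2 = B 0 0 := by
    have : (B 2 2 - B 0 0) * (B 2 2 - B 0 0) = 0 := by
      linear_combination s22 - s00 + (B 0 0 * B 0 0 - B 2 2 * B 0 0) * h2
    exact sub_eq_zero.1 (mul_self_eq_zero.1 this)
  have ha : B 0 0 ≠ 0 := fun e => hc (by rw [← s00, e, zero_mul])
  have s01 : B 0 2 * B 2 1 = 0 := by
    have h3 := hS 0 1
    simp [Matrix.mul_apply, Fin.sum_univ_three, b11] at h3
    linear_combination h3 - (B 0 0 * B 0 1) * h2
  have t02 : B 0 0 * σ (B 2 1) + B 0 2 * σ (B 2 2) = 0 := by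
    have := congrFun (congrFun hsim 0) 2
    simpa [Matrix.mul_apply, Fin.sum_univ_three, adj_apply, b20, Equiv.swap_apply_of_ne_of_ne] using this
  rw [b22] at t02
  have hboth : B 0 2 = 0 ∧ B 2 1 = 0 := by
    rcases mul_eq_zero.1 s01 with h | h
    · refine ⟨h, ?_⟩
      rw [h, zero_mul, add_zero, mul_eq_zero, map_eq_zero] at t02
      exact t02.resolve_left ha
    · refine ⟨?_, h⟩
      rw [h, map_zero, mul_zero, zero_add, mul_eq_zero, map_eq_zero] at t02
      exact t02.resolve_right ha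
  refine ⟨B 0 0, B 0 1, ?_⟩
  ext x y
  fin_cases x <;> fin_cases y <;> simp [b10, b20, b12, b11, b22, hboth.1, hboth.2]

variable [Fintype F]

/-- no transposition of two factors among at least three is conjugate to a root -/
theorem UCtx.no_swap_three {M : Subgroup (GL (Fin (s + 1) → Fin (n + 3)) F)} (h : UCtx σ hσ M)
    (hin : InnerU σ hσ n s) (h2 : (2 : F) = 0) (h4 : 4 < Fintype.card F) {r g : GL (Fin (s + 1) → Fin (n + 3)) F}
    (hr : IsURoot σ r) (hg : g ∈ M) {a b : Fin (s + 1)} (hab : a ≠ b) {A : Fin (s + 1) → GL (Fin (n + 3)) F}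
    (hA : g * r * g⁻¹ = permGL (Equiv.swap a b) * pureGL A) {k : Fin (s + 1)} (hka : k ≠ a) (hkb : k ≠ b) {c : F}
    (hk : (A k : Matrix (Fin (n + 3)) (Fin (n + 3)) F) = c • 1) : False := by
  classical
  have hconj : ∀ d : F, d ≠ 0 → σ d = d →
      ∃ τ : Equiv.Perm (Fin (s + 1)), HasPerm (g⁻¹ * sl k (rt σ d) * g) τ ∧ Equiv.Perm.sign τ = -1 := by
    intro d hd0 hd
    have hxr : IsURoot σ (sl k (rt (n := n) σ d)) := ⟨k, Pi.single 0 1, e0_iso, d, by simp, hd0,
      by rw [hd, eq_neg_iff_add_eq_zero, ← two_mul, h2, zero_mul], rfl⟩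
    have hcom : permGL (Equiv.swap a b) * pureGL A * sl k (rt σ d) =
        sl k (rt σ d) * (permGL (Equiv.swap a b) * pureGL A) := by
      refine wreath_comm fun l => ?_
      rcases eq_or_ne l k with rfl | hl
      · rw [Equiv.swap_apply_of_ne_of_ne hka hkb, Pi.mulSingle_eq_same]
        exact Units.ext (by rw [Units.val_mul, Units.val_mul, hk, Matrix.smul_mul, Matrix.mul_smul, one_mul, mul_one])
      · have h1 : Equiv.swap a b l ≠ k := fun e => hl (by
          rw [← Equiv.swap_apply_of_ne_of_ne hka hkb] at e; exact (Equiv.swap a b).injective e)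
        rw [Pi.mulSingle_eq_of_ne hl, Pi.mulSingle_eq_of_ne h1, one_mul, mul_one]
    rw [← hA] at hcom
    have hc : g⁻¹ * sl k (rt σ d) * g * r = r * (g⁻¹ * sl k (rt σ d) * g) := by
      calc g⁻¹ * sl k (rt σ d) * g * r = g⁻¹ * (sl k (rt σ d) * (g * r * g⁻¹)) * g := by group
        _ = g⁻¹ * (g * r * g⁻¹ * sl k (rt σ d)) * g := by rw [hcom]
        _ = r * (g⁻¹ * sl k (rt σ d) * g) := by group
    have hmem : g⁻¹ * sl k (rt σ d) * g ∈ M := M.mul_mem (M.mul_mem (M.inv_mem hg) (hxr.mem h.base)) hg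
    obtain ⟨τ, B, hB⟩ := tw_shape (h.root_centraliser hin hr hmem hc)
    refine ⟨τ, ⟨B, hB⟩, ?_⟩
    rcases conj_root_cases (by omega) (g := g⁻¹) hxr.isRoot (by rw [inv_inv]; exact hB) with
      hroot | ⟨-, -, a', b', hab', hτ, -⟩
    · exfalso
      rw [inv_inv] at hroot
      have hgw : g ∈ tensorWreathStandard (n + 3) (s + 1) F := by
        rw [← Subgroup.inv_mem_iff]
        refine h.fusion hin hxr (M.inv_mem hg) ?_
        rw [inv_inv]
        exact uroot_of_root hroot (h.le hmem)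
      have h1 : HasPerm (g * r * g⁻¹) (Equiv.swap a b) := ⟨A, hA⟩
      exact hab (Equiv.swap_eq_refl_iff.1 (h1.unique (by omega) (hr.isRoot.conj_tw hgw).hasPerm))
    · rw [hτ]; exact Equiv.Perm.sign_swap hab'
  obtain ⟨x, hx⟩ := exists_norm_ne_one h.sc h4
  have hx0 : (x : F) * σ x ≠ 0 := mul_ne_zero x.ne_zero (by simpa using x.ne_zero)
  have hxσ : σ ((x : F) * σ x) = (x : F) * σ x := by rw [map_mul, h.sc.invol, mul_comm]
  have hsum : 1 + (x : F) * σ x ≠ 0 := fun e => hx (by linear_combination e - h2)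
  obtain ⟨τ₁, hp₁, hs₁⟩ := hconj 1 one_ne_zero (map_one σ)
  obtain ⟨τ₂, hp₂, hs₂⟩ := hconj _ hx0 hxσ
  obtain ⟨τ, hp, hs⟩ := hconj _ hsum (by rw [map_add, map_one, hxσ])
  rw [← rt_mul, ← sl_mul, show g⁻¹ * (sl k (rt σ 1) * sl k (rt σ ((x : F) * σ x))) * g =
    g⁻¹ * sl k (rt σ 1) * g * (g⁻¹ * sl k (rt σ ((x : F) * σ x)) * g) by group] at hp
  rw [HasPerm.unique (by omega) hp (hp₁.mul hp₂), map_mul, hs₁, hs₂] at hs
  exact absurd hs (by decide)

/-- the transposition of two factors of dimension three is not conjugate to a root -/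
theorem UCtx.no_swap_two {M : Subgroup (GL (Fin (1 + 1) → Fin (0 + 3)) F)} (h : UCtx σ hσ M)
    (hin : InnerU σ hσ 0 1) (h2 : (2 : F) = 0) (h4 : 4 < Fintype.card F) {r g : GL (Fin (1 + 1) → Fin (0 + 3)) F}
    (hr : IsURoot σ r) (hg : g ∈ M) {a b : Fin (1 + 1)} (hab : a ≠ b) {A : Fin (1 + 1) → GL (Fin (0 + 3)) F}
    (hA : g * r * g⁻¹ = permGL (Equiv.swap a b) * pureGL A) {c : F} (hc0 : c ≠ 0)
    (hc : (A b : Matrix (Fin (0 + 3)) (Fin (0 + 3)) F) * (A a : Matrix (Fin (0 + 3)) (Fin (0 + 3)) F) = c • 1) :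
    False := by
  classical
  -- standard coordinates for the root
  obtain ⟨i, P, κ, hP, hPd, hκ0, hκ, hPr⟩ := hr.to_standard (hσ := hσ) h.sc
  have hP' : sl i P ∈ M := h.base i P hP hPd
  obtain ⟨r', hr'⟩ : ∃ r', r' = sl i (rt (n := 0) σ κ) := ⟨_, rfl⟩
  obtain ⟨g', hg'⟩ : ∃ g', g' = g * (sl i P)⁻¹ := ⟨_, rfl⟩
  have hA' : g' * r' * g'⁻¹ = permGL (Equiv.swap a b) * pureGL A := by
    rw [← hA, hr', ← hPr, hg']; group
  have hgM : g' ∈ M := hg' ▸ M.mul_mem hg (M.inv_mem hP')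
  have hrr : IsURoot σ r' := hr' ▸ ⟨i, Pi.single 0 1, e0_iso, κ, by simp, hκ0, hκ, rfl⟩
  clear hg' hA hr hg g r hPr
  have htwo : ∀ l, l = a ∨ l = b := by
    intro l
    clear * - hab
    revert hab
    revert a b l
    decide
  obtain ⟨ν, hν0, -, hν⟩ := exists_sim (hσ := hσ)
    (hA' ▸ h.le (M.mul_mem (M.mul_mem hgM (hrr.mem h.base)) (M.inv_mem hgM))) a
  let Δ : GL (Fin (0 + 3)) F → Fin (1 + 1) → GL (Fin (0 + 3)) F := fun x l => if l = a then x else A a * x * (A a)⁻¹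
  have hΔmul : ∀ x y, Δ (x * y) = Δ x * Δ y := fun x y => funext fun l => by
    simp only [Δ, Pi.mul_apply]
    split_ifs <;> group
  let ψ : GL (Fin (0 + 3)) F → GL (Fin (1 + 1) → Fin (0 + 3)) F := fun x => g'⁻¹ * pureGL (Δ x) * g'
  have hψmul : ∀ x y, ψ (x * y) = ψ x * ψ y := fun x y => by
    simp only [ψ, hΔmul, ← pureGL_mul]; group
  have hψ1 : ψ 1 = 1 := by
    have : Δ 1 = 1 := funext fun l => by simp [Δ]
    simp [ψ, this, pureGL_one]
  have hψinv : ∀ x, ψ x⁻¹ = (ψ x)⁻¹ := fun x =>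
    (inv_eq_of_mul_eq_one_right (by rw [← hψmul, mul_inv_cancel, hψ1])).symm
  have hψtw : ∀ x : GL (Fin (0 + 3)) F, x ∈ u1 σ hσ 0 → (x : Matrix (Fin (0 + 3)) (Fin (0 + 3)) F).det = 1 →
      ψ x ∈ tensorWreathStandard (0 + 3) (1 + 1) F ∧ ψ x * r' = r' * ψ x ∧ ψ x ∈ uT σ hσ 0 (1 + 1) := by
    intro x hx hxd
    have hcom : permGL (Equiv.swap a b) * pureGL A * pureGL (Δ x) =
        pureGL (Δ x) * (permGL (Equiv.swap a b) * pureGL A) := by
      refine wreath_comm fun l => ?_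
      rcases htwo l with hl | hl <;> rw [hl]
      · simp [Δ, hab.symm]
      · simp only [Δ, Equiv.swap_apply_right, if_neg hab.symm, if_true]
        refine Units.ext ?_
        simp only [Units.val_mul, ← mul_assoc, hc]
        rw [Matrix.smul_mul, one_mul]
        have hb : (A b : Matrix (Fin (0 + 3)) (Fin (0 + 3)) F) =
            c • (((A a)⁻¹ : GL (Fin (0 + 3)) F) : Matrix (Fin (0 + 3)) (Fin (0 + 3)) F) := by
          rw [← mul_one (A b : Matrix (Fin (0 + 3)) (Fin (0 + 3)) F), ← gl_mul_inv (A a), ← mul_assoc, hc,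
            Matrix.smul_mul, one_mul]
        rw [hb, Matrix.mul_smul, Matrix.smul_mul]
    rw [← hA'] at hcom
    have hc' : ψ x * r' = r' * ψ x := by
      calc g'⁻¹ * pureGL (Δ x) * g' * r' = g'⁻¹ * (pureGL (Δ x) * (g' * r' * g'⁻¹)) * g' := by group
        _ = g'⁻¹ * (g' * r' * g'⁻¹ * pureGL (Δ x)) * g' := by rw [hcom]
        _ = r' * (g'⁻¹ * pureGL (Δ x) * g') := by group
    have hdet : pureGL (Δ x) ∈ M := h.base.pure_mem _ (fun l => by
      simp only [Δ]
      split_ifs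
      · exact hx
      · exact sim_conj_mem hν0 hν hx) fun l => by
      simp only [Δ]
      split_ifs
      · exact hxd
      · exact det_conj hxd
    have hmem : ψ x ∈ M := M.mul_mem (M.mul_mem (M.inv_mem hgM) hdet) hgM
    exact ⟨h.root_centraliser hin hrr hmem hc', hc', h.le hmem⟩
  have hperm2 : ∀ τ : Equiv.Perm (Fin (1 + 1)), τ * τ = 1 := by decide
  have hsqpure : ∀ x, x ∈ u1 σ hσ 0 → (x : Matrix (Fin (0 + 3)) (Fin (0 + 3)) F).det = 1 →
      ∃ B, ψ (x * x) = pureGL B := by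
    intro x hx hxd
    obtain ⟨τ, B, hB⟩ := tw_shape (hψtw x hx hxd).1
    have h1 : HasPerm (ψ (x * x)) (τ * τ) := by rw [hψmul]; exact HasPerm.mul ⟨B, hB⟩ ⟨B, hB⟩
    rw [hperm2] at h1
    obtain ⟨B₀, hB₀⟩ := h1
    exact ⟨B₀, by rw [hB₀, permGL_one, one_mul]⟩
  have hfix : ∀ (x : GL (Fin (0 + 3)) F) (B : Fin (1 + 1) → GL (Fin (0 + 3)) F), x ∈ u1 σ hσ 0 →
      (x : Matrix (Fin (0 + 3)) (Fin (0 + 3)) F).det = 1 → ψ x = pureGL B →
      (B i : Matrix (Fin (0 + 3)) (Fin (0 + 3)) F) * Matrix.single 0 1 1 =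
        Matrix.single 0 1 1 * (B i : Matrix (Fin (0 + 3)) (Fin (0 + 3)) F) := by
    intro x B hx hxd hB
    have h1 := (hψtw x hx hxd).2.1
    rw [hB] at h1
    have h3 := congrArg Units.val h1
    rw [Units.val_mul, Units.val_mul, hr', sl_coe, rt_coe, slot_add, slot_one, slot_smul, mul_add, add_mul, mul_one,
      one_mul, add_right_inj, Matrix.mul_smul, Matrix.smul_mul] at h3
    have h4 := cj_eq_self (smul_right_injective _ hκ0 h3)
    rw [cj_pureGL_slot] at h4
    haveI : Nonempty (Fin (0 + 3)) := ⟨0⟩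
    have h5 := slot_injective i h4
    conv_rhs => rw [← h5]
    rw [cj, mul_assoc _ _ (B i : Matrix (Fin (0 + 3)) (Fin (0 + 3)) F), gl_inv_mul, mul_one]
  obtain ⟨μ, hμ⟩ := h.sc.exists_trace 1
  set η : GL (Fin (0 + 3)) F := eta σ 2 two_ne.1 two_ne.2 1 μ with hη
  have hneg : ∀ y : F, -y = y := fun y => by rw [neg_eq_iff_add_eq_zero, ← two_mul, h2, zero_mul]
  have hηη : η * η = rt σ 1 := Units.ext (by
    rw [Units.val_mul, hη, eta_coe, rt_coe, map_one, hneg]
    have e2 : ∀ X : Matrix (Fin (0 + 3)) (Fin (0 + 3)) F, X + X = 0 := fun X => by rw [← two_smul F X, h2, zero_smul]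
    set N : Matrix (Fin (0 + 3)) (Fin (0 + 3)) F :=
      Matrix.single 2 1 1 + Matrix.single 0 2 1 + Matrix.single 0 1 μ with hN
    have hNN : N * N = Matrix.single 0 1 1 := by
      rw [hN]
      simp [add_mul, mul_add, Matrix.single_mul_single_of_ne, two_ne.1, two_ne.2, two_ne.1.symm, two_ne.2.symm]
    rw [one_smul, add_mul, one_mul, mul_add, mul_one, hNN, ← add_assoc, add_assoc (1 : Matrix _ _ F) N N, e2,
      add_zero])
  obtain ⟨B, hB⟩ := hsqpure η (eta_mem hσ _ _ hμ) (eta_det _ _ _ _)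
  rw [hηη] at hB
  have hrtm : ∀ d, σ d = d → rt (n := 0) σ d ∈ u1 σ hσ 0 := fun d hd => TensorPowerU.utv_mem hσ _ _ (by rw [hd, hneg])
  have hrtd : ∀ d, ((rt σ d : GL (Fin (0 + 3)) F) : Matrix (Fin (0 + 3)) (Fin (0 + 3)) F).det = 1 :=
    fun d => utv_det _ _ _
  obtain ⟨x, hx⟩ := exists_norm_ne_one h.sc h4
  set ρ := (x : F) * σ x with hρ
  have hρσ : σ ρ = ρ := by rw [hρ, map_mul, h.sc.invol, mul_comm]
  obtain ⟨E, hE⟩ := hsqpure (tor σ 0 x) (tor_mem x) (tor_det x)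
  -- the component of the product in the slot of the root
  have hBcom := hfix _ B (hrtm 1 (map_one σ)) (hrtd 1) hB
  have hEcom := hfix _ E (mul_mem (tor_mem x) (tor_mem x)) (by rw [Units.val_mul, Matrix.det_mul, tor_det, one_mul]) hE
  have hBsq : pureGL B * pureGL B = 1 := by
    rw [← hB, ← hψmul, rt_mul, show (1 : F) + 1 = 0 by rw [one_add_one_eq_two, h2], rt_zero, hψ1]
  obtain ⟨c₁, hc₁, hBB⟩ := sq_scalar_of_pure_sq hBsq i
  obtain ⟨ν₁, -, -, hBsim⟩ := exists_sim (hσ := hσ) (π := 1) (A := B)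
    (by rw [permGL_one, one_mul, ← hB]; exact (hψtw _ (hrtm 1 (map_one σ)) (hrtd 1)).2.2) i
  obtain ⟨α, β, hαβ⟩ := inv_shape (σ := σ) h2 hc₁ hBB hBsim hBcom
  have hEB : E i * B i * (E i)⁻¹ = B i := by
    rw [mul_inv_eq_iff_eq_mul]
    refine Units.ext ?_
    rw [Units.val_mul, Units.val_mul, hαβ, mul_add, add_mul, Matrix.mul_smul, Matrix.mul_smul, Matrix.smul_mul,
      Matrix.smul_mul, mul_one, one_mul]
    exact congrArg _ (congrArg (β • ·) hEcom)
  set d := 1 + 1 * ρ * ρ with hd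
  have hd0 : d ≠ 0 := fun e => hx (by
    have : (ρ - 1) * (ρ - 1) = 0 := by rw [hd] at e; linear_combination e - ρ * h2
    exact sub_eq_zero.1 (mul_self_eq_zero.1 this))
  have hdσ : σ d = d := by rw [hd, map_add, map_mul, map_mul, map_one, hρσ]
  have hconjT : tor σ 0 x * tor σ 0 x * rt σ 1 * (tor σ 0 x * tor σ 0 x)⁻¹ = rt σ (1 * ρ * ρ) := by
    rw [hρ, ← tor_conj_rt hσ, ← tor_conj_rt hσ]; group
  set B₂ : Fin (1 + 1) → GL (Fin (0 + 3)) F := B * (E * B * fun l => (E l)⁻¹) with hB₂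
  have hψd : ψ (rt σ d) = pureGL B₂ := by
    rw [hd, ← rt_mul, ← hconjT, hψmul, hψmul, hψmul, hψinv, hB, hE, hB₂, ← pureGL_mul, ← pureGL_mul, ← pureGL_mul]
    rw [inv_eq_of_mul_eq_one_right (show pureGL E * pureGL (fun l => (E l)⁻¹) = 1 by
      rw [pureGL_mul, show E * (fun l => (E l)⁻¹) = 1 from funext fun l => mul_inv_cancel (E l), pureGL_one])]
  have hBi : (B₂ i : Matrix (Fin (0 + 3)) (Fin (0 + 3)) F) = c₁ • 1 := by
    rw [hB₂, Pi.mul_apply, Pi.mul_apply, Pi.mul_apply, hEB, Units.val_mul, hBB]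
  haveI : Nonempty (Fin (0 + 3)) := ⟨0⟩
  obtain ⟨j, hji⟩ : ∃ j : Fin (1 + 1), j ≠ i := by
    clear * -
    revert i
    decide
  have hij : ∀ l, l = i ∨ l = j := by
    intro l
    clear * - hji
    revert hji
    revert i j l
    decide
  set Y := c₁ • (B₂ j : Matrix (Fin (0 + 3)) (Fin (0 + 3)) F) with hY
  have hmat : (ψ (rt σ d) : Matrix (Fin (1 + 1) → Fin (0 + 3)) (Fin (1 + 1) → Fin (0 + 3)) F) = slot j Y := by
    ext p q
    rw [hψd, pureGL_coe, slot_apply, pure_apply]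
    have hsplit : ∀ f : Fin (1 + 1) → F, ∏ l, f l = f i * f j := fun f => by
      rw [← Finset.prod_pair hji.symm]
      refine (Finset.prod_congr (Finset.ext fun l => ?_) fun _ _ => rfl)
      simpa using hij l
    rw [hsplit, hBi]
    by_cases hpq : p i = q i
    · rw [if_pos (fun k hk => by rw [(hij k).resolve_right hk]; exact hpq)]
      simp [hY, hpq, Matrix.one_apply]
    · rw [if_neg (fun hh => hpq (hh i hji.symm))]
      simp [Matrix.one_apply_ne hpq]
  have hYY : (Y - 1) * (Y - 1) = 0 := by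
    have h1 : Y * Y = 1 := slot_injective j (by
      rw [← slot_mul, ← hmat, ← Units.val_mul, ← hψmul, rt_mul, show d + d = 0 by rw [← two_mul, h2, zero_mul], rt_zero,
        hψ1, Units.val_one,
        slot_one])
    rw [sub_mul, mul_sub, one_mul, mul_one, h1, show (1 : Matrix (Fin (0 + 3)) (Fin (0 + 3)) F) - Y - (Y - 1) =
      (2 : F) • (1 - Y) by rw [two_smul]; abel, h2, zero_smul]
  obtain ⟨v, χ, hv, hχv⟩ := sq_zero_three hYY
  have hns : ∀ e : F, (rt σ d : GL (Fin (0 + 3)) F).val ≠ e • 1 := fun e he => hd0 (by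
    have := congrFun (congrFun he 0) 1
    simpa [rt_coe] using this)
  have hne : vecMulVec v χ ≠ 0 := fun e => by
    rw [e, sub_eq_zero] at hv
    have h1 : ψ (rt σ d) = 1 := Units.ext (by rw [hmat, hv, slot_one, Units.val_one])
    have h3 : pureGL (Δ (rt σ d)) = (1 : GL (Fin (1 + 1) → Fin (0 + 3)) F) := by
      rw [show pureGL (Δ (rt σ d)) = g' * ψ (rt σ d) * g'⁻¹ by simp only [ψ]; group, h1]; group
    have h5 := congrArg Units.val (h3.trans pureGL_one.symm)
    rw [pureGL_coe, pureGL_coe] at h5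
    obtain ⟨e', -, he'⟩ := pure_prop h5 (fun l => gl_ne_zero _) (fun l => gl_ne_zero _) a
    simp only [Δ, if_true, Pi.one_apply, Units.val_one] at he'
    exact hns e' he'
  have hroot : IsRoot (ψ (rt σ d)) := ⟨j, v, χ, fun e => hne (by rw [e]; ext; simp [vecMulVec_apply]),
    fun e => hne (by rw [e]; ext; simp [vecMulVec_apply]), hχv, by
      rw [hmat, ← hv, slot_sub, slot_one, add_sub_cancel]⟩
  have hconj : g' * ψ (rt σ d) * g'⁻¹ = permGL 1 * pureGL (Δ (rt σ d)) := by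
    rw [permGL_one, one_mul]; simp only [ψ]; group
  rcases conj_root_cases le_rfl hroot hconj with hR | ⟨-, -, a', b', hab', h1, -⟩
  · rw [hconj, permGL_one, one_mul] at hR
    obtain ⟨k, u', φ', hφu', -, -, hk⟩ := hR.sl_form
    rw [sl] at hk
    have h5 := congrArg Units.val hk
    rw [pureGL_coe, pureGL_coe] at h5
    obtain ⟨l, hl⟩ : ∃ l : Fin (1 + 1), l ≠ k := by
      clear * -
      revert k
      decide
    obtain ⟨e, -, he⟩ := pure_prop h5 (fun l => gl_ne_zero _) (fun l => gl_ne_zero _) l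
    rw [Pi.mulSingle_eq_of_ne hl, Units.val_one] at he
    rcases htwo l with hla | hla <;> rw [hla] at he
    · simp only [Δ, if_true] at he
      exact hns e he
    · simp only [Δ, if_neg hab.symm] at he
      refine hns e ?_
      apply cj_injective (A a)
      rw [cj_coe, he, cj_smul, cj_one]
  · exact hab' (Equiv.swap_eq_refl_iff.1 h1.symm)

/-- a conjugate of a root lying in the wreath subgroup is a root -/
theorem UCtx.cls {M : Subgroup (GL (Fin (s + 1) → Fin (n + 3)) F)} (h : UCtx σ hσ M) (hin : InnerU σ hσ n s)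
    {r g : GL (Fin (s + 1) → Fin (n + 3)) F} (hr : IsURoot σ r) (hg : g ∈ M)
    (hw : g * r * g⁻¹ ∈ tensorWreathStandard (n + 3) (s + 1) F) : IsURoot σ (g * r * g⁻¹) := by
  classical
  obtain ⟨π, A, hA⟩ := tw_shape hw
  rcases conj_root_cases (by omega) hr.isRoot hA with hR | ⟨h2, hm3, a, b, hab, rfl, ⟨c, hc0, hc⟩, hsc⟩
  · exact uroot_of_root hR (h.le (M.mul_mem (M.mul_mem hg (hr.mem h.base)) (M.inv_mem hg)))
  exfalso
  obtain rfl : n = 0 := by omega
  have h4 : 4 < Fintype.card F := h.hq.resolve_left (by omega)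
  by_cases hk : ∃ k, k ≠ a ∧ k ≠ b
  · obtain ⟨k, hka, hkb⟩ := hk
    obtain ⟨d, hd⟩ := hsc k hka hkb
    exact h.no_swap_three hin h2 h4 hr hg hab hA hka hkb hd
  push Not at hk
  obtain rfl : s = 1 := by
    have h1 : (Finset.univ : Finset (Fin (s + 1))) = {a, b} := Finset.ext fun l => by
      by_cases hla : l = a
      · simp [hla]
      · simp [hla, hk l hla]
    have h3 := congrArg Finset.card h1
    rw [Finset.card_pair hab, Finset.card_univ, Fintype.card_fin] at h3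
    omega
  exact h.no_swap_two hin h2 h4 hr hg hab hA hc0 hc

end CfsgLib.Perm.Trans.TensorPowerU
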