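import Cfsg.Agent.Lib.Perm.Trans.TensorPowerU.Vec
import Cfsg.Agent.Lib.Perm.Trans.TensorPower.Main

/-!
# The elements with a root in one factor, and their cofactors
-/

set_option autoImplicit false
set_option linter.all false

namespace CfsgLib.Perm.Trans.TensorPowerU

open scoped Matrix
open Matrix Cfsg.Geo CfsgLib.Perm.Asch CfsgLib.Perm.Trans CfsgLib.Perm.Trans.TensorPower

variable {F : Type*} [Field F] {σ : F ≃+* F} {n t s : ℕ} {hσ : ∀ a, σ (σ a) = a}

/-- `s1` commutes with the deletion of a factor -/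
theorem sT_succAbove (j : Fin (s + 1)) (x : Fin (s + 1) → Fin (n + 3)) :
    (fun i => sT n (s + 1) x (j.succAbove i)) = sT n s fun i => x (j.succAbove i) := rfl

theorem adj_emb (j : Fin (s + 1)) (X : Matrix (Fin s → Fin (n + 3)) (Fin s → Fin (n + 3)) F) :
    adj σ (sT n (s + 1)) (emb j X) = emb j (adj σ (sT n s) X) := by
  ext x y
  rw [adj_apply, emb_apply, emb_apply, apply_ite σ, map_zero, sT_succAbove, sT_succAbove, adj_apply]
  refine if_congr ⟨fun h => (s1_inv.injective h).symm, fun h => by show s1 n (y j) = s1 n (x j); rw [h]⟩ rfl rfl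

theorem embGL_mem_iff (j : Fin (s + 1)) {g : GL (Fin s → Fin (n + 3)) F} :
    embGL j g ∈ uT σ hσ n (s + 1) ↔ g ∈ uT σ hσ n s := by
  rw [mem_uSub, mem_uSub, embGL_coe, adj_emb, ← map_mul]
  exact ⟨fun h => emb_injective j (h.trans (map_one (emb j)).symm), fun h => by rw [h, map_one]⟩

theorem cj_embGL (j : Fin (s + 1)) (g : GL (Fin s → Fin (n + 3)) F)
    (X : Matrix (Fin s → Fin (n + 3)) (Fin s → Fin (n + 3)) F) :
    cj (embGL j g) (emb j X) = emb j (cj g X) := by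
  rw [cj, cj, ← map_inv, embGL_coe, embGL_coe, map_mul, map_mul]

theorem cj_embGL_sx (j : Fin (s + 1)) (g : GL (Fin s → Fin (n + 3)) F) (a b : Fin (n + 3)) :
    cj (embGL j g) (sx j a b) = sx (F := F) j a b :=
  cj_eq_self (by rw [embGL_coe]; exact (emb_comm_units j _ a b).symm)

theorem cj_sl_emb (j : Fin (s + 1)) (a : GL (Fin (n + 3)) F)
    (X : Matrix (Fin s → Fin (n + 3)) (Fin s → Fin (n + 3)) F) : cj (sl j a) (emb j X) = emb j X :=
  cj_eq_self (by rw [sl_coe]; exact comm_slot_of_units (emb_comm_units j X) _)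

theorem pure_split (j : Fin (s + 1)) (A : Fin (s + 1) → Matrix (Fin (n + 3)) (Fin (n + 3)) F) :
    CfsgLib.Perm.Asch.pure A = slot j (A j) * emb j (CfsgLib.Perm.Asch.pure fun i => A (j.succAbove i)) := by
  rw [emb_pure, slot_mul_pure, Fin.insertNth_apply_same, mul_one, Fin.update_insertNth]
  exact congrArg _ (Fin.insertNth_self_removeNth j A).symm

/-- a root in one factor times a cofactor -/
def rx01 (j : Fin (s + 1)) : Matrix (Fin s → Fin (n + 3)) (Fin s → Fin (n + 3)) F →ₗ[F]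
    Matrix (Fin (s + 1) → Fin (n + 3)) (Fin (s + 1) → Fin (n + 3)) F :=
  (LinearMap.mulLeft F (sx j 0 1)) ∘ₗ (emb j).toLinearMap

theorem rx01_apply (j : Fin (s + 1)) (Z : Matrix (Fin s → Fin (n + 3)) (Fin s → Fin (n + 3)) F) :
    rx01 j Z = sx j 0 1 * emb j Z := rfl

theorem rx01_injective (j : Fin (s + 1)) : Function.Injective (rx01 (F := F) (n := n) j) := by
  intro Z Z' h
  ext x y
  have e := congrFun (congrFun h (j.insertNth 0 x)) (j.insertNth 1 y)
  simpa [rx01_apply, sx_mul_apply, emb_apply] using e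

theorem adj_rx01 (j : Fin (s + 1)) (Z : Matrix (Fin s → Fin (n + 3)) (Fin s → Fin (n + 3)) F) :
    adj σ (sT n (s + 1)) (rx01 j Z) = rx01 j (adj σ (sT n s) Z) := by
  rw [rx01_apply, rx01_apply, adj_mul sT_inv, adj_emb, adj_sx, s1_zero, s1_one, emb_comm_units]

section Sets

variable {M : Subgroup (GL (Fin t → Fin (n + 3)) F)}

theorem zero_one_mul (j : Fin t) {P Q : Matrix (Fin t → Fin (n + 3)) (Fin t → Fin (n + 3)) F}
    (hP : P * sx j 1 1 = P) (hQ : sx j 0 0 * Q = Q) : P * Q = 0 := by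
  rw [← hP, ← hQ, mul_assoc, ← mul_assoc (sx j 1 1), sx_mul, if_neg (by simp), zero_mul, mul_zero]

/-- the elements of `M` supported on the root of one factor -/
def blkG (M : Subgroup (GL (Fin t → Fin (n + 3)) F)) (j : Fin t) :
    AddSubgroup (Matrix (Fin t → Fin (n + 3)) (Fin t → Fin (n + 3)) F) where
  carrier := {X | Mem1 M X ∧ sx j 0 0 * X = X ∧ X * sx j 1 1 = X}
  zero_mem' := ⟨Mem1.zero, mul_zero _, zero_mul _⟩
  add_mem' := by
    rintro X Y ⟨hX, hX0, hX1⟩ ⟨hY, hY0, hY1⟩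
    refine ⟨?_, by rw [mul_add, hX0, hY0], by rw [add_mul, hX1, hY1]⟩
    have hn := hY.neg (zero_one_mul j hY1 hY0)
    simpa using hX.sub hn (by rw [mul_neg, zero_one_mul j hX1 hY0, neg_zero])
      (by rw [neg_mul_neg, zero_one_mul j hY1 hY0])
  neg_mem' := by
    rintro X ⟨hX, hX0, hX1⟩
    exact ⟨hX.neg (zero_one_mul j hX1 hX0),
      by rw [mul_neg, hX0], by rw [neg_mul, hX1]⟩

theorem mem_blkG {j : Fin t} {X : Matrix (Fin t → Fin (n + 3)) (Fin t → Fin (n + 3)) F} :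
    X ∈ blkG M j ↔ Mem1 M X ∧ sx j 0 0 * X = X ∧ X * sx j 1 1 = X := Iff.rfl

theorem cj_mem_blkG {j l : Fin t} (hlj : l ≠ j) {a : GL (Fin (n + 3)) F} (ha : sl l a ∈ M)
    {X : Matrix (Fin t → Fin (n + 3)) (Fin t → Fin (n + 3)) F} (hX : X ∈ blkG M j) : cj (sl l a) X ∈ blkG M j := by
  have e : ∀ p q, cj (sl l a) (sx (F := F) j p q) = sx j p q := fun p q => cj_sl_slot_ne hlj a _
  exact ⟨hX.1.conj ha, by rw [← e, ← cj_mul, hX.2.1], by rw [← e, ← cj_mul, hX.2.2]⟩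

theorem dd_mem_blkG {j l : Fin t} (hlj : l ≠ j) {gs : List (GL (Fin (n + 3)) F)} (hgs : ∀ g ∈ gs, sl l g ∈ M)
    {X : Matrix (Fin t → Fin (n + 3)) (Fin t → Fin (n + 3)) F} (hX : X ∈ blkG M j) :
    dd (gs.map (sl l)) X ∈ blkG M j :=
  dd_mem (fun g hg Y hY => by
    obtain ⟨a, ha, rfl⟩ := List.mem_map.1 hg
    exact cj_mem_blkG hlj (hgs a ha) hY) hX

end Sets

section Small

variable {M : Subgroup (GL (Fin (s + 1) → Fin (n + 3)) F)}

/-- the cofactors of the root of one factor -/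
def smallS (M : Subgroup (GL (Fin (s + 1) → Fin (n + 3)) F)) (j : Fin (s + 1)) :
    AddSubgroup (Matrix (Fin s → Fin (n + 3)) (Fin s → Fin (n + 3)) F) :=
  (blkG M j).comap (rx01 j).toAddMonoidHom

theorem mem_smallS {j : Fin (s + 1)} {Z : Matrix (Fin s → Fin (n + 3)) (Fin s → Fin (n + 3)) F} :
    Z ∈ smallS M j ↔ Mem1 M (sx j 0 1 * emb j Z) := by
  refine ⟨fun h => h.1, fun h => ⟨h, ?_, ?_⟩⟩
  · show sx j 0 0 * (sx j 0 1 * emb j Z) = _
    rw [← mul_assoc, sx_mul, if_pos rfl]; rfl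
  · show sx j 0 1 * emb j Z * sx j 1 1 = _
    rw [mul_assoc, ← emb_comm_units, ← mul_assoc, sx_mul, if_pos rfl]; rfl

theorem cj_mem_smallS {j : Fin (s + 1)} {g : GL (Fin s → Fin (n + 3)) F} (hg : embGL j g ∈ M)
    {Z : Matrix (Fin s → Fin (n + 3)) (Fin s → Fin (n + 3)) F} (hZ : Z ∈ smallS M j) : cj g Z ∈ smallS M j := by
  rw [mem_smallS] at hZ ⊢
  have := hZ.conj hg
  rwa [cj_mul, cj_embGL_sx, cj_embGL] at this

theorem HasUBase.cj_sl_mem (hB : HasUBase σ hσ M) {j : Fin (s + 1)} (l : Fin s) {a : GL (Fin (n + 3)) F}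
    (ha : a ∈ u1 σ hσ n) (hd : (a : Matrix (Fin (n + 3)) (Fin (n + 3)) F).det = 1)
    {Z : Matrix (Fin s → Fin (n + 3)) (Fin s → Fin (n + 3)) F} (hZ : Z ∈ smallS M j) :
    cj (sl l a) Z ∈ smallS M j :=
  cj_mem_smallS (by rw [embGL_sl]; exact hB _ a ha hd) hZ

theorem skew_of_mem (hM : M ≤ uT σ hσ n (s + 1)) {j : Fin (s + 1)}
    {Z : Matrix (Fin s → Fin (n + 3)) (Fin s → Fin (n + 3)) F} (hZ : Z ∈ smallS M j) :
    adj σ (sT n s) Z = -Z := by
  obtain ⟨g, hg, he⟩ := hZ.1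
  have h0 : rx01 j Z * rx01 j Z = 0 := by
    rw [rx01_apply, mul_assoc, ← mul_assoc (emb j Z), ← emb_comm_units, mul_assoc, ← mul_assoc (sx j 0 1), sx_mul,
      if_neg (by simp), zero_mul]
  refine rx01_injective j ?_
  rw [map_neg, ← adj_rx01 (σ := σ)]
  exact adj_of_one_add (hM hg) he h0

theorem fix_smul_mem [Fintype F] (hs : Sc σ) (hB : HasUBase σ hσ M) {j : Fin (s + 1)} {d : F} (hd : σ d = d)
    {Z : Matrix (Fin s → Fin (n + 3)) (Fin s → Fin (n + 3)) F} (hZ : Z ∈ smallS M j) : d • Z ∈ smallS M j := by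
  rcases eq_or_ne d 0 with rfl | hd0
  · rw [zero_smul]; exact zero_mem _
  obtain ⟨x, hx⟩ := hs.exists_norm hd
  have hx0 : x ≠ 0 := fun h => hd0 (by rw [← hx, h, zero_mul])
  have hmem := hB j _ (tor_mem (Units.mk0 x hx0)) (tor_det _)
  rw [mem_smallS] at hZ ⊢
  have := hZ.conj hmem
  rw [cj_mul, cj_sl_emb, sx, cj_sl_slot, cj_tor hσ, ← slotHom_apply, map_smul, Matrix.smul_mul, Units.val_mk0,
    hx] at this
  rwa [map_smul, Matrix.mul_smul]

end Small

end CfsgLib.Perm.Trans.TensorPowerU
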