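import Cfsg.Agent.Lib.Perm.Trans.TensorPowerU.FullStep
import Cfsg.Agent.Lib.Perm.Trans.TensorHermCentres

/-!
# The root of the full pattern gives the special unitary group
-/

set_option autoImplicit false
set_option linter.all false

namespace CfsgLib.Perm.Trans.TensorPowerU

open scoped Matrix Kronecker
open Matrix Cfsg.Geo CfsgLib.Perm.Asch CfsgLib.Perm.Trans CfsgLib.Perm.Trans.TensorPower
open CfsgLib.Perm.Trans.TensorFrame (tvec)

variable {F : Type*} [Field F] {σ : F ≃+* F} {n s t : ℕ} {hσ : ∀ a, σ (σ a) = a}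

theorem det_slot_one (a : Matrix (Fin (n + 3)) (Fin (n + 3)) F) :
    (slot (0 : Fin 1) a : Matrix (Fin 1 → Fin (n + 3)) _ F).det = a.det := by
  have : (slot (0 : Fin 1) a : Matrix (Fin 1 → Fin (n + 3)) _ F) =
      a.submatrix (Equiv.funUnique (Fin 1) (Fin (n + 3))) (Equiv.funUnique (Fin 1) (Fin (n + 3))) := by
    ext x y
    rw [slot_apply, if_pos fun k hk => absurd (Subsingleton.elim k 0) hk]
    rfl
  rw [this, Matrix.det_submatrix_equiv_self]

theorem exists_sl_one (g : GL (Fin 1 → Fin (n + 3)) F) : ∃ a : GL (Fin (n + 3)) F, g = sl 0 a := by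
  obtain ⟨Y, hY⟩ := Off.eq_slot (Nat.succ_pos _) (j := (0 : Fin 1)) (X := (g : Matrix (Fin 1 → Fin (n + 3)) _ F))
    fun k hk => absurd (Subsingleton.elim k 0) hk
  exact exists_sl (Nat.succ_pos _) hY

theorem det_emb (j : Fin (s + 1)) (X : Matrix (Fin s → Fin (n + 3)) (Fin s → Fin (n + 3)) F) :
    (emb j X).det = X.det ^ (n + 3) := by
  have : emb j X = (((1 : Matrix (Fin (n + 3)) (Fin (n + 3)) F) ⊗ₖ X)).submatrix
      (Fin.insertNthEquiv (fun _ => Fin (n + 3)) j).symm (Fin.insertNthEquiv (fun _ => Fin (n + 3)) j).symm := rfl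
  rw [this, Matrix.det_submatrix_equiv_self, Matrix.det_kronecker, det_one, one_pow, one_mul, Fintype.card_fin]

theorem slot_mul_emb (j : Fin (s + 1)) (A : Matrix (Fin (n + 3)) (Fin (n + 3)) F)
    (B : Matrix (Fin s → Fin (n + 3)) (Fin s → Fin (n + 3)) F) (x y : Fin (s + 1) → Fin (n + 3)) :
    (slot j A * emb j B) x y = A (x j) (y j) * B (fun i => x (j.succAbove i)) (fun i => y (j.succAbove i)) := by
  rw [Matrix.mul_apply, Finset.sum_eq_single (Function.update x j (y j))]
  · rw [slot_apply, if_pos (fun k hk => by simp [hk]), emb_apply, Function.update_self, if_pos rfl]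
    simp [Fin.succAbove_ne]
  · intro z _ hz
    rw [slot_apply, emb_apply]
    split_ifs with h1 h2
    · exfalso
      refine hz (funext fun k => ?_)
      rcases eq_or_ne k j with rfl | hk
      · simp [h2]
      · simp [hk, h1 k hk]
    all_goals simp
  · simp

variable [Fintype F]

/-- the coordinates of the cofactor -/
def sF (n s : ℕ) (x : Fin ((n + 3) ^ s)) : Fin ((n + 3) ^ s) :=
  finFunctionFinEquiv (sT n s (finFunctionFinEquiv.symm x))

theorem sF_inv : Function.Involutive (sF n s) := fun x => by
  simp [sF, sT_inv (finFunctionFinEquiv.symm x)]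

/-- split off one factor -/
def splitE (n : ℕ) (j : Fin (s + 1)) : (Fin (s + 1) → Fin (n + 3)) ≃ Fin (n + 3) × Fin ((n + 3) ^ s) :=
  (Fin.insertNthEquiv (fun _ => Fin (n + 3)) j).symm.trans ((Equiv.refl _).prodCongr finFunctionFinEquiv)

theorem splitE_fst (j : Fin (s + 1)) (x : Fin (s + 1) → Fin (n + 3)) : (splitE n j x).1 = x j := rfl

theorem splitE_snd (j : Fin (s + 1)) (x : Fin (s + 1) → Fin (n + 3)) :
    (splitE n j x).2 = finFunctionFinEquiv fun i => x (j.succAbove i) := rfl

theorem adj_reindex (X : Matrix (Fin ((n + 3) ^ s)) (Fin ((n + 3) ^ s)) F) :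
    adj σ (sT n s) (X.submatrix finFunctionFinEquiv finFunctionFinEquiv) =
      (adj σ (sF n s) X).submatrix finFunctionFinEquiv finFunctionFinEquiv := by
  ext x y
  simp [adj_apply, sF]

/-- all long roots and the base give everything -/
theorem full (hs : Sc σ) (hq : 1 ≤ n ∨ 4 < Fintype.card F) : ∀ (t : ℕ) (M : Subgroup (GL (Fin t → Fin (n + 3)) F)),
    HasUBase σ hσ M → M ≤ uT σ hσ n t → ∀ c : F, c ≠ 0 →
    Mem1 M (Matrix.single (fun _ : Fin t => (0 : Fin (n + 3))) (fun _ : Fin t => (1 : Fin (n + 3))) c) →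
    uT σ hσ n t ⊓ specialLinear (Fin t → Fin (n + 3)) F ≤ M := by
  intro t
  induction t with
  | zero =>
    intro M _ _ c _ _ g hg
    have hd : (g : Matrix (Fin 0 → Fin (n + 3)) (Fin 0 → Fin (n + 3)) F).det = 1 := congrArg Units.val hg.2
    rw [show g = 1 from Units.ext (Matrix.ext fun a b => by
      rw [Matrix.det_eq_elem_of_subsingleton _ a] at hd
      rw [Subsingleton.elim b a, Units.val_one, hd, Matrix.one_apply_eq])]
    exact M.one_mem
  | succ s ih =>
    intro M hB hM c hc h
    rcases Nat.eq_zero_or_pos s with rfl | hs1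
    · intro g hg
      obtain ⟨a, rfl⟩ := exists_sl_one g
      refine hB 0 a ((sl_mem_iff 0).1 hg.1) ?_
      rw [← det_slot_one (a : Matrix (Fin (n + 3)) (Fin (n + 3)) F), ← sl_coe]
      exact congrArg Units.val hg.2
    -- the isometries of all factors but one
    obtain ⟨j, hj⟩ : ∃ j : Fin (s + 1), ∀ b ∈ uT σ hσ n s, (b : Matrix (Fin s → Fin (n + 3)) _ F).det = 1 →
        embGL j b ∈ M := by
      rcases Nat.lt_or_ge s 2 with h2 | h2
      · obtain rfl : s = 1 := by omega
        refine ⟨0, fun b hb hd => ?_⟩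
        obtain ⟨a, rfl⟩ := exists_sl_one b
        rw [embGL_sl]
        exact hB _ a ((sl_mem_iff 0).1 hb) (by rwa [sl_coe, det_slot_one] at hd)
      · obtain ⟨l', c', hc', h'⟩ := step_down hs hB hM h2 hc h
        obtain ⟨g, hg, hge⟩ := h'
        set X := Matrix.single (fun _ : Fin s => (0 : Fin (n + 3))) (fun _ : Fin s => (1 : Fin (n + 3))) c' with hX
        have hne : (fun _ : Fin s => (1 : Fin (n + 3))) ≠ fun _ => 0 := fun e => by
          simpa using congrFun e ⟨0, by omega⟩
        have hXX : X * X = 0 := Matrix.single_mul_single_of_ne (h := hne) ..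
        let b : GL (Fin s → Fin (n + 3)) F := ⟨1 + X, 1 - X,
          by rw [add_mul, one_mul, mul_sub, mul_one, hXX, sub_zero, sub_add_cancel],
          by rw [sub_mul, one_mul, mul_add, mul_one, hXX, add_zero, add_sub_cancel_right]⟩
        have hb : embGL l' b = g := Units.ext (by rw [hge, embGL_coe]; exact (map_add _ 1 X).trans (by rw [map_one]))
        refine ⟨l', fun b' hb' hd => ?_⟩
        exact ih (M.comap (embGL l')) (fun i a ha had => by
            show embGL l' (sl i a) ∈ M
            rw [embGL_sl]; exact hB _ a ha had)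
          (fun b hb => (embGL_mem_iff l').1 (hM hb)) c' hc' ⟨b, show embGL l' b ∈ M by rw [hb]; exact hg, rfl⟩
          ⟨hb', Units.ext hd⟩
    -- the tensor decomposition
    have hf : IsUnitaryForm σ (hform σ (sT n (s + 1))) := hform_unitary hs sT_inv
    have h1 : IsUnitaryForm σ (hform σ (s1 n)) := hform_unitary hs s1_inv
    have h2 : IsUnitaryForm σ (hform σ (sF n s)) := hform_unitary hs sF_inv
    have htv : ∀ (x : Fin (n + 3) → F) (y : Fin ((n + 3) ^ s) → F) (z : Fin (s + 1) → Fin (n + 3)),
        tvec (splitE n j) (1 : GL (Fin (s + 1) → Fin (n + 3)) F) x y z =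
          x (z j) * y (finFunctionFinEquiv fun i => z (j.succAbove i)) := fun x y z => by
      rw [tvec, Units.val_one, one_mulVec]; rfl
    have hdual : ∀ (x : Fin (n + 3) → F) (y : Fin ((n + 3) ^ s) → F),
        dual σ (sT n (s + 1)) (tvec (splitE n j) 1 x y) =
          tvec (splitE n j) 1 (dual σ (s1 n) x) (dual σ (sF n s) y) := fun x y => funext fun z => by
      rw [dual, htv, htv, map_mul, dual, dual, sT_succAbove, sF, Equiv.symm_apply_apply]
      rfl
    have D : TensorHerm.TU σ (hform σ (sT n (s + 1))) (hform σ (s1 n)) (hform σ (sF n s)) (splitE n j)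
        (1 : GL (Fin (s + 1) → Fin (n + 3)) F) 1 M := by
      refine ⟨hf, h1, h2, one_ne_zero, map_one σ, fun x y x' y' => ?_, by rw [isoU_hform hs sT_inv]; exact hM,
        fun {A B} hA hB' => ?_⟩
      · rw [one_mul, hform, hform, hform, hdual, dotProduct, dotProduct, dotProduct, Finset.sum_mul_sum,
          ← Fintype.sum_prod_type']
        refine Fintype.sum_equiv (splitE n j) _ _ fun z => ?_
        rw [htv, htv, splitE_fst, splitE_snd]
        ring
      · rw [isoU_hform hs s1_inv] at hA
        rw [isoU_hform hs sF_inv] at hB'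
        let B' : GL (Fin s → Fin (n + 3)) F := glReindex finFunctionFinEquiv.symm B
        have hB'c : (B' : Matrix (Fin s → Fin (n + 3)) (Fin s → Fin (n + 3)) F) =
            (B : Matrix (Fin ((n + 3) ^ s)) (Fin ((n + 3) ^ s)) F).submatrix finFunctionFinEquiv finFunctionFinEquiv := rfl
        have hB'u : B' ∈ uT σ hσ n s := by
          rw [mem_uSub, hB'c, adj_reindex, Matrix.submatrix_mul_equiv, mem_uSub.1 hB'.1, Matrix.submatrix_one_equiv]
        have hB'd : (B' : Matrix (Fin s → Fin (n + 3)) _ F).det = 1 := by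
          rw [hB'c, Matrix.det_submatrix_equiv_self]; exact congrArg Units.val hB'.2
        rw [show TensorMax.kg (splitE n j) 1 A B = sl j A * embGL j B' from Units.ext (Matrix.ext fun x y => by
          rw [Units.val_mul (sl j A) (embGL j B'), sl_coe, embGL_coe, slot_mul_emb, TensorMax.kg, one_mul, inv_one,
            mul_one]
          rfl)]
        exact M.mul_mem (hB j A hA.1 (congrArg Units.val hA.2)) (hj B' hB'u hB'd)
    rw [show uT σ hσ n (s + 1) = Unit.isoU (hform σ (sT n (s + 1))) from (isoU_hform hs sT_inv).symm]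
    refine TensorHerm.full_of_centre D (by omega) ?_ (a := Pi.single 0 1)
      (b := Pi.single (finFunctionFinEquiv fun _ => 0) 1) (by simp) (by simp) ?_ ?_ ⟨?_, fun d hd => ?_⟩
    · rcases hq with h | h
      · left
        calc 4 ≤ (n + 3) ^ 1 := by rw [pow_one]; omega
          _ ≤ (n + 3) ^ s := Nat.pow_le_pow_right (by omega) hs1
      · right
        exact ⟨le_trans (by rw [pow_one]; omega : 3 ≤ (n + 3) ^ 1) (Nat.pow_le_pow_right (by omega) hs1), h⟩
    · rw [hform, dual_single s1_inv, single_dotProduct, one_mul, Pi.single_apply, if_neg]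
      rw [s1_zero]; simp
    · rw [hform, dual_single sF_inv, single_dotProduct, one_mul, Pi.single_apply, if_neg]
      intro e
      rw [sF, Equiv.symm_apply_apply, finFunctionFinEquiv.injective.eq_iff] at e
      simpa [sT, s1_zero] using congrFun e ⟨0, hs1⟩
    · rw [hform, hdual, dotProduct, Finset.sum_eq_zero]
      intro z _
      rw [htv, htv]
      simp only [dual_single s1_inv, s1_zero, Pi.single_apply]
      by_cases hz : z j = 0
      · simp [hz]
      · simp [hz]
    · have hu : tvec (splitE n j) (1 : GL (Fin (s + 1) → Fin (n + 3)) F) (Pi.single 0 1)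
          (Pi.single (finFunctionFinEquiv fun _ => 0) 1) = Pi.single (fun _ => 0) 1 := by
        funext z
        rw [htv, Pi.single_apply, Pi.single_apply, Pi.single_apply]
        simp only [EmbeddingLike.apply_eq_iff_eq]
        by_cases hz : z = fun _ => 0
        · subst hz; simp
        · rw [if_neg hz]
          by_cases hzj : z j = 0
          · rw [if_pos hzj, one_mul, if_neg (fun e => hz (funext fun k => ?_))]
            rcases Fin.eq_self_or_eq_succAbove j k with rfl | ⟨i, rfl⟩
            · exact hzj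
            · exact congrFun e i
          · rw [if_neg hzj, zero_mul]
      rw [hu]
      rcases eq_or_ne d 0 with rfl | hd0
      · rw [zero_smul]; exact has_zero_right _
      have hcσ : σ c = -c := by
        obtain ⟨g, hg, he⟩ := h
        have hne : (fun _ => (0 : Fin (n + 3)) : Fin (s + 1) → Fin (n + 3)) ≠ fun _ => 1 := fun e => by
          simpa using congrFun e 0
        have := adj_of_one_add (hM hg) he (by rw [Matrix.single_mul_single_of_ne (h := hne.symm)])
        rw [adj_single sT_inv, show sT n (s + 1) (fun _ => 1) = fun _ => 0 from funext fun _ => s1_one,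
          show sT n (s + 1) (fun _ => 0) = fun _ => 1 from funext fun _ => s1_zero] at this
        have := congrFun (congrFun this (fun _ => 0)) (fun _ => 1)
        simpa using this
      obtain ⟨x, hx⟩ := hs.exists_norm (show σ (d / c) = d / c by rw [map_div₀, hd, hcσ, neg_div_neg_eq])
      have hx0 : x ≠ 0 := fun e => div_ne_zero hd0 hc (by rw [← hx, e, zero_mul])
      obtain ⟨g, hg, he⟩ := h.conj (hB 0 _ (tor_mem (Units.mk0 x hx0)) (tor_det _))
      have horth : (d • hv hf (Pi.single (fun _ : Fin (s + 1) => (0 : Fin (n + 3))) (1 : F))) ⬝ᵥ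
          Pi.single (fun _ : Fin (s + 1) => (0 : Fin (n + 3))) (1 : F) = 0 := by
        rw [hv_hform hs sT_inv, smul_dotProduct, dual_single sT_inv, dotProduct_single, mul_one, Pi.single_apply,
          if_neg, smul_zero]
        intro e
        simpa [sT, s1_zero] using congrFun e 0
      refine ⟨horth, ?_⟩
      rw [show tv _ _ horth = g from Units.ext ?_]
      · exact hg
      rw [tv_coe, he, hv_hform hs sT_inv, vecMulVec_smul, vmv_dual_single]
      congr 1
      rw [show Matrix.single (fun _ => (0 : Fin (n + 3))) (fun _ => (1 : Fin (n + 3))) c =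
        c • Matrix.single (fun _ : Fin (s + 1) => (0 : Fin (n + 3))) (fun _ => (1 : Fin (n + 3))) (1 : F) by
        rw [Matrix.smul_single, smul_eq_mul, mul_one], ← pure_single, cj_smul, cj_sl_pure, cj_tor hs.invol,
        ← updL_apply, map_smul, smul_smul, updL_apply, Function.update_eq_self, Units.val_mk0, hx,
        mul_div_cancel₀ _ hc]
      simp [s1_zero]

/-- a non-scalar cofactor of a root gives the special unitary group -/
theorem le_of_nonscalar (hs : Sc σ) (hq : 1 ≤ n ∨ 4 < Fintype.card F)
    {M : Subgroup (GL (Fin (s + 1) → Fin (n + 3)) F)} (hB : HasUBase σ hσ M) (hP : HasUPerms M)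
    (hM : M ≤ uT σ hσ n (s + 1)) {j : Fin (s + 1)} {Z : Matrix (Fin s → Fin (n + 3)) (Fin s → Fin (n + 3)) F}
    (hZ : Z ∈ smallS M j) (hne : ∀ c : F, Z ≠ c • 1) :
    uT σ hσ n (s + 1) ⊓ specialLinear (Fin (s + 1) → Fin (n + 3)) F ≤ M := by
  obtain ⟨T, c, hT, hc, hmem⟩ := pattern_of_nonscalar hs hB hZ hne
  obtain ⟨c', hc', h'⟩ := full_pattern hs hB hP hT hc hmem
  exact full hs hq _ M hB hM c' hc' h'

end CfsgLib.Perm.Trans.TensorPowerU
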