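import Cfsg.Agent.Lib.Perm.Trans.TensorPowerU.Key
import Cfsg.Agent.Lib.Perm.Trans.TensorPower.Max

/-!
# The root of the full pattern gives the root of one factor fewer
-/

set_option autoImplicit false
set_option linter.all false

namespace CfsgLib.Perm.Trans.TensorPowerU

open scoped Matrix
open Matrix Cfsg.Geo CfsgLib.Perm.Asch CfsgLib.Perm.Trans CfsgLib.Perm.Trans.TensorPower

variable {F : Type*} [Field F] {σ : F ≃+* F} {n s t : ℕ} {hσ : ∀ a, σ (σ a) = a}

theorem dual_pv (v : Fin t → Fin (n + 3) → F) : dual σ (sT n t) (pv v) = pv fun l => dual σ (s1 n) (v l) := by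
  funext x
  simp only [dual, pv, map_prod, sT]

theorem pi_single_pv (X : Fin t → Fin (n + 3)) :
    (Pi.single X (1 : F) : (Fin t → Fin (n + 3)) → F) = pv fun l => Pi.single (X l) (1 : F) := by
  funext x
  simp only [pv, Pi.single_apply, Finset.prod_ite_zero, Finset.prod_const_one, Finset.mem_univ, forall_const]
  exact if_congr funext_iff rfl rfl

theorem vmv_dual_single (X Y : Fin t → Fin (n + 3)) :
    vecMulVec (Pi.single X (1 : F)) (dual σ (sT n t) (Pi.single Y 1)) =
      CfsgLib.Perm.Asch.pure fun l => Matrix.single (X l) (s1 n (Y l)) (1 : F) := by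
  rw [dual_single sT_inv, map_one, TensorPower.vmv_single, pure_single]
  rfl

theorem dd_conj {ι : Type} [Fintype ι] [DecidableEq ι] (w : GL ι F) (gs : List (GL ι F)) (X : Matrix ι ι F) :
    dd (gs.map fun g => w * g * w⁻¹) (cj w X) = cj w (dd gs X) := by
  induction gs with
  | nil => rfl
  | cons g gs ih =>
    rw [List.map_cons, dd_cons, dd_cons, ih, cj_sub, cj_cj, cj_cj, inv_mul_cancel_right]

theorem isometry_fix_dual {a : GL (Fin (n + 3)) F} (ha : a ∈ u1 σ hσ n) {u : Fin (n + 3) → F}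
    (hu : (a : Matrix (Fin (n + 3)) (Fin (n + 3)) F) *ᵥ u = u) (v : Fin (n + 3) → F) :
    dual σ (s1 n) u ⬝ᵥ ((a : Matrix (Fin (n + 3)) (Fin (n + 3)) F) *ᵥ v) = dual σ (s1 n) u ⬝ᵥ v := by
  conv_lhs => rw [← hu]
  rw [dual_mulVec hσ s1_inv, adj_of_mem ha, dotProduct_mulVec, vecMul_vecMul, gl_inv_mul, vecMul_one]

theorem e_dot (p q : Fin (n + 3)) :
    dual σ (s1 n) (Pi.single p (1 : F)) ⬝ᵥ Pi.single q 1 = if s1 n p = q then 1 else 0 := by
  rw [dual_single s1_inv, map_one, single_dotProduct, one_mul, Pi.single_apply]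

section Pair

variable {j l : Fin t}

/-- pairs fixing the first vector in one factor and the second in another -/
def pairK (σ : F ≃+* F) (hσ : ∀ a, σ (σ a) = a) (n : ℕ) (j l : Fin t) (hjl : j ≠ l) :
    Subgroup (GL (Fin t → Fin (n + 3)) F) where
  carrier := {g | ∃ a b : GL (Fin (n + 3)) F, a ∈ u1 σ hσ n ∧ b ∈ u1 σ hσ n ∧
    (a : Matrix (Fin (n + 3)) (Fin (n + 3)) F).det = 1 ∧ (b : Matrix (Fin (n + 3)) (Fin (n + 3)) F).det = 1 ∧
    (a : Matrix (Fin (n + 3)) (Fin (n + 3)) F) *ᵥ Pi.single 0 1 = Pi.single 0 1 ∧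
    (b : Matrix (Fin (n + 3)) (Fin (n + 3)) F) *ᵥ Pi.single 1 1 = Pi.single 1 1 ∧ g = sl j a * sl l b}
  one_mem' := ⟨1, 1, one_mem _, one_mem _, by simp, by simp, by rw [Units.val_one, one_mulVec],
    by rw [Units.val_one, one_mulVec], by rw [sl_one, sl_one, one_mul]⟩
  mul_mem' := by
    rintro g g' ⟨a, b, ha, hb, ha', hb', ha0, hb1, rfl⟩ ⟨c, d, hc, hd, hc', hd', hc0, hd1, rfl⟩
    refine ⟨a * c, b * d, mul_mem ha hc, mul_mem hb hd, by rw [Units.val_mul, det_mul, ha', hc', one_mul],
      by rw [Units.val_mul, det_mul, hb', hd', one_mul], by rw [Units.val_mul, ← mulVec_mulVec, hc0, ha0],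
      by rw [Units.val_mul, ← mulVec_mulVec, hd1, hb1], ?_⟩
    rw [← sl_mul, ← sl_mul, mul_assoc, ← mul_assoc (sl l b), sl_comm hjl.symm b c]
    simp only [mul_assoc]
  inv_mem' := by
    rintro g ⟨a, b, ha, hb, ha', hb', ha0, hb1, rfl⟩
    refine ⟨a⁻¹, b⁻¹, inv_mem ha, inv_mem hb, ?_, ?_, ?_, ?_, ?_⟩
    · have := congrArg Matrix.det (gl_mul_inv a)
      rwa [det_mul, ha', one_mul, det_one] at this
    · have := congrArg Matrix.det (gl_mul_inv b)
      rwa [det_mul, hb', one_mul, det_one] at this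
    · conv_lhs => rw [← ha0, mulVec_mulVec, gl_inv_mul, one_mulVec]
    · conv_lhs => rw [← hb1, mulVec_mulVec, gl_inv_mul, one_mulVec]
    · rw [_root_.mul_inv_rev, sl_inv, sl_inv, ← sl_inv, ← sl_inv, sl_comm hjl.symm]

/-- the centre `⊗ e₀ + ρ ⊗ e₁` -/
def wvec (n t : ℕ) (ρ : F) : (Fin t → Fin (n + 3)) → F :=
  Pi.single (fun _ => 0) 1 + ρ • Pi.single (fun _ => 1) 1

theorem pairK_orth {hjl : j ≠ l} {k : GL (Fin t → Fin (n + 3)) F} (hk : k ∈ pairK σ hσ n j l hjl) {ρ : F}
    (hρ : σ ρ = -ρ) :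
    dual σ (sT n t) (wvec n t ρ) ⬝ᵥ ((k : Matrix (Fin t → Fin (n + 3)) _ F) *ᵥ wvec n t ρ) = 0 := by
  obtain ⟨a, b, ha, hb, -, -, ha0, hb1, rfl⟩ := hk
  have hv : ∀ v : Fin t → Fin (n + 3) → F, ((sl j a * sl l b : GL (Fin t → Fin (n + 3)) F) : Matrix _ _ F) *ᵥ pv v =
      pv (Function.update (Function.update v l ((b : Matrix (Fin (n + 3)) (Fin (n + 3)) F) *ᵥ v l)) j
        ((a : Matrix (Fin (n + 3)) (Fin (n + 3)) F) *ᵥ v j)) := by
    intro v
    rw [Units.val_mul, ← mulVec_mulVec, sl_coe, sl_coe, slot, slot, pure_pv, pure_pv]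
    congr 1
    funext x
    rcases eq_or_ne x j with rfl | hxj
    · simp [Pi.mulSingle_eq_of_ne hjl]
    · rcases eq_or_ne x l with rfl | hxl
      · simp [hxj, Pi.mulSingle_eq_of_ne hxj]
      · simp [hxj, hxl, Pi.mulSingle_eq_of_ne hxj, Pi.mulSingle_eq_of_ne hxl]
  have key : ∀ p q : Fin (n + 3), dual σ (sT n t) (Pi.single (fun _ : Fin t => p) (1 : F)) ⬝ᵥ
      (((sl j a * sl l b : GL (Fin t → Fin (n + 3)) F) : Matrix _ _ F) *ᵥ Pi.single (fun _ : Fin t => q) 1) =
      ∏ x : Fin t, dual σ (s1 n) (Pi.single p (1 : F)) ⬝ᵥ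
        (if x = j then (a : Matrix (Fin (n + 3)) (Fin (n + 3)) F) *ᵥ Pi.single q 1
          else if x = l then (b : Matrix (Fin (n + 3)) (Fin (n + 3)) F) *ᵥ Pi.single q 1 else Pi.single q 1) := by
    intro p q
    rw [pi_single_pv, pi_single_pv, hv, dual_pv, pv_dot]
    refine Finset.prod_congr rfl fun x _ => ?_
    rcases eq_or_ne x j with rfl | hxj
    · simp
    · rcases eq_or_ne x l with rfl | hxl <;> simp [*]
  have k00 := key 0 0
  rw [Finset.prod_eq_zero (Finset.mem_univ j) (by rw [if_pos rfl, ha0, e_dot, s1_zero, if_neg (by simp)])] at k00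
  have k11 := key 1 1
  rw [Finset.prod_eq_zero (Finset.mem_univ l)
    (by rw [if_neg hjl.symm, if_pos rfl, hb1, e_dot, s1_one, if_neg (by simp)])] at k11
  have k01 := key 0 1
  rw [Finset.prod_eq_one fun x _ => ?_] at k01
  swap
  · split_ifs
    · rw [isometry_fix_dual ha ha0, e_dot, s1_zero, if_pos rfl]
    · rw [hb1, e_dot, s1_zero, if_pos rfl]
    · rw [e_dot, s1_zero, if_pos rfl]
  have k10 := key 1 0
  rw [Finset.prod_eq_one fun x _ => ?_] at k10
  swap
  · split_ifs
    · rw [ha0, e_dot, s1_one, if_pos rfl]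
    · rw [isometry_fix_dual hb hb1, e_dot, s1_one, if_pos rfl]
    · rw [e_dot, s1_one, if_pos rfl]
  rw [wvec, mulVec_add, mulVec_smul, dual_add, dual_smul]
  simp only [add_dotProduct, dotProduct_add, smul_dotProduct, dotProduct_smul, k00, k11, k01, k10, smul_eq_mul, hρ]
  ring

end Pair

variable [Fintype F]

/-- an invariant subspace of one factor containing a diagonal unit -/
theorem small_span (hs : Sc σ) (N : Submodule F (Matrix (Fin (n + 3)) (Fin (n + 3)) F))
    (hN : ∀ g : GL (Fin (n + 3)) F, g ∈ u1 σ hσ n → (g : Matrix (Fin (n + 3)) (Fin (n + 3)) F).det = 1 →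
      ∀ X ∈ N, cj g X ∈ N) (h00 : Matrix.single 0 0 1 ∈ N) :
    (1 : Matrix (Fin (n + 3)) (Fin (n + 3)) F) ∈ N ∧ Matrix.single 0 1 1 ∈ N := by
  have h11 : Matrix.single (1 : Fin (n + 3)) 1 (1 : F) ∈ N := by
    have := hN _ (wl_mem (hσ := hσ)) wl_det _ h00
    rwa [cj_wl 0 0 (Or.inl rfl) (Or.inl rfl), s1_zero] at this
  have h01 : Matrix.single (0 : Fin (n + 3)) 1 (1 : F) ∈ N := by
    obtain ⟨c, hc0, hc⟩ := hs.exists_skew
    have := N.sub_mem (hN _ (utv_mem hσ (Pi.single 0 1) e0_iso hc) (utv_det _ _ _) _ h00) h00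
    rw [show cj (utv σ (Pi.single 0 1) e0_iso c) (Matrix.single 0 0 1) =
      Matrix.single (0 : Fin (n + 3)) 0 1 + (-c) • Matrix.single 0 1 1 by
        show cj (rt σ c) _ = _
        rw [cj_unit (hσ := hσ) (g := rt σ c) (utv_mem hσ _ _ hc), s1_zero, rt_mulVec, rt_mulVec]
        simp only [Pi.single_eq_same, Pi.single_eq_of_ne (show (1 : Fin (n + 3)) ≠ 0 by simp), mul_zero, mul_one,
          Pi.single_zero, add_zero, dual_add, dual_single s1_inv, s1_zero, s1_one, map_one, hc, vecMulVec_add,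
          vmv_single2, one_mul, Matrix.smul_single, smul_eq_mul], add_sub_cancel_left] at this
    exact (N.smul_mem_iff (neg_ne_zero.2 hc0)).1 this
  refine ⟨?_, h01⟩
  rw [← Matrix.sum_single_one]
  refine N.sum_mem fun a _ => ?_
  rcases eq_or_ne a 0 with rfl | ha0
  · exact h00
  rcases eq_or_ne a 1 with rfl | ha1
  · exact h11
  obtain ⟨μ, hμ⟩ := hs.exists_trace 1
  have hη : ∀ X ∈ N, df (eta σ a ha0 ha1 1 μ) X ∈ N := fun X hX =>
    N.sub_mem (hN _ (eta_mem hσ ha0 ha1 hμ) (eta_det _ _ _ _) _ hX) hX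
  have hsm : ∀ (p q : Fin (n + 3)) (r : F), Matrix.single p q (1 : F) ∈ N → Matrix.single p q r ∈ N :=
    fun p q r h => by rw [single_smul_one]; exact N.smul_mem r h
  have h0a : Matrix.single (0 : Fin (n + 3)) a (1 : F) ∈ N := by
    have := hη _ h00
    rw [df_e00 (hσ := hσ) ha0 ha1 hμ, map_one] at this
    exact (N.add_mem_iff_left (hsm _ _ _ h01)).1 this
  have ha1' : Matrix.single a (1 : Fin (n + 3)) (1 : F) ∈ N := by
    have := hη _ h11
    rw [df_e11 (hσ := hσ) ha0 ha1 hμ] at this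
    exact (N.add_mem_iff_left (hsm _ _ _ h01)).1 this
  have h1a : Matrix.single (1 : Fin (n + 3)) a (1 : F) ∈ N := by
    have := hN _ (wl_mem (hσ := hσ)) wl_det _ h0a
    have hw : wl n F ∈ uSub (RingEquiv.refl F) (s1 n) (fun _ => rfl) s1_inv := wl_mem (hσ := fun _ => rfl)
    rw [cj_unit hw, s1_other ha0 ha1, wl_e0, wl_mid ha0 ha1, dual_single s1_inv, s1_other ha0 ha1, vmv_single2,
      one_mul, single_smul_one] at this
    exact (N.smul_mem_iff (by simp)).1 this
  have := hN _ (eta_mem hσ ha0 ha1 hμ) (eta_det _ _ _ _) _ h1a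
  rw [cj_unit (eta_mem hσ ha0 ha1 hμ), s1_other ha0 ha1, eta_e1, eta_ea, dual_add, dual_single s1_inv,
    dual_single s1_inv, s1_other ha0 ha1, s1_zero, vecMulVec_add, add_vecMulVec, add_vecMulVec, add_vecMulVec,
    add_vecMulVec, vmv_single2, vmv_single2, vmv_single2, vmv_single2, vmv_single2, vmv_single2] at this
  simp only [map_one, one_mul] at this
  rw [← add_assoc] at this
  have h2 := (N.add_mem_iff_left (hsm _ _ _ h01)).1 this
  rw [← add_assoc] at h2
  have h3 := (N.add_mem_iff_left (hsm _ _ _ ha1')).1 h2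
  have h4 := (N.add_mem_iff_left (hsm _ _ _ h11)).1 h3
  have h5 := (N.add_mem_iff_left (hsm _ _ _ h0a)).1 h4
  exact (N.add_mem_iff_right h1a).1 h5

variable {M : Subgroup (GL (Fin (s + 1) → Fin (n + 3)) F)}

/-- the root pattern on all factors but one -/
theorem step_down (hs : Sc σ) (hB : HasUBase σ hσ M) (hM : M ≤ uT σ hσ n (s + 1)) (hs2 : 2 ≤ s) {c : F} (hc : c ≠ 0)
    (h : Mem1 M (Matrix.single (fun _ => (0 : Fin (n + 3))) (fun _ => 1) c)) :
    ∃ (l' : Fin (s + 1)) (c' : F), c' ≠ 0 ∧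
      Mem1 M (emb l' (Matrix.single (fun _ : Fin s => (0 : Fin (n + 3))) (fun _ => 1) c')) := by
  classical
  set u : (Fin (s + 1) → Fin (n + 3)) → F := Pi.single (fun _ => 0) 1 with hu
  set v : (Fin (s + 1) → Fin (n + 3)) → F := Pi.single (fun _ => 1) 1 with hv'
  have hf : IsUnitaryForm σ (hform σ (sT n (s + 1))) := hform_unitary hs sT_inv
  have hMi : M ≤ Unit.isoU (hform σ (sT n (s + 1))) := by rw [isoU_hform hs sT_inv]; exact hM
  have hne01 : (fun _ => (0 : Fin (n + 3)) : Fin (s + 1) → Fin (n + 3)) ≠ fun _ => 1 := fun e => by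
    simpa using congrFun e 0
  have huv : vecMulVec u (dual σ (sT n (s + 1)) u) = Matrix.single (fun _ => 0) (fun _ => 1) 1 := by
    rw [hu, vmv_dual_single, pure_single]
    simp [s1_zero]
  have hcσ : σ c = -c := by
    obtain ⟨g, hg, he⟩ := h
    have := adj_of_one_add (hM hg) he (by rw [Matrix.single_mul_single_of_ne (h := hne01.symm)])
    rw [adj_single sT_inv, show sT n (s + 1) (fun _ => 1) = fun _ => 0 from funext fun _ => s1_one,
      show sT n (s + 1) (fun _ => 0) = fun _ => 1 from funext fun _ => s1_zero] at this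
    have := congrFun (congrFun this (fun _ => 0)) (fun _ => 1)
    simpa using this
  have huu : hform σ (sT n (s + 1)) u u = 0 := by
    rw [hform, hu, dual_single sT_inv, single_dotProduct, one_mul, Pi.single_apply, if_neg]
    intro e
    simpa [sT, s1_zero] using congrFun e 0
  have hucen : u ∈ Unit.centres hf M := by
    refine ⟨huu, fun d hd => ?_⟩
    have ho : (d • hv hf u) ⬝ᵥ u = 0 := by rw [smul_dotProduct, hv_dot, huu, smul_zero]
    refine ⟨ho, ?_⟩
    have hd' : σ (d / c) = d / c := by rw [map_div₀, hd, hcσ, neg_div_neg_eq]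
    obtain ⟨x, hx⟩ := hs.exists_norm hd'
    rcases eq_or_ne d 0 with rfl | hd0
    · rw [show tv u ((0 : F) • hv hf u) ho = 1 from Units.ext (by
        rw [tv_coe, zero_smul, Units.val_one]; ext; simp [vecMulVec_apply])]
      exact one_mem _
    have hx0 : x ≠ 0 := fun e => div_ne_zero hd0 hc (by rw [← hx, e, zero_mul])
    obtain ⟨g, hg, he⟩ := h.conj (hB 0 _ (tor_mem (Units.mk0 x hx0)) (tor_det _))
    rw [show tv u (d • hv hf u) ho = g from Units.ext ?_]
    · exact hg
    rw [tv_coe, he, hv_hform hs sT_inv, vecMulVec_smul, huv]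
    congr 1
    rw [show Matrix.single (fun _ => (0 : Fin (n + 3))) (fun _ => (1 : Fin (n + 3))) c =
      c • Matrix.single (fun _ : Fin (s + 1) => (0 : Fin (n + 3))) (fun _ => (1 : Fin (n + 3))) (1 : F) by
      rw [Matrix.smul_single, smul_eq_mul, mul_one], ← pure_single, cj_smul, cj_sl_pure, cj_tor hs.invol, ← updL_apply,
      map_smul, smul_smul, updL_apply, Function.update_eq_self, Units.val_mk0, hx, mul_div_cancel₀ _ hc]
  have hvcen : v ∈ Unit.centres hf M := by
    have hW : pureGL (fun _ : Fin (s + 1) => wl n F) ∈ M := hB.pure_mem _ (fun _ => wl_mem) fun _ => wl_det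
    have := Unit.centres_conj hf hMi hW hucen
    rwa [hu, pi_single_pv, pureGL_coe, pure_pv, wl_e0, ← pi_single_pv] at this
  obtain ⟨ρ, hρ0, hρ⟩ := hs.exists_skew
  have huv1 : hform σ (sT n (s + 1)) u v = 1 := by
    rw [hform, hu, hv', dual_single sT_inv, single_dotProduct, one_mul, map_one, Pi.single_apply, if_pos]
    funext l; simp [sT, s1_one]
  have hwcen : u + ρ • v ∈ Unit.centres hf M := by
    refine Unit.centres_line hf hMi hucen hvcen (by rw [huv1]; exact one_ne_zero) ?_
    rw [Unit.herm_line hf, huu, huv1, hf.herm v u, huv1, hvcen.1, map_one, hρ]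
    ring
  obtain ⟨κ, hκ0, hκ⟩ := hs.exists_skew
  obtain ⟨how, hwM⟩ := hwcen.2 κ hκ
  set W := κ • vecMulVec (u + ρ • v) (dual σ (sT n (s + 1)) (u + ρ • v)) with hW
  have hWM : Mem1 M W := ⟨_, hwM, by rw [tv_coe, hv_hform hs sT_inv, vecMulVec_smul]⟩
  let j : Fin (s + 1) := 0
  let i0 : Fin s := ⟨0, by omega⟩
  let i1 : Fin s := ⟨1, by omega⟩
  let l : Fin (s + 1) := j.succAbove i0
  have hlj : l ≠ j := Fin.succAbove_ne j i0
  set K := pairK σ hσ n j l hlj.symm with hK
  have hKM : K ≤ M := by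
    rintro g ⟨a, b, ha, hb, ha', hb', -, -, rfl⟩
    exact M.mul_mem (hB j a ha ha') (hB l b hb hb')
  let C := AddSubgroup.closure {X | ∃ k ∈ K, X = cj k W}
  have hzero : ∀ k ∈ K, ∀ k' ∈ K, cj k W * cj k' W = 0 := by
    intro k hk k' hk'
    have e : cj k W * cj k' W = cj k (W * cj (k⁻¹ * k') W) := by
      rw [cj_mul, cj_cj, mul_inv_cancel_left]
    rw [e, show W * cj (k⁻¹ * k') W = 0 from ?_, TensorPower.cj_zero]
    have hcv : ∀ (g : GL (Fin (s + 1) → Fin (n + 3)) F) (x y : (Fin (s + 1) → Fin (n + 3)) → F),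
        cj g (vecMulVec x y) = vecMulVec ((g : Matrix (Fin (s + 1) → Fin (n + 3)) _ F) *ᵥ x)
          (y ᵥ* ((g⁻¹ : GL (Fin (s + 1) → Fin (n + 3)) F) : Matrix (Fin (s + 1) → Fin (n + 3)) _ F)) := fun g x y => by
      rw [cj, mul_vecMulVec, vecMulVec_mul]
    rw [hW, cj_smul, Matrix.smul_mul, Matrix.mul_smul, hcv, vecMulVec_mul_vecMulVec,
      show u + ρ • v = wvec n (s + 1) ρ from rfl, pairK_orth (K.mul_mem (K.inv_mem hk) hk') hρ, zero_smul]
    ext; simp [vecMulVec_apply]
  have hCmul : ∀ X ∈ C, ∀ Y ∈ C, X * Y = 0 := by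
    have h1 : ∀ k ∈ K, ∀ Y ∈ C, cj k W * Y = 0 := by
      intro k hk Y hY
      induction hY using AddSubgroup.closure_induction with
      | mem Y hY => obtain ⟨k', hk', rfl⟩ := hY; exact hzero k hk k' hk'
      | zero => exact mul_zero _
      | add _ _ _ _ a b => rw [mul_add, a, b, add_zero]
      | neg _ _ a => rw [mul_neg, a, neg_zero]
    intro X hX Y hY
    induction hX using AddSubgroup.closure_induction with
    | mem X hX => obtain ⟨k, hk, rfl⟩ := hX; exact h1 k hk Y hY
    | zero => exact zero_mul _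
    | add _ _ _ _ a b => rw [add_mul, a, b, add_zero]
    | neg _ _ a => rw [neg_mul, a, neg_zero]
  have hCM : ∀ X ∈ C, Mem1 M X := by
    intro X hX
    induction hX using AddSubgroup.closure_induction with
    | mem X hX => obtain ⟨k, hk, rfl⟩ := hX; exact hWM.conj (hKM hk)
    | zero => exact Mem1.zero
    | add X Y hX hY a b =>
      simpa using a.sub (b.neg (hCmul Y hY Y hY)) (by rw [mul_neg, hCmul X hX Y hY, neg_zero])
        (by rw [neg_mul_neg, hCmul Y hY Y hY])
    | neg X hX a => exact a.neg (hCmul X hX X hX)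
  have hCK : ∀ k ∈ K, ∀ X ∈ C, cj k X ∈ C := by
    intro k hk X hX
    induction hX using AddSubgroup.closure_induction with
    | mem X hX =>
      obtain ⟨k', hk', rfl⟩ := hX
      exact AddSubgroup.subset_closure ⟨k * k', K.mul_mem hk hk', by rw [cj_cj]⟩
    | zero => rw [TensorPower.cj_zero]; exact zero_mem _
    | add _ _ _ _ a b => rw [cj_add]; exact add_mem a b
    | neg _ _ a => rw [TensorPower.cj_neg]; exact neg_mem a
  have hW0 : W ∈ C := AddSubgroup.subset_closure ⟨1, K.one_mem, by simp [cj]⟩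
  -- the differences
  have hZ : ∀ a : F, (a • CfsgLib.Perm.Asch.pure (fun i : Fin s => if i = i0 then Matrix.single (1 : Fin (n + 3)) 0 (1 : F)
      else Matrix.single 0 0 1) + σ a • CfsgLib.Perm.Asch.pure (fun i : Fin s => if i = i0 then
        Matrix.single (1 : Fin (n + 3)) 0 (1 : F) else Matrix.single 1 1 1)) ∈
      (Submodule.span F (smallS M j : Set (Matrix (Fin s → Fin (n + 3)) (Fin s → Fin (n + 3)) F))) := by
    intro a
    obtain ⟨μ, hμ⟩ := hs.exists_trace a
    obtain ⟨μ', hμ'⟩ := hs.exists_trace 1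
    obtain ⟨κ₂, hκ₂0, hκ₂⟩ := hs.exists_skew
    let gl' : List (GL (Fin (n + 3)) F) := [eta σ 2 two_ne.1 two_ne.2 1 μ', eta σ 2 two_ne.1 two_ne.2 a μ]
    let gl : List (GL (Fin (n + 3)) F) := gl'.map fun g => wl n F * g * (wl n F)⁻¹
    have hwl0 : ((wl n F)⁻¹ : GL (Fin (n + 3)) F).val *ᵥ Pi.single 1 1 = Pi.single 0 1 := by
      rw [← wl_e0 (n := n) (F := F), mulVec_mulVec, gl_inv_mul, one_mulVec]
    have hgl : ∀ g ∈ gl, sl l g ∈ K := by
      intro g hg
      obtain ⟨g', hg', rfl⟩ := List.mem_map.1 hg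
      have h' : g' ∈ u1 σ hσ n ∧ (g' : Matrix (Fin (n + 3)) (Fin (n + 3)) F).det = 1 ∧
          (g' : Matrix (Fin (n + 3)) (Fin (n + 3)) F) *ᵥ Pi.single 0 1 = Pi.single 0 1 := by
        rcases List.mem_cons.1 hg' with rfl | hg'
        · exact ⟨eta_mem hσ _ _ hμ', eta_det _ _ _ _, eta_e0 _ _ _ _⟩
        · rw [List.mem_singleton.1 hg']; exact ⟨eta_mem hσ _ _ hμ, eta_det _ _ _ _, eta_e0 _ _ _ _⟩
      refine ⟨1, _, one_mem _, mul_mem (mul_mem wl_mem h'.1) (inv_mem wl_mem), by simp, ?_,
        by rw [Units.val_one, one_mulVec], ?_, by rw [sl_one, one_mul]⟩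
      · rw [Units.val_mul, Units.val_mul, det_units_conj, h'.2.1]
      · rw [Units.val_mul, Units.val_mul, ← mulVec_mulVec, ← mulVec_mulVec, hwl0, h'.2.2, wl_e0]
    have hrt : sl j (rt σ κ₂) ∈ K :=
      ⟨rt σ κ₂, 1, utv_mem hσ _ _ hκ₂, one_mem _, utv_det _ _ _, by simp, by rw [rt_mulVec]; simp,
        by rw [Units.val_one, one_mulVec], by rw [sl_one, mul_one]⟩
    have hX : dd ([rt σ κ₂].map (sl j)) (dd (gl.map (sl l)) W) ∈ C :=
      dd_mem (fun g hg Y hY => by
        simp only [List.map_cons, List.map_nil, List.mem_singleton] at hg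
        subst hg; exact hCK _ hrt Y hY)
        (dd_mem (fun g hg Y hY => by
          obtain ⟨g', hg', rfl⟩ := List.mem_map.1 hg
          exact hCK _ (hgl g' hg') Y hY) hW0)
    have v10 : dd gl (Matrix.single (1 : Fin (n + 3)) 0 (1 : F)) = 0 := by
      have := dd_conj (wl n F) gl' (Matrix.single 0 1 (1 : F))
      rwa [cj_wl 0 1 (Or.inl rfl) (Or.inr rfl), s1_zero, s1_one, dd_e01 (hσ := hσ) two_ne.1 two_ne.2 hμ hμ',
        TensorPower.cj_zero] at this
    have v00 : dd gl (Matrix.single (0 : Fin (n + 3)) 0 (1 : F)) = (-a) • Matrix.single 1 0 1 := by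
      have := dd_conj (wl n F) gl' (Matrix.single 1 1 (1 : F))
      rwa [cj_wl 1 1 (Or.inr rfl) (Or.inr rfl), s1_one, dd_e11 (hσ := hσ) two_ne.1 two_ne.2 hμ hμ', map_one, mul_one,
        cj_smul, cj_wl 0 1 (Or.inl rfl) (Or.inr rfl), s1_zero, s1_one] at this
    have v11 : dd gl (Matrix.single (1 : Fin (n + 3)) 1 (1 : F)) = (-σ a) • Matrix.single 1 0 1 := by
      have := dd_conj (wl n F) gl' (Matrix.single 0 0 (1 : F))
      rwa [cj_wl 0 0 (Or.inl rfl) (Or.inl rfl), s1_zero, dd_e00 (hσ := hσ) two_ne.1 two_ne.2 hμ hμ', mul_one,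
        cj_smul, cj_wl 0 1 (Or.inl rfl) (Or.inr rfl), s1_zero, s1_one] at this
    have hr : rt σ κ₂ ∈ u1 σ hσ n := utv_mem hσ _ _ hκ₂
    have r01 : df (rt σ κ₂) (Matrix.single (0 : Fin (n + 3)) 1 (1 : F)) = 0 := by
      rw [df_apply, cj_unit hr, s1_one, rt_mulVec]
      simp [vmv_single2, s1_zero, dual_single s1_inv]
    have r00 : df (rt σ κ₂) (Matrix.single (0 : Fin (n + 3)) 0 (1 : F)) = (-κ₂) • Matrix.single 0 1 1 := by
      rw [df_apply, cj_unit hr, s1_zero, rt_mulVec, rt_mulVec]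
      simp only [Pi.single_eq_same, Pi.single_eq_of_ne (show (1 : Fin (n + 3)) ≠ 0 by simp), mul_one, mul_zero,
        Pi.single_zero, add_zero, dual_add, dual_single s1_inv, s1_zero, s1_one, map_one, hκ₂, vecMulVec_add,
        vmv_single2, one_mul, Matrix.smul_single, smul_eq_mul]
      abel
    have r11 : df (rt σ κ₂) (Matrix.single (1 : Fin (n + 3)) 1 (1 : F)) = κ₂ • Matrix.single 0 1 1 := by
      rw [df_apply, cj_unit hr, s1_one, rt_mulVec, rt_mulVec]
      simp only [Pi.single_eq_same, Pi.single_eq_of_ne (show (1 : Fin (n + 3)) ≠ 0 by simp), mul_one, mul_zero,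
        Pi.single_zero, add_zero, add_vecMulVec, dual_single s1_inv, s1_zero, s1_one, map_one, vmv_single2, one_mul,
        Matrix.smul_single, smul_eq_mul]
      abel
    have hdd : ∀ p q : Fin (n + 3), dd ([rt σ κ₂].map (sl j)) (dd (gl.map (sl l))
        (CfsgLib.Perm.Asch.pure fun _ : Fin (s + 1) => Matrix.single p q (1 : F))) =
        CfsgLib.Perm.Asch.pure (Function.update (Function.update (fun _ => Matrix.single p q (1 : F)) l
          (dd gl (Matrix.single p q (1 : F)))) j (df (rt σ κ₂) (Matrix.single p q (1 : F)))) := fun p q => by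
      rw [dd_pure, dd_pure, Function.update_of_ne hlj.symm]
      rfl
    have hpz : ∀ (A : Fin (s + 1) → Matrix (Fin (n + 3)) (Fin (n + 3)) F) (i : Fin (s + 1)), A i = 0 →
        CfsgLib.Perm.Asch.pure A = 0 := fun A i hA => by
      ext x y
      rw [pure_apply, Matrix.zero_apply]
      exact Finset.prod_eq_zero (Finset.mem_univ i) (by rw [hA]; rfl)
    have hsplit : ∀ (p : Fin (n + 3)) (e₁ e₂ : F),
        CfsgLib.Perm.Asch.pure (Function.update (Function.update (fun _ : Fin (s + 1) => Matrix.single p p (1 : F)) l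
          (e₁ • Matrix.single (1 : Fin (n + 3)) 0 (1 : F))) j (e₂ • Matrix.single (0 : Fin (n + 3)) 1 1)) =
        rx01 j ((e₁ * e₂) • CfsgLib.Perm.Asch.pure (fun i : Fin s => if i = i0 then
          Matrix.single (1 : Fin (n + 3)) 0 (1 : F) else Matrix.single p p 1)) := by
      intro p e₁ e₂
      rw [← updL_apply, map_smul, updL_apply, Function.update_comm hlj, ← updL_apply, map_smul, smul_smul,
        updL_apply, pure_split j, map_smul, rx01_apply, mul_comm e₂]
      rw [Function.update_of_ne hlj.symm, Function.update_self]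
      congr 4
      funext i
      rcases eq_or_ne i i0 with rfl | hi
      · simp [l]
      · simp [l, hi, Fin.succAbove_ne j i, Fin.succAbove_right_injective.ne hi]
    have hval : dd ([rt σ κ₂].map (sl j)) (dd (gl.map (sl l)) W) = rx01 j ((-(κ * ρ * κ₂)) •
        (a • CfsgLib.Perm.Asch.pure (fun i : Fin s => if i = i0 then Matrix.single (1 : Fin (n + 3)) 0 (1 : F)
          else Matrix.single 0 0 1) + σ a • CfsgLib.Perm.Asch.pure (fun i : Fin s => if i = i0 then
            Matrix.single (1 : Fin (n + 3)) 0 (1 : F) else Matrix.single 1 1 1))) := by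
      rw [hW, dual_add, dual_smul, vecMulVec_add, add_vecMulVec, add_vecMulVec, smul_vecMulVec, smul_vecMulVec,
        vecMulVec_smul, vecMulVec_smul, hu, hv', vmv_dual_single, vmv_dual_single, vmv_dual_single, vmv_dual_single]
      simp only [s1_zero, s1_one, map_add, map_smul, hdd, v10, v00, v11, r01, r00, r11, hsplit]
      rw [hpz _ j (by rw [Function.update_self]), hpz (Function.update (Function.update _ l 0) j _) l
        (by rw [Function.update_of_ne hlj, Function.update_self]), hρ]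
      simp only [smul_zero, add_zero, zero_add, smul_smul, smul_add, map_add, map_smul]
      match_scalars <;> ring
    have hmem : (-(κ * ρ * κ₂)) • (a • CfsgLib.Perm.Asch.pure (fun i : Fin s => if i = i0 then
        Matrix.single (1 : Fin (n + 3)) 0 (1 : F) else Matrix.single 0 0 1) + σ a • CfsgLib.Perm.Asch.pure
          (fun i : Fin s => if i = i0 then Matrix.single (1 : Fin (n + 3)) 0 (1 : F) else Matrix.single 1 1 1)) ∈
        smallS M j := by
      rw [mem_smallS, ← rx01_apply, ← hval]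
      exact hCM _ hX
    exact (Submodule.smul_mem_iff _ (neg_ne_zero.2 (mul_ne_zero (mul_ne_zero hκ0 hρ0) hκ₂0))).1
      (Submodule.subset_span hmem)
  set V := Submodule.span F (smallS M j : Set (Matrix (Fin s → Fin (n + 3)) (Fin s → Fin (n + 3)) F)) with hV
  -- separate the two terms
  have hR0 : CfsgLib.Perm.Asch.pure (fun i : Fin s => if i = i0 then Matrix.single (1 : Fin (n + 3)) 0 (1 : F)
      else Matrix.single 0 0 1) ∈ V := by
    obtain ⟨w, hw⟩ := hs.exists_unfixed
    have := V.sub_mem (hZ w) (V.smul_mem (σ w) (hZ 1))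
    rw [map_one, one_smul, one_smul, smul_add, add_sub_add_right_eq_sub, ← sub_smul] at this
    exact (V.smul_mem_iff (sub_ne_zero.2 (Ne.symm hw))).1 this
  -- one factor at a time
  have hinv : ∀ (A : Fin s → Matrix (Fin (n + 3)) (Fin (n + 3)) F) (i : Fin s) (g : GL (Fin (n + 3)) F),
      g ∈ u1 σ hσ n → (g : Matrix (Fin (n + 3)) (Fin (n + 3)) F).det = 1 → ∀ X,
      CfsgLib.Perm.Asch.pure (Function.update A i X) ∈ V → CfsgLib.Perm.Asch.pure (Function.update A i (cj g X)) ∈ V := by
    intro A i g hg hgd X hX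
    have hVinv : ∀ Z ∈ V, cj (sl i g) Z ∈ V := by
      intro Z hZ'
      induction hZ' using Submodule.span_induction with
      | mem Z hZ'' => exact Submodule.subset_span (hB.cj_sl_mem i hg hgd hZ'')
      | zero => rw [TensorPower.cj_zero]; exact zero_mem _
      | add _ _ _ _ a b => rw [cj_add]; exact add_mem a b
      | smul d _ _ a => rw [cj_smul]; exact Submodule.smul_mem _ d a
    have := hVinv _ hX
    rwa [cj_sl_pure, Function.update_self, Function.update_idem] at this
  have hi01 : i1 ≠ i0 := by simp [i0, i1, Fin.ext_iff]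
  have hstep : ∀ S : Finset (Fin s), CfsgLib.Perm.Asch.pure (fun i : Fin s => if i ∈ S then
      (if i = i1 then (1 : Matrix (Fin (n + 3)) (Fin (n + 3)) F) else Matrix.single (0 : Fin (n + 3)) 1 (1 : F)) else
      (if i = i0 then Matrix.single (1 : Fin (n + 3)) 0 (1 : F) else Matrix.single 0 0 1)) ∈ V := by
    intro S
    induction S using Finset.induction_on with
    | empty => simpa using hR0
    | @insert i S hi ih =>
      set A := fun i : Fin s => if i ∈ S then
        (if i = i1 then (1 : Matrix (Fin (n + 3)) (Fin (n + 3)) F) else Matrix.single (0 : Fin (n + 3)) 1 (1 : F)) else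
        (if i = i0 then Matrix.single (1 : Fin (n + 3)) 0 (1 : F) else Matrix.single 0 0 1) with hA
      have e : ∀ X, Function.update A i X = fun k => if k ∈ insert i S then
          (if k = i then X else if k = i1 then (1 : Matrix (Fin (n + 3)) (Fin (n + 3)) F) else Matrix.single (0 : Fin (n + 3)) 1 (1 : F)) else
          (if k = i0 then Matrix.single (1 : Fin (n + 3)) 0 (1 : F) else Matrix.single 0 0 1) := fun X => by
        funext k
        rcases eq_or_ne k i with rfl | hk
        · simp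
        · simp [hA, hk]
      have hcur : CfsgLib.Perm.Asch.pure (Function.update A i (A i)) ∈ V := by rwa [Function.update_eq_self]
      have hAi : A i = if i = i0 then Matrix.single (1 : Fin (n + 3)) 0 (1 : F) else Matrix.single 0 0 1 := by
        simp [hA, hi]
      suffices hsuf : CfsgLib.Perm.Asch.pure (Function.update A i
          (if i = i1 then (1 : Matrix (Fin (n + 3)) (Fin (n + 3)) F) else Matrix.single (0 : Fin (n + 3)) 1 (1 : F))) ∈ V by
        convert hsuf using 2
        rw [e]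
        funext k
        rcases eq_or_ne k i with rfl | hk <;> simp [*]
      rw [hAi] at hcur
      by_cases h0 : i = i0
      · subst h0
        rw [if_pos rfl] at hcur
        have := hinv A i0 _ wl_mem wl_det _ hcur
        rw [cj_wl 1 0 (Or.inr rfl) (Or.inl rfl), s1_zero, s1_one] at this
        rwa [if_neg hi01.symm]
      · rw [if_neg h0] at hcur
        obtain ⟨h1, h2⟩ := small_span (hσ := hσ) hs (V.comap (updL A i)) (fun g hg hgd X hX => hinv A i g hg hgd X hX) hcur
        split_ifs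
        · exact h1
        · exact h2
  have hD := hstep Finset.univ
  simp only [Finset.mem_univ, if_true] at hD
  set D := CfsgLib.Perm.Asch.pure (fun i : Fin s => if i = i1 then (1 : Matrix (Fin (n + 3)) (Fin (n + 3)) F) else
    Matrix.single (0 : Fin (n + 3)) 1 (1 : F)) with hDdef
  have hDadj : adj σ (sT n s) D = D := by
    rw [hDdef, adj_pure]
    congr 1
    funext i
    split_ifs
    · exact adj_one s1_inv
    · rw [adj_single s1_inv, s1_one, s1_zero, map_one]
  -- skew combinations lie in the group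
  have hskew : ∀ X ∈ V, ∀ d : F, d • X - σ d • adj σ (sT n s) X ∈ smallS M j := by
    intro X hX
    induction hX using Submodule.span_induction with
    | mem X hX =>
      intro d
      rw [skew_of_mem hM hX, smul_neg, sub_neg_eq_add, ← add_smul]
      exact fix_smul_mem hs hB (by rw [map_add, hs.invol, add_comm]) hX
    | zero => intro d; rw [adj_zero, smul_zero, smul_zero, sub_zero]; exact zero_mem _
    | add X Y _ _ a b =>
      intro d
      rw [adj_add, smul_add, smul_add, add_sub_add_comm]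
      exact add_mem (a d) (b d)
    | smul r X _ a =>
      intro d
      rw [adj_smul, smul_smul, smul_smul, ← map_mul]
      exact a (d * r)
  obtain ⟨μ, hμ⟩ := hs.exists_trace 1
  obtain ⟨θ, hθ⟩ : ∃ θ : F, θ + σ θ = 1 := ⟨-μ, by
    rw [map_one, mul_one] at hμ
    rw [map_neg]
    linear_combination -hμ⟩
  have hmem : c • D ∈ smallS M j := by
    have := hskew (c • D) (V.smul_mem c hD) θ
    rwa [adj_smul, hDadj, hcσ, neg_smul, smul_neg, sub_neg_eq_add, ← add_smul, hθ, one_smul] at this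
  refine ⟨j.succAbove i1, c, hc, ?_⟩
  have h' := mem_smallS.1 hmem
  rw [map_smul, Matrix.mul_smul] at h'
  convert h' using 1
  rw [show Matrix.single (fun _ : Fin s => (0 : Fin (n + 3))) (fun _ => (1 : Fin (n + 3))) c =
    c • Matrix.single (fun _ : Fin s => (0 : Fin (n + 3))) (fun _ => (1 : Fin (n + 3))) (1 : F) by
      rw [Matrix.smul_single, smul_eq_mul, mul_one], map_smul, ← pure_single, hDdef, emb_pure, emb_pure, sx,
    slot_mul_pure, Fin.insertNth_apply_same, mul_one, Fin.update_insertNth]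
  congr 2
  funext k
  rcases Fin.eq_self_or_eq_succAbove (j.succAbove i1) k with rfl | ⟨i, rfl⟩
  · simp
  · rw [Fin.insertNth_apply_succAbove]
    rcases Fin.eq_self_or_eq_succAbove j ((j.succAbove i1).succAbove i) with hh | ⟨i', hi'⟩
    · rw [hh, Fin.insertNth_apply_same]
    · rw [hi', Fin.insertNth_apply_succAbove, if_neg]
      intro e
      rw [e] at hi'
      exact Fin.succAbove_ne _ i hi'

end CfsgLib.Perm.Trans.TensorPowerU
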