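import Cfsg.Agent.Lib.Perm.Trans.TensorPowerU.Emb

/-!
# A pattern of roots on some factors spreads to all factors
-/

set_option autoImplicit false
set_option linter.all false

namespace CfsgLib.Perm.Trans.TensorPowerU

open scoped Matrix
open Matrix Cfsg.Geo CfsgLib.Perm.Asch CfsgLib.Perm.Trans CfsgLib.Perm.Trans.TensorPower

variable {F : Type*} [Field F] {σ : F ≃+* F} {n t : ℕ} {hσ : ∀ a, σ (σ a) = a}

/-- `M` contains the three-cycles of the factors -/
def HasUPerms (M : Subgroup (GL (Fin t → Fin (n + 3)) F)) : Prop :=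
  ∀ a b c : Fin t, a ≠ b → a ≠ c → b ≠ c → permGL (Equiv.swap a b * Equiv.swap a c) ∈ M

variable {M : Subgroup (GL (Fin t → Fin (n + 3)) F)}

theorem comm_two_sided {ι : Type} [Fintype ι] [DecidableEq ι] {M : Subgroup (GL ι F)} {X Y : Matrix ι ι F}
    (hX : Mem1 M X) (hY : Mem1 M Y) (hXX : X * X = 0) (hYY : Y * Y = 0) (hXYX : X * Y * X = 0)
    (hYXY : Y * X * Y = 0) : Mem1 M (X * Y - Y * X) := by
  obtain ⟨g, hg, hgX⟩ := hX
  obtain ⟨h, hh, hhY⟩ := hY
  refine ⟨g * h * g⁻¹ * h⁻¹, M.mul_mem (M.mul_mem (M.mul_mem hg hh) (M.inv_mem hg)) (M.inv_mem hh), ?_⟩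
  rw [Units.val_mul, Units.val_mul, Units.val_mul, hgX, hhY, inv_one_add hgX hXX, inv_one_add hhY hYY]
  rw [mul_assoc] at hXYX hYXY
  have h1 : X * (Y * (X * Y)) = 0 := by rw [hYXY, mul_zero]
  have h2 : X * (Y * Y) = 0 := by rw [hYY, mul_zero]
  simp only [mul_sub, sub_mul, mul_add, add_mul, mul_one, one_mul, mul_assoc, hXX, hYY, hXYX, hYXY, h1, h2, mul_zero,
    sub_zero, add_zero, zero_add]
  abel

theorem perm_pp (π : Equiv.Perm (Fin t)) (T : Finset (Fin t)) (a b : Fin t → Fin (n + 3)) (c : F) :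
    cj (permGL π) (pp T a b c) = pp (T.map π.toEmbedding) (a ∘ π.symm) (b ∘ π.symm) c := by
  unfold pp
  rw [cj_smul, cj_permGL_pure]
  congr 2
  funext l
  by_cases hl : π.symm l ∈ T
  · have hl' : l ∈ T.map π.toEmbedding := by simpa [Finset.mem_map_equiv] using hl
    simp [hl, hl']
  · have hl' : l ∉ T.map π.toEmbedding := by simpa [Finset.mem_map_equiv] using hl
    simp [hl, hl']

theorem pp_cj_pure (W : Fin t → GL (Fin (n + 3)) F) {T : Finset (Fin t)} {a b a' b' : Fin t → Fin (n + 3)} (c : F)
    (hT : ∀ l ∈ T, cj (W l) (Matrix.single (a l) (b l) (1 : F)) = Matrix.single (a' l) (b' l) 1) :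
    cj (pureGL W) (pp T a b c) = pp T a' b' c := by
  unfold pp
  rw [cj_smul, cj_pureGL]
  congr 2
  funext l
  by_cases hl : l ∈ T
  · simp [hl, hT l hl]
  · simp [hl, cj_one]

theorem pp_left {T : Finset (Fin t)} {a b : Fin t → Fin (n + 3)} (c : F) {l : Fin t} (hl : l ∈ T) :
    sx l (a l) (a l) * pp T a b c = pp T a b c := by
  unfold pp
  rw [Matrix.mul_smul, sx, slot_mul_pure, Finset.piecewise_eq_of_mem _ _ _ hl, Matrix.single_mul_single_same, one_mul]
  congr 2
  exact Function.update_eq_self_iff.2 (Finset.piecewise_eq_of_mem T (fun l => Matrix.single (a l) (b l) (1 : F)) 1 hl).symm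

theorem pp_right {T : Finset (Fin t)} {a b : Fin t → Fin (n + 3)} (c : F) {l : Fin t} (hl : l ∈ T) :
    pp T a b c * sx l (b l) (b l) = pp T a b c := by
  unfold pp
  rw [Matrix.smul_mul, sx, pure_mul_slot, Finset.piecewise_eq_of_mem _ _ _ hl, Matrix.single_mul_single_same, mul_one]
  congr 2
  exact Function.update_eq_self_iff.2 (Finset.piecewise_eq_of_mem T (fun l => Matrix.single (a l) (b l) (1 : F)) 1 hl).symm

theorem dd_pp {T : Finset (Fin t)} {a b : Fin t → Fin (n + 3)} (c : F) {l : Fin t} (hl : l ∈ T)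
    {gs : List (GL (Fin (n + 3)) F)} {e : F} {p q : Fin (n + 3)}
    (h : dd gs (Matrix.single (a l) (b l) (1 : F)) = e • Matrix.single p q 1) :
    dd (gs.map (sl l)) (pp T a b c) = pp T (Function.update a l p) (Function.update b l q) (c * e) := by
  unfold pp
  rw [map_smul, dd_pure, Finset.piecewise_eq_of_mem _ _ _ hl, h, ← updL_apply, map_smul, smul_smul, updL_apply]
  congr 2
  funext k
  rcases eq_or_ne k l with rfl | hk
  · simp [hl]
  · by_cases hkT : k ∈ T <;> simp [hk, hkT]

variable [Fintype F] (hs : Sc σ) (hB : HasUBase σ hσ M) (hP : HasUPerms M)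
include hs hB hP

/-- one further factor -/
theorem exists_bigger {T : Finset (Fin t)} (h2 : 2 ≤ T.card) {b : Fin t} (hb : b ∉ T) {c : F} (hc : c ≠ 0)
    (h : Mem1 M (pp T (fun _ => 0) (fun _ => 1) c)) :
    ∃ c' : F, c' ≠ 0 ∧ Mem1 M (pp (insert b T) (fun _ => 0) (fun _ => 1) c') := by
  classical
  obtain ⟨a, ha, d, hd, had⟩ := Finset.one_lt_card.1 (show 1 < T.card by omega)
  have hab : a ≠ b := fun e => hb (e ▸ ha)
  have hdb : d ≠ b := fun e => hb (e ▸ hd)
  set π := Equiv.swap a d * Equiv.swap a b with hπ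
  have hπM : permGL π ∈ M := hP a d b had hab hdb
  set O := T.erase d with hO
  have hT1 : T.map π.toEmbedding = insert b O := by
    ext x
    rw [Finset.mem_map_equiv, Finset.mem_insert, hO, Finset.mem_erase]
    have hs' : π.symm x = Equiv.swap a b (Equiv.swap a d x) := by
      rw [Equiv.symm_apply_eq, hπ, Equiv.Perm.mul_apply, Equiv.swap_apply_self, Equiv.swap_apply_self]
    rw [hs']
    rcases eq_or_ne x a with rfl | hxa
    · simp [Equiv.swap_apply_of_ne_of_ne had.symm hdb, hd, ha, had]
    rcases eq_or_ne x d with rfl | hxd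
    · simp [Equiv.swap_apply_left, hb, hdb]
    rcases eq_or_ne x b with rfl | hxb
    · simp [Equiv.swap_apply_of_ne_of_ne hxa hxd, ha]
    · simp [Equiv.swap_apply_of_ne_of_ne hxa hxd, Equiv.swap_apply_of_ne_of_ne hxa hxb, hxd, hxb]
  have h1 := h.conj hπM
  rw [perm_pp, hT1] at h1
  let W : Fin t → GL (Fin (n + 3)) F := fun l => if l ∈ O then wl n F else 1
  have hWM : pureGL W ∈ M := hB.pure_mem W
    (fun l => by simp only [W]; split_ifs <;> [exact wl_mem; exact one_mem _])
    (fun l => by simp only [W]; split_ifs <;> [exact wl_det; simp])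
  let p : Fin t → Fin (n + 3) := fun l => if l ∈ O then 1 else 0
  let q : Fin t → Fin (n + 3) := fun l => if l ∈ O then 0 else 1
  have h3 := h1.conj hWM
  rw [pp_cj_pure W (T := insert b O) (a' := p) (b' := q) c (fun l _ => by
    simp only [W, p, q, Function.comp_apply]
    split_ifs
    · rw [cj_wl 0 1 (Or.inl rfl) (Or.inr rfl), s1_zero, s1_one]
    · simp [cj])] at h3
  set X := pp T (fun _ => (0 : Fin (n + 3))) (fun _ => 1) c with hX
  set Y := pp (insert b O) p q c with hY
  have hdO : d ∉ O := Finset.notMem_erase d T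
  have hbO : b ∉ O := fun e => hb (Finset.mem_of_mem_erase e)
  have hXX : X * X = 0 := pp_mul_zero hd hd (by simp)
  have hYY : Y * Y = 0 := pp_mul_zero (Finset.mem_insert_self b O) (Finset.mem_insert_self b O) (by simp [p, q, hbO])
  have hU : T ∪ insert b O = insert b T := by
    ext x; simp [hO, Finset.mem_erase]; tauto
  have hU' : insert b O ∪ T = insert b T := by rw [Finset.union_comm, hU]
  have hXY : X * Y = pp (insert b T) (fun _ => 0) q (c * c) := by
    rw [hX, hY, pp_mul (fun l hl hl' => by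
      have : l ∈ O := by
        rcases Finset.mem_insert.1 hl' with rfl | h'
        · exact absurd hl hb
        · exact h'
      simp [p, this]), hU]
    refine pp_congr (fun l hl => ?_) fun l hl => ?_
    · by_cases hlT : l ∈ T
      · simp [hlT]
      · have : l = b := (Finset.mem_insert.1 hl).resolve_right hlT
        simp [p, this, hb, hbO]
    · by_cases hlO : l ∈ insert b O
      · simp [hlO]
      · simp only [Finset.mem_insert, not_or] at hlO
        simp [q, hlO.1, hlO.2]
  have hYX : Y * X = pp (insert b T) p (fun _ => 1) (c * c) := by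
    rw [hX, hY, pp_mul (fun l hl hl' => by
      have : l ∈ O := by
        rcases Finset.mem_insert.1 hl with rfl | h'
        · exact absurd hl' hb
        · exact h'
      simp [q, this]), hU']
    refine pp_congr (fun l hl => ?_) fun l hl => ?_
    · by_cases hlO : l ∈ insert b O
      · simp [hlO]
      · simp only [Finset.mem_insert, not_or] at hlO
        simp [p, hlO.1, hlO.2]
    · by_cases hlT : l ∈ T
      · simp [hlT]
      · have : l = b := (Finset.mem_insert.1 hl).resolve_right hlT
        simp [q, this, hb, hbO]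
  have hdU : d ∈ insert b T := Finset.mem_insert_of_mem hd
  have hXYX : X * Y * X = 0 := by
    rw [hXY, hX]; exact pp_mul_zero hdU hd (by simp [q, hdO])
  have hYXY : Y * X * Y = 0 := by
    rw [hYX, hY]; exact pp_mul_zero (Finset.mem_insert_self b T) (Finset.mem_insert_self b O) (by simp [p, hbO])
  have hZ := comm_two_sided h h3 hXX hYY hXYX hYXY
  rw [hXY, hYX] at hZ
  -- the differences on the common factors
  let Φ : Finset (Fin t) → F → F → Matrix (Fin t → Fin (n + 3)) (Fin t → Fin (n + 3)) F := fun S e e' =>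
    pp (insert b T) (fun _ => 0) (fun l => if l ∈ O ∧ l ∉ S then 0 else 1) e -
      pp (insert b T) (fun l => if l ∈ O ∧ l ∉ S then 1 else 0) (fun _ => 1) e'
  have hblk : ∀ e e' : F, ∀ S, Mem1 M (Φ S e e') → Φ S e e' ∈ blkG M d := by
    intro e e' S hm
    refine ⟨hm, ?_, ?_⟩
    · simp only [Φ, mul_sub]
      congr 1
      · exact pp_left (a := fun _ => (0 : Fin (n + 3))) e hdU
      · conv_rhs => rw [← pp_left (a := fun l => if l ∈ O ∧ l ∉ S then (1 : Fin (n + 3)) else 0) e' hdU]
        simp [hdO]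
    · simp only [Φ, sub_mul]
      congr 1
      · conv_rhs => rw [← pp_right (b := fun l => if l ∈ O ∧ l ∉ S then (0 : Fin (n + 3)) else 1) e hdU]
        simp [hdO]
      · exact pp_right (b := fun _ => (1 : Fin (n + 3))) e' hdU
  have hstep : ∀ (S : Finset (Fin t)) (l : Fin t), l ∈ O → l ∉ S → ∀ e e' x : F, Φ S e e' ∈ blkG M d →
      Φ (insert l S) (e * x) (e' * σ x) ∈ blkG M d := by
    intro S l hlO hlS e e' x hm
    obtain ⟨μ, hμ⟩ := hs.exists_trace 1
    obtain ⟨μ', hμ'⟩ := hs.exists_trace (-x)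
    have hld : l ≠ d := fun e0 => hdO (e0 ▸ hlO)
    have hlU : l ∈ insert b T := Finset.mem_insert_of_mem (Finset.mem_of_mem_erase hlO)
    have hg : ∀ g ∈ [eta σ 2 two_ne.1 two_ne.2 (-x) μ', eta σ 2 two_ne.1 two_ne.2 1 μ],
        sl l g ∈ M := by
      intro g hg
      rcases List.mem_cons.1 hg with rfl | hg
      · exact hB.eta_mem l _ _ hμ'
      · rw [List.mem_singleton.1 hg]; exact hB.eta_mem l _ _ hμ
    have hr := dd_mem_blkG (M := M) hld hg hm
    simp only [Φ, map_sub] at hr
    rw [dd_pp e hlU (e := x) (p := 0) (q := 1) (by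
        simp only [hlO, hlS, not_false_iff, and_self, if_true]
        rw [dd_e00 (hσ := hs.invol) two_ne.1 two_ne.2 hμ hμ', map_one]; simp),
      dd_pp e' hlU (e := σ x) (p := 0) (q := 1) (by
        simp only [hlO, hlS, not_false_iff, and_self, if_true]
        rw [dd_e11 (hσ := hs.invol) two_ne.1 two_ne.2 hμ hμ', map_neg]; simp)] at hr
    simp only [Φ]
    convert hr using 2 <;>
    · refine pp_congr (fun k hk => ?_) fun k hk => ?_ <;>
      · rcases eq_or_ne k l with rfl | hkl
        · simp
        · simp [hkl]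
  have haO : a ∈ O := Finset.mem_erase.2 ⟨had, ha⟩
  have hall : ∀ S ⊆ O.erase a, Φ S (c * c) (c * c) ∈ blkG M d := by
    intro S
    induction S using Finset.induction_on with
    | empty =>
      intro _
      refine hblk _ _ _ ?_
      convert hZ using 1
      simp only [Φ]
      congr 1 <;> exact pp_congr (fun k _ => by simp [p]) fun k _ => by simp [q]
    | @insert l S hl ih =>
      intro hsub
      obtain ⟨hl', hS⟩ := Finset.insert_subset_iff.1 hsub
      simpa using hstep S l (Finset.mem_of_mem_erase hl') hl _ _ 1 (ih hS)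
  obtain ⟨x, hx⟩ := hs.exists_unfixed
  have hfin := (hstep _ a haO (Finset.notMem_erase a O) _ _ x (hall _ (Finset.Subset.refl _))).1
  rw [Finset.insert_erase haO] at hfin
  refine ⟨c * c * (x - σ x), mul_ne_zero (mul_ne_zero hc hc) (sub_ne_zero.2 (Ne.symm hx)), ?_⟩
  convert hfin using 1
  simp only [Φ, and_not_self, if_false]
  unfold pp
  rw [← sub_smul, mul_sub]

/-- a pattern on at least two factors spreads to all factors -/
theorem full_pattern {T : Finset (Fin t)} (h2 : 2 ≤ T.card) {c : F} (hc : c ≠ 0)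
    (h : Mem1 M (pp T (fun _ => 0) (fun _ => 1) c)) :
    ∃ c' : F, c' ≠ 0 ∧ Mem1 M (Matrix.single (fun _ : Fin t => (0 : Fin (n + 3))) (fun _ => 1) c') := by
  classical
  have : ∀ (k : ℕ) (T : Finset (Fin t)) (c : F), t ≤ T.card + k → 2 ≤ T.card → c ≠ 0 →
      Mem1 M (pp T (fun _ => 0) (fun _ => 1) c) →
      ∃ c' : F, c' ≠ 0 ∧ Mem1 M (Matrix.single (fun _ : Fin t => (0 : Fin (n + 3))) (fun _ => 1) c') := by
    intro k
    induction k with
    | zero =>
      intro T c hk _ hc h
      have : T = Finset.univ := Finset.eq_univ_of_card T (by have := T.card_le_univ; simp at this ⊢; omega)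
      subst this
      exact ⟨c, hc, by rwa [pp_univ] at h⟩
    | succ k ih =>
      intro T c hk h2 hc h
      by_cases hT : t ≤ T.card + k
      · exact ih T c hT h2 hc h
      obtain ⟨b, hb⟩ : ∃ b, b ∉ T := by
        by_contra hcon
        push Not at hcon
        have : T = Finset.univ := Finset.eq_univ_of_forall hcon
        subst this
        simp at hT
      obtain ⟨c', hc', h'⟩ := exists_bigger hs hB hP h2 hb hc h
      exact ih (insert b T) c' (by rw [Finset.card_insert_of_notMem hb]; omega)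
        (by rw [Finset.card_insert_of_notMem hb]; omega) hc' h'
  exact this t T c (by omega) h2 hc h

end CfsgLib.Perm.Trans.TensorPowerU
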