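import Cfsg.Agent.Lib.Perm.Trans.TensorPowerU.Unip
import Cfsg.Agent.Lib.Perm.Trans.TensorPowerU.Grow

/-!
# A non-scalar cofactor of a root gives a pattern
-/

set_option autoImplicit false
set_option linter.all false

namespace CfsgLib.Perm.Trans.TensorPowerU

open scoped Matrix
open Matrix Cfsg.Geo CfsgLib.Perm.Asch CfsgLib.Perm.Trans CfsgLib.Perm.Trans.TensorPower

variable {F : Type*} [Field F] {σ : F ≃+* F} {n s t : ℕ} {hσ : ∀ a, σ (σ a) = a}

local notation "Mat" => Matrix (Fin t → Fin (n + 3)) (Fin t → Fin (n + 3)) F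

/-- `X` commutes with the factor `l` -/
def Cm (l : Fin t) (X : Mat) : Prop := ∀ u v, sx l u v * X = X * sx l u v

theorem cm_blk (l : Fin t) (c a : Fin (n + 3)) (X : Mat) : Cm l (blk l c a X) := fun u v => blk_comm l c a u v X

theorem blk_zero (j : Fin t) (c a : Fin (n + 3)) : blk j c a (0 : Mat) = 0 := by simp [blk]

theorem blk_add (j : Fin t) (c a : Fin (n + 3)) (X Y : Mat) : blk j c a (X + Y) = blk j c a X + blk j c a Y := by
  simp [blk, mul_add, add_mul, Finset.sum_add_distrib]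

theorem blk_sub (j : Fin t) (c a : Fin (n + 3)) (X Y : Mat) : blk j c a (X - Y) = blk j c a X - blk j c a Y := by
  simp [blk, mul_sub, sub_mul, Finset.sum_sub_distrib]

theorem blk_smul (j : Fin t) (c a : Fin (n + 3)) (r : F) (X : Mat) : blk j c a (r • X) = r • blk j c a X := by
  simp [blk, Finset.smul_sum]

theorem blk_sx_left (j : Fin t) (x y a b : Fin (n + 3)) (X : Mat) :
    blk j x y (sx j a b * X) = if x = a then blk j b y X else 0 := by
  unfold blk
  split_ifs with h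
  · subst h
    refine Finset.sum_congr rfl fun r _ => ?_
    rw [← mul_assoc (sx j r x), sx_mul, if_pos rfl]
  · refine Finset.sum_eq_zero fun r _ => ?_
    rw [← mul_assoc (sx j r x), sx_mul, if_neg h, zero_mul, zero_mul]

theorem blk_sx_right (j : Fin t) (x y a b : Fin (n + 3)) (X : Mat) :
    blk j x y (X * sx j a b) = if y = b then blk j x a X else 0 := by
  unfold blk
  split_ifs with h
  · subst h
    refine Finset.sum_congr rfl fun r _ => ?_
    rw [mul_assoc, mul_assoc X, sx_mul, if_pos rfl, ← mul_assoc]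
  · refine Finset.sum_eq_zero fun r _ => ?_
    rw [mul_assoc, mul_assoc X, sx_mul, if_neg (Ne.symm h), mul_zero, mul_zero]

theorem blk_sx (j : Fin t) (x y a b : Fin (n + 3)) :
    blk j x y (sx j a b : Mat) = if x = a ∧ y = b then 1 else 0 := by
  have h := blk_sx_left j x y a b (1 : Mat)
  rw [mul_one, blk_one] at h
  rw [h]
  by_cases h1 : x = a <;> by_cases h2 : b = y <;> simp [h1, h2, Ne.symm]

/-- in one factor: a scalar plus a root -/
def Two (l : Fin t) (Z : Mat) : Prop := ∃ B C, Cm l B ∧ Cm l C ∧ Z = B + sx l 0 1 * C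

theorem one_mat_ne : (1 : Mat) ≠ 0 := fun e => by
  have := congrFun (congrFun e fun _ => 0) fun _ => 0
  simp at this

/-- the equation of a fixed point -/
theorem fixed_eq {l : Fin t} {g : GL (Fin (n + 3)) F} {N : Matrix (Fin (n + 3)) (Fin (n + 3)) F} {Z : Mat} {c : F}
    (he : (g : Matrix (Fin (n + 3)) (Fin (n + 3)) F) = 1 + N) (h : cj (sl l g) Z = Z + c • 1) :
    slot l N * Z - Z * slot l N = c • (1 + slot l N) := by
  have h1 : (sl l g : Mat) * Z = (Z + c • 1) * (sl l g : Mat) := by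
    rw [← h, cj, mul_assoc, gl_inv_mul, mul_one]
  rw [sl_coe, he, slot_add, slot_one, add_mul, one_mul, add_mul, mul_add, mul_one, Matrix.smul_mul, one_mul] at h1
  rw [← sub_eq_zero]
  rw [← sub_eq_zero] at h1
  rw [← h1]
  abel

theorem two_of_fixed [Fintype F] (hs : Sc σ) {l : Fin t} {Z : Mat}
    (h : ∀ g : GL (Fin (n + 3)) F, g ∈ uQ σ hσ n → ∃ c : F, cj (sl l g) Z = Z + c • 1) : Two l Z := by
  obtain ⟨κ, hκ0, hκ⟩ := hs.exists_skew
  set B := fun x y => blk l x y Z with hB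
  have hsl : ∀ (a b : Fin (n + 3)) (r : F), (slot l (Matrix.single a b r) : Mat) = r • sx l a b := fun a b r => by
    rw [single_smul_one r, ← slotHom_apply, map_smul]; rfl
  -- the long root
  obtain ⟨c, hc⟩ := h _ (rt_mem_uQ (hσ := hσ) hκ)
  have e1 := fixed_eq (rt_coe κ) hc
  rw [Matrix.smul_single, smul_eq_mul, mul_one, hsl] at e1
  have E1 : ∀ x y, κ • ((if x = 0 then B 1 y else 0) - if y = 1 then B x 0 else 0) =
      c • ((if x = y then 1 else 0) + κ • if x = 0 ∧ y = 1 then (1 : Mat) else 0) := by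
    intro x y
    have := congrArg (blk l x y) e1
    simpa only [blk_sub, blk_add, blk_smul, Matrix.smul_mul, Matrix.mul_smul, blk_sx_left, blk_sx_right, blk_one,
      blk_sx, smul_sub] using this
  have hc0 : c = 0 := by
    have := E1 2 2
    simp [two_ne.1, two_ne.2] at this
    exact (smul_eq_zero.1 this.symm).resolve_right one_mat_ne
  subst hc0
  have E1' : ∀ x y, (if x = 0 then B 1 y else 0) = if y = 1 then B x 0 else 0 := fun x y => by
    have := E1 x y
    rw [zero_smul, smul_eq_zero] at this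
    exact sub_eq_zero.1 (this.resolve_left hκ0)
  have h1y : ∀ y, y ≠ 1 → B 1 y = 0 := fun y hy => by simpa [hy] using E1' 0 y
  have hx0 : ∀ x, x ≠ 0 → B x 0 = 0 := fun x hx => by simpa [hx] using (E1' x 1).symm
  have h00 : B 1 1 = B 0 0 := by simpa using E1' 0 1
  -- the short roots
  have E2 : ∀ (a : Fin (n + 3)), a ≠ 0 → a ≠ 1 → ∀ w : F, w ≠ 0 →
      B a a = B 1 1 ∧ (∀ b, b ≠ 0 → b ≠ 1 → b ≠ a → B b a = 0) ∧ σ w • B a 1 + w • B 0 a = 0 := by
    intro a ha0 ha1 w hw
    obtain ⟨μ, hμ⟩ := hs.exists_trace w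
    obtain ⟨c, hc⟩ := h _ (eta_mem_uQ (hσ := hσ) ha0 ha1 hμ)
    have e2 := fixed_eq (eta_coe ha0 ha1 w μ) hc
    rw [slot_add, slot_add, hsl, hsl, hsl] at e2
    have E : ∀ x y, (((w • if x = a then B 1 y else 0) + (-σ w) • if x = 0 then B a y else 0) +
        μ • if x = 0 then B 1 y else 0) - (((w • if y = 1 then B x a else 0) + (-σ w) • if y = a then B x 0 else 0) +
        μ • if y = 1 then B x 0 else 0) = c • ((if x = y then 1 else 0) + (((w • if x = a ∧ y = 1 then (1 : Mat) else 0) +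
          (-σ w) • if x = 0 ∧ y = a then 1 else 0) + μ • if x = 0 ∧ y = 1 then 1 else 0)) := by
      intro x y
      have := congrArg (blk l x y) e2
      simpa only [blk_sub, blk_add, blk_smul, add_mul, mul_add, Matrix.smul_mul, Matrix.mul_smul, blk_sx_left,
        blk_sx_right, blk_one, blk_sx] using this
    have hc0 : c = 0 := by
      have := E 1 1
      simp [ha1.symm, h1y a ha1, h1y 0 (by simp)] at this
      exact (smul_eq_zero.1 this.symm).resolve_right one_mat_ne
    subst hc0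
    refine ⟨?_, fun b hb0 hb1 hba => ?_, ?_⟩
    · have := E a 1
      simp [ha0, ha1.symm, hx0 a ha0, sub_eq_zero] at this
      exact (smul_right_injective _ hw this).symm
    · have := E b 1
      simp [hb0, hba, ha1.symm, hx0 b hb0] at this
      exact this.resolve_left hw
    · have := E 0 1
      simp [ha0.symm, ha1.symm, h00] at this
      rw [← neg_eq_zero, ← this]
      abel
  obtain ⟨w, hw⟩ := hs.exists_unfixed
  have hw0 : w ≠ 0 := fun e => hw (by rw [e, map_zero])
  have hmid : ∀ a, a ≠ 0 → a ≠ 1 → B a 1 = 0 ∧ B 0 a = 0 := fun a ha0 ha1 => by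
    have e1 := (E2 a ha0 ha1 1 one_ne_zero).2.2
    have e2 := (E2 a ha0 ha1 w hw0).2.2
    simp only [map_one, one_smul] at e1
    rw [eq_neg_of_add_eq_zero_right e1, smul_neg, ← sub_eq_add_neg, ← sub_smul, smul_eq_zero] at e2
    have h' := e2.resolve_left (sub_ne_zero.2 hw)
    exact ⟨h', by rw [eq_neg_of_add_eq_zero_right e1, h', neg_zero]⟩
  refine ⟨B 1 1, B 0 1, cm_blk _ _ _ _, cm_blk _ _ _ _, ?_⟩
  have hval : ∀ x y, B x y = (if x = y then B 1 1 else 0) + if x = 0 ∧ y = 1 then B 0 1 else 0 := by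
    intro x y
    by_cases hxy : x = y
    · subst hxy
      rw [if_pos rfl, if_neg (fun e => by simpa [e.1] using e.2), add_zero]
      by_cases h0 : x = 0
      · rw [h0, h00]
      by_cases h1 : x = 1
      · rw [h1]
      exact (E2 x h0 h1 1 one_ne_zero).1
    rw [if_neg hxy, zero_add]
    by_cases h : x = 0 ∧ y = 1
    · rw [if_pos h, h.1, h.2]
    rw [if_neg h]
    by_cases hx : x = 1
    · rw [hx]; exact h1y y (fun e => hxy (hx.trans e.symm))
    by_cases hx' : x = 0
    · subst hx'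
      exact (hmid y (fun e => hxy e.symm) fun e => h ⟨rfl, e⟩).2
    by_cases hy : y = 0
    · rw [hy]; exact hx0 x hx'
    by_cases hy1 : y = 1
    · rw [hy1]; exact (hmid x hx' hx).1
    · exact (E2 y hy hy1 1 one_ne_zero).2.1 x hx' hx hxy
  conv_lhs => rw [← blk_sum l Z]
  have e : ∀ x y, sx l x y * blk l x y Z =
      (if x = y then sx l x y * B 1 1 else 0) + if x = 0 ∧ y = 1 then sx l x y * B 0 1 else 0 := fun x y => by
    rw [show blk l x y Z = B x y from rfl, hval, mul_add, mul_ite, mul_ite, mul_zero]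
  simp only [e, Finset.sum_add_distrib]
  congr 1
  · simp only [Finset.sum_ite_eq, Finset.mem_univ, if_true, ← Finset.sum_mul, sx_sum, one_mul]
  · rw [Finset.sum_eq_single 0 (fun x _ hx => Finset.sum_eq_zero fun y _ => if_neg fun e => hx e.1) (by simp),
      Finset.sum_eq_single 1 (fun y _ hy => if_neg fun e => hy e.2) (by simp), if_pos ⟨rfl, rfl⟩]

theorem cm_cj {k : Fin t} {g : GL (Fin t → Fin (n + 3)) F} (hg : ∀ u v, cj g (sx k u v) = (sx k u v : Mat)) {B : Mat}
    (hB : Cm k B) : Cm k (cj g B) := fun u v => by rw [← hg, ← cj_mul, hB, cj_mul]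

theorem two_cj {k : Fin t} {g : GL (Fin t → Fin (n + 3)) F} (hg : ∀ u v, cj g (sx k u v) = (sx k u v : Mat)) {Z : Mat}
    (hZ : Two k Z) : Two k (cj g Z) := by
  obtain ⟨B, C, hB, hC, rfl⟩ := hZ
  exact ⟨cj g B, cj g C, cm_cj hg hB, cm_cj hg hC, by rw [cj_add, cj_mul, hg]⟩

theorem two_sub {k : Fin t} {Z W : Mat} (hZ : Two k Z) (hW : Two k W) : Two k (Z - W) := by
  obtain ⟨B, C, hB, hC, rfl⟩ := hZ
  obtain ⟨B', C', hB', hC', rfl⟩ := hW
  exact ⟨B - B', C - C', fun u v => by rw [mul_sub, sub_mul, hB, hB'], fun u v => by rw [mul_sub, sub_mul, hC, hC'],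
    by rw [mul_sub]; abel⟩

theorem dd_fix {l k : Fin t} (hkl : l ≠ k) (gs : List (GL (Fin (n + 3)) F)) {u v : Fin (n + 3)} {Z : Mat} :
    (sx k u u * Z = Z → sx k u u * dd (gs.map (sl l)) Z = dd (gs.map (sl l)) Z) ∧
      (Z * sx k v v = Z → dd (gs.map (sl l)) Z * sx k v v = dd (gs.map (sl l)) Z) ∧
      (Two k Z → Two k (dd (gs.map (sl l)) Z)) := by
  induction gs with
  | nil => exact ⟨id, id, id⟩
  | cons g gs ih =>
    have e : ∀ p q, cj (sl l g) (sx k p q) = (sx k p q : Mat) := fun p q => cj_sl_slot_ne hkl g _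
    rw [List.map_cons, dd_cons]
    exact ⟨fun h => by rw [mul_sub]; nth_rewrite 1 [← e u u]; rw [← cj_mul, ih.1 h],
      fun h => by rw [sub_mul]; nth_rewrite 1 [← e v v]; rw [← cj_mul, ih.2.1 h],
      fun h => two_sub (two_cj e (ih.2.2 h)) (ih.2.2 h)⟩

theorem dd_slot_mul {l : Fin t} (gs : List (GL (Fin (n + 3)) F)) (X : Matrix (Fin (n + 3)) (Fin (n + 3)) F) {C : Mat}
    (hC : Cm l C) : dd (gs.map (sl l)) (slot l X * C) = slot l (dd gs X) * C := by
  induction gs with
  | nil => rfl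
  | cons g gs ih =>
    rw [List.map_cons, dd_cons, dd_cons, ih, cj_mul, cj_sl_slot,
      cj_eq_self (g := sl l g) (X := C) (by rw [sl_coe]; exact comm_slot_of_units hC _), slot_sub, sub_mul]

variable [Fintype F] {M : Subgroup (GL (Fin (s + 1) → Fin (n + 3)) F)}

/-- a non-scalar cofactor gives a pattern on at least two factors -/
theorem pattern_of_nonscalar (hs : Sc σ) (hB : HasUBase σ hσ M) {j : Fin (s + 1)}
    {Z : Matrix (Fin s → Fin (n + 3)) (Fin s → Fin (n + 3)) F} (hZ : Z ∈ smallS M j) (hne : ∀ c : F, Z ≠ c • 1) :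
    ∃ (T : Finset (Fin (s + 1))) (c : F), 2 ≤ T.card ∧ c ≠ 0 ∧ Mem1 M (pp T (fun _ => 0) (fun _ => 1) c) := by
  classical
  obtain ⟨W, hW, hWne, hfix⟩ := exists_fixed_mod_scalars (σ := σ) (hσ := hσ) (smallS M j) (fun B hBQ Z hZ => by
    refine cj_mem_smallS ?_ hZ
    rw [embGL_pure]
    refine hB.pure_mem _ (fun l => ?_) fun l => ?_ <;> rcases Fin.eq_self_or_eq_succAbove j l with rfl | ⟨i, rfl⟩
    · simp
    · simpa using (hBQ i).1
    · simp
    · simpa using uQ_det (hBQ i)) hZ hne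
  let Ok : Finset (Fin s) → Prop := fun L => ∃ Z ∈ smallS M j, Z ≠ 0 ∧ L.Nonempty ∧ (∀ k, Two k Z) ∧
    ∀ l ∈ L, sx l 0 0 * Z = Z ∧ Z * sx l 1 1 = Z
  have hstep : ∀ (L : Finset (Fin s)) (Z : Matrix (Fin s → Fin (n + 3)) (Fin s → Fin (n + 3)) F) (k : Fin s),
      Z ∈ smallS M j → (∀ i, Two i Z) → (∀ l ∈ L, sx l 0 0 * Z = Z ∧ Z * sx l 1 1 = Z) → k ∉ L → ¬ Cm k Z →
      Ok (insert k L) := by
    intro L Z k hZS hZ2 hZL hk hnc
    obtain ⟨B, C, hB', hC, hZe⟩ := hZ2 k
    have hC0 : C ≠ 0 := fun e => hnc (by rw [hZe, e, mul_zero, add_zero]; exact hB')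
    obtain ⟨κ, hκ0, hκ⟩ := hs.exists_skew
    obtain ⟨w, hw⟩ := hs.exists_unfixed
    obtain ⟨μ, hμ⟩ := hs.exists_trace w
    obtain ⟨μ', hμ'⟩ := hs.exists_trace 1
    have hmem : dd ((opN σ n κ w μ μ').map (sl k)) Z ∈ smallS M j := by
      refine dd_mem (fun g hg X hX => ?_) hZS
      obtain ⟨a, ha, rfl⟩ := List.mem_map.1 hg
      simp only [opN, List.mem_cons, List.not_mem_nil, or_false] at ha
      rcases ha with rfl | rfl | rfl | rfl
      · exact hB.cj_sl_mem k (eta_mem hσ _ _ hμ') (eta_det _ _ _ _) hX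
      · exact hB.cj_sl_mem k (eta_mem hσ _ _ hμ) (eta_det _ _ _ _) hX
      · exact hB.cj_sl_mem k (utv_mem hσ _ _ hκ) (utv_det _ _ _) hX
      · exact hB.cj_sl_mem k wl_mem wl_det hX
    have hval : dd ((opN σ n κ w μ μ').map (sl k)) Z = (κ * (w - σ w)) • (sx k 0 1 * C) := by
      rw [hZe, map_add, sx, dd_slot_mul _ _ hC, opN_root hσ hκ hμ hμ', ← slotHom_apply, map_smul, Matrix.smul_mul,
        slotHom_apply]
      have := dd_slot_mul (opN σ n κ w μ μ') 1 hB'
      rw [slot_one, one_mul] at this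
      rw [this, show dd (opN σ n κ w μ μ') (1 : Matrix (Fin (n + 3)) (Fin (n + 3)) F) = 0 from
        dd_one (wl n F) [eta σ 2 two_ne.1 two_ne.2 1 μ', eta σ 2 two_ne.1 two_ne.2 w μ, rt σ κ], slot_zero, zero_mul,
        zero_add]
    refine ⟨_, hmem, ?_, Finset.insert_nonempty k L, fun i => ?_, fun l hl => ?_⟩
    · rw [hval]
      refine smul_ne_zero (mul_ne_zero hκ0 (sub_ne_zero.2 (Ne.symm hw))) fun e => hC0 ?_
      have h1 := congrArg (blk k 0 1) e
      rw [blk_right hC, blk_sx, if_pos ⟨rfl, rfl⟩, one_mul, blk_zero] at h1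
      exact h1
    · rcases eq_or_ne k i with rfl | hki
      · rw [hval]
        exact ⟨0, (κ * (w - σ w)) • C, fun u v => by rw [mul_zero, zero_mul],
          fun u v => by rw [Matrix.mul_smul, Matrix.smul_mul, hC], by rw [Matrix.mul_smul, zero_add]⟩
      · exact (dd_fix hki _ (u := 0) (v := 1)).2.2 (hZ2 i)
    · rcases Finset.mem_insert.1 hl with rfl | hl
      · rw [hval]
        constructor
        · rw [Matrix.mul_smul, ← mul_assoc, sx_mul, if_pos rfl]
        · rw [Matrix.smul_mul, mul_assoc, ← hC, ← mul_assoc, sx_mul, if_pos rfl]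
      · have hkl : k ≠ l := fun e => hk (e ▸ hl)
        exact ⟨(dd_fix hkl _ (u := 0) (v := 1)).1 (hZL l hl).1, (dd_fix hkl _ (u := 0) (v := 1)).2.1 (hZL l hl).2⟩
  have hstart : ∃ L, Ok L := by
    obtain ⟨k, hk⟩ : ∃ k, ¬ Cm k W := by
      by_contra hcon
      push Not at hcon
      obtain ⟨c, hc⟩ := scalar_of_commute_slots W fun i a b => (hcon i a b).symm
      exact hWne c hc
    exact ⟨_, hstep ∅ W k hW (fun l => two_of_fixed hs fun g hg => hfix l g hg) (by simp) (by simp) hk⟩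
  obtain ⟨L, hL, hmax⟩ := Finset.exists_max_image (Finset.univ.filter Ok) Finset.card
    (by obtain ⟨L, hL⟩ := hstart; exact ⟨L, Finset.mem_filter.2 ⟨Finset.mem_univ _, hL⟩⟩)
  obtain ⟨Z', hZS, hZ0, hLne, hZ2, hZL⟩ := (Finset.mem_filter.1 hL).2
  obtain ⟨c, hc⟩ := eq_pp (L := L) (a := fun _ => (0 : Fin (n + 3))) (b := fun _ => 1) (X := Z')
    (fun l hl => (hZL l hl).1) (fun l hl => (hZL l hl).2) (fun k hk => by
      by_contra hnc
      have h1 := hmax (insert k L) (Finset.mem_filter.2 ⟨Finset.mem_univ _, hstep L Z' k hZS hZ2 hZL hk hnc⟩)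
      rw [Finset.card_insert_of_notMem hk] at h1
      omega)
  have hjL : j ∉ L.map (Fin.succAboveEmb j) := by simp
  refine ⟨insert j (L.map (Fin.succAboveEmb j)), c, ?_, fun e => hZ0 (by rw [hc, e, pp, zero_smul]), ?_⟩
  · rw [Finset.card_insert_of_notMem hjL, Finset.card_map]
    have := hLne.card_pos
    omega
  · have h := mem_smallS.1 hZS
    rw [hc, pp, map_smul, Matrix.mul_smul] at h
    convert h using 1
    rw [pp, pure_split j, sx, Finset.piecewise_eq_of_mem _ _ _ (Finset.mem_insert_self j _)]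
    congr 4
    funext i
    have : j.succAbove i ≠ j := Fin.succAbove_ne j i
    by_cases hi : i ∈ L <;> simp [this, hi, Finset.piecewise]

end CfsgLib.Perm.Trans.TensorPowerU
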