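import Cfsg.Agent.Lib.Perm.Trans.TensorPowerU.TwoMain

/-!
# The induction on the number of factors
-/

set_option autoImplicit false
set_option linter.all false

namespace CfsgLib.Perm.Trans.TensorPowerU

open scoped Matrix
open Matrix Cfsg.Geo CfsgLib.Perm.Asch CfsgLib.Perm.Trans CfsgLib.Perm.Trans.TensorPower

variable {F : Type*} [Field F] [Fintype F] {σ : F ≃+* F} {n : ℕ} {hσ : ∀ a, σ (σ a) = a}

/-- a proper overgroup of the base group and the factor three-cycles lies in the wreath subgroup -/
theorem le_twU (hs : Sc σ) (hq : 1 ≤ n ∨ 4 < Fintype.card F) : ∀ t : ℕ, InnerU σ hσ n t := by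
  intro t
  induction t with
  | zero =>
    intro K _ _ _ hne
    refine absurd (fun g hg => ?_) hne
    have hd : (g : Matrix (Fin 0 → Fin (n + 3)) (Fin 0 → Fin (n + 3)) F).det = 1 := congrArg Units.val hg.2
    rw [show g = 1 from Units.ext (Matrix.ext fun a b => by
      rw [Matrix.det_eq_elem_of_subsingleton _ a] at hd
      rw [Subsingleton.elim b a, Units.val_one, hd, Matrix.one_apply_eq])]
    exact K.one_mem
  | succ s ih =>
    intro M hB hP hM hne
    rcases Nat.eq_zero_or_pos s with rfl | hs1
    · exact fun g _ => tw_of_one (by omega) g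
    have h : UCtx σ hσ M := ⟨hs, hq, hB, hP, hM, hne⟩
    by_cases h2 : (2 : F) = 0
    · exact h.main_two ih h2 hs1
    · exact h.main_odd ih h2

end CfsgLib.Perm.Trans.TensorPowerU
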