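import Cfsg.Agent.Lib.Perm.Trans.TensorPowerU.Main
import Cfsg.Agent.Lib.Perm.Trans.TensorPower.Max
import Cfsg.Agent.Lib.Perm.Trans.TensorFrame
import Cfsg.Agent.Lib.Descent.Hermitian

/-!
# Maximality of the tensor wreath subgroup in the special unitary group
-/

set_option autoImplicit false
set_option linter.all false

namespace CfsgLib.Perm.Trans.TensorPowerU

open scoped Matrix
open Matrix Cfsg.Geo CfsgLib.Perm.Asch CfsgLib.Perm.Trans CfsgLib.Perm.Trans.TensorPower

variable {F : Type*} [Field F] [Fintype F] {σ : F ≃+* F} {n t : ℕ} {hσ : ∀ a, σ (σ a) = a}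

/-- an isometry moving a slot off every slot -/
theorem exists_outsideU (hs : Sc σ) (ht : 2 ≤ t) :
    ∃ g ∈ uT σ hσ n t ⊓ specialLinear (Fin t → Fin (n + 3)) F, g ∉ tensorWreathStandard (n + 3) t F := by
  classical
  obtain ⟨c, hc0, hc⟩ := hs.exists_skew
  obtain ⟨k, hk0, hk1⟩ : ∃ k : Fin (n + 3), k ≠ 0 ∧ k ≠ 1 := ⟨2, two_ne⟩
  let i : Fin t := ⟨0, by omega⟩
  let x : Fin t → Fin (n + 3) := fun _ => 0
  let y : Fin t → Fin (n + 3) := fun _ => 1
  let y' : Fin t → Fin (n + 3) := Function.update y i k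
  have h01 : (0 : Fin (n + 3)) ≠ 1 := by simp
  have hxy : x ≠ y := fun e => h01 (congrFun e i)
  set E : Matrix (Fin t → Fin (n + 3)) (Fin t → Fin (n + 3)) F := Matrix.single x y c with hE
  have hEE : E * E = 0 := by rw [hE, Matrix.single_mul_single_of_ne (h := hxy.symm)]
  let g : GL (Fin t → Fin (n + 3)) F := ⟨1 + E, 1 - E,
    by rw [add_mul, one_mul, mul_sub, mul_one, hEE, sub_zero, sub_add_cancel],
    by rw [sub_mul, one_mul, mul_add, mul_one, hEE, add_zero, add_sub_cancel_right]⟩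
  have hgc : (g : Matrix (Fin t → Fin (n + 3)) (Fin t → Fin (n + 3)) F) = 1 + E := rfl
  have hsy : sT n t y = x := funext fun _ => s1_one
  have hsx : sT n t x = y := funext fun _ => s1_zero
  refine ⟨g, Subgroup.mem_inf.2 ⟨mem_of_one_add hgc hEE ?_, Units.ext ?_⟩, fun hg => ?_⟩
  · rw [hE, adj_single sT_inv, hsy, hsx, hc, Matrix.single_neg]
  · show (1 + E).det = 1
    rw [hE, show Matrix.single x y c = Matrix.single x x (1 : F) * Matrix.single x y c by
      rw [Matrix.single_mul_single_same, one_mul], Matrix.det_one_add_mul_comm,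
      Matrix.single_mul_single_of_ne (h := hxy.symm), add_zero, det_one]
  obtain ⟨π, A, hA⟩ := tw_shape hg
  set S : Matrix (Fin t → Fin (n + 3)) (Fin t → Fin (n + 3)) F := sx i 1 k with hS
  have hES : E * S = Matrix.single x y' c := by
    ext a b
    rw [hE, hS, mul_sx_apply, Matrix.single_apply, Matrix.single_apply]
    by_cases h1 : b i = k
    · rw [if_pos h1]
      refine if_congr (and_congr_right' ⟨fun e => ?_, fun e => ?_⟩) rfl rfl
      · funext l
        rcases eq_or_ne l i with rfl | hl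
        · simp [y', h1]
        · simpa [y', y, hl] using congrFun e l
      · rw [← e]
        simp [y', y]
    · rw [if_neg h1, if_neg]
      rintro ⟨-, e⟩
      exact h1 (by rw [← e]; simp [y'])
  have hSE : S * E = 0 := by
    ext a b
    rw [hE, hS, sx_mul_apply, Matrix.zero_apply]
    split_ifs with h
    · rw [Matrix.single_apply, if_neg]
      rintro ⟨e, -⟩
      exact hk0 (by simpa [x] using (congrFun e i).symm)
    · rfl
  have hcj : cj g S = S + Matrix.single x y' c := by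
    rw [cj, inv_one_add hgc hEE, hgc, add_mul, one_mul, mul_sub, mul_one, add_mul, hSE, mul_assoc E S E, hSE, mul_zero,
      add_zero, sub_zero, hES]
  have hsl : cj (permGL π * pureGL A) S = slot (π i) (cj (A i) (Matrix.single 1 k 1)) := by
    rw [hS, sx, cj_wreath_slot]
  rw [← hA, hcj] at hsl
  have hne : ∀ l, x l ≠ y' l := fun l => by
    rcases eq_or_ne l i with rfl | hl
    · simpa [x, y'] using hk0.symm
    · simpa [x, y', y, hl] using h01
  haveI : Nontrivial (Fin t) := Fin.nontrivial_iff_two_le.2 ht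
  obtain ⟨l, hl⟩ : ∃ l, l ≠ π i := exists_ne _
  obtain ⟨l', hl'⟩ : ∃ l, l ≠ i := exists_ne _
  have h1 := congrFun (congrFun hsl x) y'
  rw [slot_apply, if_neg (fun h => hne l (h l hl)), Matrix.add_apply, Matrix.single_apply_same, hS, sx, slot_apply,
    if_neg (fun h => hne l' (h l' hl')), zero_add] at h1
  exact hc0 h1

/-- the tensor wreath subgroup is maximal in the special isometries -/
theorem twU_maximal (hs : Sc σ) (hq : 1 ≤ n ∨ 4 < Fintype.card F) (ht : 2 ≤ t) :
    IsMaximalIn (uT σ hσ n t ⊓ specialLinear (Fin t → Fin (n + 3)) F)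
      (tensorWreathStandard (n + 3) t F ⊓ (uT σ hσ n t ⊓ specialLinear (Fin t → Fin (n + 3)) F)) := by
  refine ⟨lt_of_le_not_ge inf_le_right fun hle => ?_, fun M hHM hMK => ?_⟩
  · obtain ⟨g, hg, hgn⟩ := exists_outsideU (hσ := hσ) (n := n) hs ht
    exact hgn (hle hg).1
  by_cases hK : uT σ hσ n t ⊓ specialLinear (Fin t → Fin (n + 3)) F ≤ M
  · exact Or.inr (le_antisymm hMK hK)
  refine Or.inl (le_antisymm (le_inf ?_ hMK) hHM)
  exact le_twU hs hq t M (fun i a ha hd => hHM ⟨sl_mem_tw i a, sl_mem_uT i ha, TensorPower.sl_det i hd⟩)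
    (fun a b c hab hac hbc => hHM ⟨perm_mem_tw _, permGL_mem_uT _, perm_mem_SL hab hac hbc⟩)
    (hMK.trans inf_le_left) hK

theorem glReindex_mulVec {ι κ : Type} [Fintype ι] [DecidableEq ι] [Fintype κ] [DecidableEq κ] (e : ι ≃ κ)
    (g : GL κ F) (x : κ → F) :
    ((glReindex e.symm g : GL ι F) : Matrix ι ι F) *ᵥ (x ∘ e) = ((g : Matrix κ κ F) *ᵥ x) ∘ e := by
  funext a
  show ((g : Matrix κ κ F).submatrix e e *ᵥ (x ∘ e)) a = _
  simp only [mulVec, dotProduct, Matrix.submatrix_apply, Function.comp_apply]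
  exact Fintype.sum_equiv e _ _ fun b => rfl

/-- coordinates in which the power of a hermitian form is standard -/
theorem exists_power_frame (hs : Sc σ) {f₁ : (Fin (n + 3) → F) → (Fin (n + 3) → F) → F}
    (hf : IsUnitaryForm σ f₁) :
    ∃ D : GL (Fin (n + 3)) F, ∀ x y : (Fin t → Fin (n + 3)) → F,
      ∑ a, ∑ b, x a * (∏ i, gramMatrix f₁ (a i) (b i)) * σ (y b) =
        hform σ (sT n t) ((pureGL (fun _ : Fin t => D) : GL (Fin t → Fin (n + 3)) F).val *ᵥ x)
          ((pureGL (fun _ : Fin t => D) : GL (Fin t → Fin (n + 3)) F).val *ᵥ y) := by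
  classical
  set G : Matrix (Fin (n + 3)) (Fin (n + 3)) F := gramMatrix f₁ with hG
  have hGH : (G.map σ)ᵀ = G := Matrix.ext fun a b => (hf.herm _ _).symm
  have hGdet : G.det ≠ 0 := fun h0 => by
    obtain ⟨w, hw0, hw⟩ := Matrix.exists_mulVec_eq_zero_iff.2 h0
    have hne : (fun a => σ (w a)) ≠ 0 := fun e => hw0 (funext fun a => by simpa using congrFun e a)
    obtain ⟨v, hv⟩ := (hf.nondegenerate _ hne).2
    refine hv ?_
    rw [hf.herm, TensorFrame.sesq_expand (σ := ⇑σ) ⟨hf.add_left, hf.smul_left, herm_add_right hf, herm_smul_right hf⟩,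
      formOfGram]
    suffices h : ∀ a, ∑ b, v a * gramMatrix f₁ a b * σ (σ (w b)) = 0 by
      rw [Finset.sum_eq_zero fun a _ => h a, map_zero]
    intro a
    simp only [hs.invol, mul_assoc, ← Finset.mul_sum]
    rw [show ∑ b, gramMatrix f₁ a b * w b = 0 from congrFun hw a, mul_zero]
  set J : Matrix (Fin (n + 3)) (Fin (n + 3)) F := Matrix.of fun a b => if b = s1 n a then 1 else 0 with hJ
  have hJJ : J * J = 1 := by
    ext a b
    rw [Matrix.mul_apply, Finset.sum_eq_single (s1 n a) (fun c _ hc => by simp [hJ, hc]) (by simp)]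
    simp [hJ, s1_inv a, Matrix.one_apply, eq_comm]
  have hJH : (J.map σ)ᵀ = J := by
    ext a b
    simp only [hJ, Matrix.transpose_apply, Matrix.map_apply, Matrix.of_apply, apply_ite σ, map_one, map_zero]
    exact if_congr ⟨fun e => by rw [e, s1_inv], fun e => by rw [e, s1_inv]⟩ rfl rfl
  have hord : orderOf (σ : RingAut F) = 2 := orderOf_eq_prime (by
    rw [sq]; exact RingEquiv.ext hs.invol) hs.ne
  obtain ⟨B, hB⟩ := CfsgLib.Descent.exists_hermitian_decomp (σ : RingAut F) hord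
    (Matrix.GeneralLinearGroup.mkOfDetNeZero G hGdet) hGH
  obtain ⟨C, hC⟩ := CfsgLib.Descent.exists_hermitian_decomp (σ : RingAut F) hord (⟨J, J, hJJ, hJJ⟩ : GL _ F) hJH
  have hB' : G = B.val * (B.val.map σ)ᵀ := hB
  have hC' : J = C.val * (C.val.map σ)ᵀ := hC
  set D₀ : GL (Fin (n + 3)) F := B * C⁻¹ with hD₀
  have hGD : G = D₀.val * J * (D₀.val.map σ)ᵀ := by
    have h1 : (C⁻¹).val * C.val = 1 := gl_inv_mul C
    have h2 : (C.val.map σ)ᵀ * ((C⁻¹).val.map σ)ᵀ = 1 := by
      rw [← Matrix.transpose_mul, ← Matrix.map_mul, h1, Matrix.map_one σ (map_zero σ) (map_one σ), Matrix.transpose_one]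
    rw [hD₀, Units.val_mul, Matrix.map_mul, Matrix.transpose_mul, hC', hB']
    calc B.val * (B.val.map σ)ᵀ = B.val * ((C⁻¹).val * C.val) * ((C.val.map σ)ᵀ * ((C⁻¹).val.map σ)ᵀ) * (B.val.map σ)ᵀ := by
          rw [h1, h2, mul_one, mul_one]
      _ = _ := by simp only [mul_assoc]
  have hdT : (D₀.valᵀ).det ≠ 0 := by
    rw [Matrix.det_transpose]; exact ((Matrix.isUnit_iff_isUnit_det _).1 D₀.isUnit).ne_zero
  refine ⟨Matrix.GeneralLinearGroup.mkOfDetNeZero _ hdT, fun x y => ?_⟩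
  set P := CfsgLib.Perm.Asch.pure (fun _ : Fin t => D₀.val) with hP
  have hPT : ((pureGL (fun _ : Fin t => Matrix.GeneralLinearGroup.mkOfDetNeZero _ hdT) :
      GL (Fin t → Fin (n + 3)) F).val) = Pᵀ := by
    rw [pureGL_coe]
    ext a b
    rw [Matrix.transpose_apply, hP, pure_apply, pure_apply]
    rfl
  have hGt : (fun a b : Fin t → Fin (n + 3) => ∏ i, G (a i) (b i)) =
      P * CfsgLib.Perm.Asch.pure (fun _ : Fin t => J) * (P.map σ)ᵀ := by
    have e : (P.map σ)ᵀ = CfsgLib.Perm.Asch.pure (fun _ : Fin t => (D₀.val.map σ)ᵀ) := by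
      ext a b
      rw [Matrix.transpose_apply, Matrix.map_apply, hP, pure_apply, pure_apply, map_prod]
      rfl
    rw [e, hP, pure_mul, pure_mul]
    funext a b
    rw [pure_apply]
    exact Finset.prod_congr rfl fun i _ => congrFun (congrFun hGD _) _
  have hJt : ∀ z : (Fin t → Fin (n + 3)) → F,
      CfsgLib.Perm.Asch.pure (fun _ : Fin t => J) *ᵥ (σ ∘ z) = dual σ (sT n t) z := fun z => by
    funext a
    rw [mulVec, dotProduct, Finset.sum_eq_single (sT n t a) (fun c _ hc => ?_) (by simp)]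
    · simp [pure_apply, hJ, dual, sT]
    · obtain ⟨l, hl⟩ := Function.ne_iff.1 hc
      rw [pure_apply, Finset.prod_eq_zero (Finset.mem_univ l) (by
        have hl' : ¬ c l = s1 n (a l) := hl
        simp [hJ, hl']), zero_mul]
  rw [hPT, hform, ← hJt]
  have hmap : σ ∘ (Pᵀ *ᵥ y) = (P.map σ)ᵀ *ᵥ (σ ∘ y) := funext fun i => by
    rw [Function.comp_apply, ← Matrix.transpose_map]
    exact RingHom.map_mulVec (σ : F →+* F) Pᵀ y i
  rw [hmap, mulVec_mulVec, mulVec_transpose, ← dotProduct_mulVec, mulVec_mulVec, ← mul_assoc, ← hGt]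
  simp only [dotProduct, mulVec, Finset.mul_sum, Function.comp_apply, hG, mul_assoc]

/-- the statement in arbitrary coordinates -/
theorem unitary_tensor_wreath_maximal {ι : Type} [Fintype ι] [DecidableEq ι] (hs : Sc σ)
    (hq : 1 ≤ n ∨ 4 < Fintype.card F) (ht : 2 ≤ t) {f : (ι → F) → (ι → F) → F}
    {f₁ : (Fin (n + 3) → F) → (Fin (n + 3) → F) → F} (hf₁ : IsUnitaryForm σ f₁)
    (e : ι ≃ (Fin t → Fin (n + 3))) (P : GL ι F) (hT : IsTensorPowerFormStructure (⇑σ) f f₁ e P) :
    IsMaximalIn (Unit.isoU f ⊓ specialLinear ι F)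
      (tensorWreathSubgroup (n + 3) t e P ⊓ (Unit.isoU f ⊓ specialLinear ι F)) := by
  classical
  obtain ⟨c, hc0, hT⟩ := hT
  obtain ⟨D, hD⟩ := exists_power_frame (t := t) hs hf₁
  set Q : GL (Fin t → Fin (n + 3)) F := pureGL fun _ => D with hQ
  set P' : GL ι F := P * glReindex e.symm Q⁻¹ with hP'
  have hform' : ∀ x y, f ((P' : Matrix ι ι F) *ᵥ (x ∘ e)) ((P' : Matrix ι ι F) *ᵥ (y ∘ e)) =
      c * hform σ (sT n t) x y := fun x y => by
    rw [hP', Units.val_mul, ← mulVec_mulVec, ← mulVec_mulVec, glReindex_mulVec, glReindex_mulVec, hT, hD,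
      mulVec_mulVec, mulVec_mulVec, gl_mul_inv, one_mulVec, one_mulVec]
  set Φ : GL (Fin t → Fin (n + 3)) F ≃* GL ι F := (glReindex e.symm).trans (MulAut.conj P') with hΦ
  have hΦv : ∀ g x, (Φ g : Matrix ι ι F) *ᵥ ((P' : Matrix ι ι F) *ᵥ (x ∘ e)) =
      (P' : Matrix ι ι F) *ᵥ (((g : Matrix (Fin t → Fin (n + 3)) (Fin t → Fin (n + 3)) F) *ᵥ x) ∘ e) := fun g x => by
    show ((P' * glReindex e.symm g * P'⁻¹ : GL ι F) : Matrix ι ι F) *ᵥ _ = _
    rw [Units.val_mul, Units.val_mul, ← mulVec_mulVec, ← mulVec_mulVec, mulVec_mulVec _ _ (P' : Matrix ι ι F),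
      gl_inv_mul, one_mulVec, glReindex_mulVec]
  have hsurj : ∀ u : ι → F, ∃ x : (Fin t → Fin (n + 3)) → F, u = (P' : Matrix ι ι F) *ᵥ (x ∘ e) := fun u =>
    ⟨(((P'⁻¹ : GL ι F) : Matrix ι ι F) *ᵥ u) ∘ e.symm, by
      rw [Function.comp_assoc, Equiv.symm_comp_self, Function.comp_id, mulVec_mulVec, gl_mul_inv, one_mulVec]⟩
  have hiso : ∀ g, Φ g ∈ Unit.isoU f ↔ g ∈ uT σ hs.invol n t := by
    intro g
    rw [uT, ← isoU_hform hs sT_inv, Unit.mem_isoU, Unit.mem_isoU]
    constructor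
    · intro hg x y
      have := hg ((P' : Matrix ι ι F) *ᵥ (x ∘ e)) ((P' : Matrix ι ι F) *ᵥ (y ∘ e))
      rw [hΦv, hΦv, hform', hform'] at this
      exact mul_left_cancel₀ hc0 this
    · intro hg u v
      obtain ⟨x, rfl⟩ := hsurj u
      obtain ⟨y, rfl⟩ := hsurj v
      rw [hΦv, hΦv, hform', hform', hg]
  have hdet : ∀ g, Φ g ∈ specialLinear ι F ↔ g ∈ specialLinear (Fin t → Fin (n + 3)) F := by
    intro g
    show Matrix.GeneralLinearGroup.det (Φ g) = 1 ↔ Matrix.GeneralLinearGroup.det g = 1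
    have h1 : Matrix.GeneralLinearGroup.det (Φ g) = Matrix.GeneralLinearGroup.det g := by
      show Matrix.GeneralLinearGroup.det (P' * glReindex e.symm g * P'⁻¹) = _
      rw [map_mul, map_mul, mul_right_comm, map_inv, mul_inv_cancel, one_mul]
      exact Units.ext (Matrix.det_reindex_self e.symm (g : Matrix (Fin t → Fin (n + 3)) (Fin t → Fin (n + 3)) F))
    rw [h1]
  have hK : (uT σ hs.invol n t ⊓ specialLinear (Fin t → Fin (n + 3)) F).map Φ.toMonoidHom =
      Unit.isoU f ⊓ specialLinear ι F := by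
    ext g
    rw [Subgroup.mem_map_equiv, Subgroup.mem_inf, Subgroup.mem_inf, ← hdet, ← hiso, MulEquiv.apply_symm_apply]
  refine maximal_map Φ hK ?_ (twU_maximal (hσ := hs.invol) hs hq ht)
  rw [Subgroup.map_inf _ _ _ Φ.injective, hK]
  congr 1
  have hfix : (tensorWreathStandard (n + 3) t F).map (MulAut.conj Q⁻¹).toMonoidHom = tensorWreathStandard (n + 3) t F := by
    have hQW : Q ∈ tensorWreathStandard (n + 3) t F := pure_mem_tw _
    ext g
    rw [Subgroup.mem_map_equiv, MulAut.conj_symm_apply, inv_inv]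
    constructor
    · intro hg
      have := mul_mem (mul_mem (inv_mem hQW) hg) hQW
      rwa [show Q⁻¹ * (Q * g * Q⁻¹) * Q = g by group] at this
    · exact fun hg => mul_mem (mul_mem hQW hg) (inv_mem hQW)
  rw [tensorWreathSubgroup]
  conv_rhs => rw [← hfix]
  rw [Subgroup.map_map, Subgroup.map_map]
  congr 1
  refine MonoidHom.ext fun g => ?_
  show P' * glReindex e.symm g * P'⁻¹ = P * glReindex e.symm (Q⁻¹ * g * Q⁻¹⁻¹) * P⁻¹
  rw [inv_inv, hP', map_mul, map_mul, map_inv]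
  group

end CfsgLib.Perm.Trans.TensorPowerU
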