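import Cfsg.Agent.Lib.Perm.Trans.TensorPowerU.Class
import Cfsg.Agent.Lib.Perm.Trans.TensorPower.Casimir

/-!
# Odd characteristic: the overgroup lies in the wreath subgroup
-/

set_option autoImplicit false
set_option linter.all false

namespace CfsgLib.Perm.Trans.TensorPowerU

open scoped Matrix
open Matrix Cfsg.Geo CfsgLib.Perm.Asch CfsgLib.Perm.Trans CfsgLib.Perm.Trans.TensorPower

variable {F : Type*} [Field F] {σ : F ≃+* F} {n s t : ℕ} {hσ : ∀ a, σ (σ a) = a}

theorem slot_mul_apply (i : Fin t) (L : Matrix (Fin (n + 3)) (Fin (n + 3)) F)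
    (Y : Matrix (Fin t → Fin (n + 3)) (Fin t → Fin (n + 3)) F) (x y : Fin t → Fin (n + 3)) :
    (slot i L * Y) x y = ∑ e, L (x i) e * Y (Function.update x i e) y := by
  classical
  rw [Matrix.mul_apply, ← Finset.sum_subset (Finset.subset_univ (Finset.univ.image (Function.update x i)))]
  · rw [Finset.sum_image (fun a _ b _ e => by simpa using congrFun e i)]
    refine Finset.sum_congr rfl fun e _ => ?_
    rw [slot_apply, if_pos (fun j hj => by rw [Function.update_of_ne hj]), Function.update_self]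
  · intro z _ hz
    rw [slot_apply, if_neg, zero_mul]
    refine fun hh => hz (Finset.mem_image.2 ⟨z i, Finset.mem_univ _, funext fun l => ?_⟩)
    rcases eq_or_ne l i with rfl | hl
    · rw [Function.update_self]
    · rw [Function.update_of_ne hl]; exact hh l hl

theorem Cen.symm {ι : Type} [Fintype ι] [DecidableEq ι] {N Y a : Matrix ι ι F} (h : Cen N Y a) : Cen Y N a :=
  ⟨h.2, h.1⟩

/-- the minus part of an element `1 + (NY + YN)θ` meets the kernel of `N` in its image -/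
theorem free_of_casimir {ι : Type} [Fintype ι] [DecidableEq ι] (h2 : (2 : F) ≠ 0) {N Y θ z X : Matrix ι ι F}
    (hθ : Cen N Y θ) (hz : z = 1 + (N * Y + Y * N) * θ) (hX1 : (z + 1) * X = 0) (hX2 : N * X = 0) :
    ∃ X', X = N * X' := by
  refine ⟨(-(2 : F)⁻¹) • (Y * θ * X), ?_⟩
  have h3 : (2 : F) • X + (N * (Y * θ * X)) = 0 := by
    have e1 : (N * Y + Y * N) * θ * X = N * (Y * θ * X) := by
      rw [add_mul, add_mul, mul_assoc Y N θ, ← hθ.1, mul_assoc, mul_assoc Y _ X, mul_assoc θ, hX2, mul_zero,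
        mul_zero, add_zero]
      simp only [mul_assoc]
    rw [← e1, two_smul, ← hX1, hz]
    simp only [add_mul, one_mul]
    abel
  rw [Matrix.mul_smul, neg_smul, eq_neg_iff_add_eq_zero]
  have h4 := congrArg ((2 : F)⁻¹ • ·) h3
  simpa [smul_smul, inv_mul_cancel₀ h2] using h4

/-- the minus space of a single involution commuting freely with a root -/
theorem minus_plane [Fintype F] (h2 : (2 : F) ≠ 0) {i : Fin t} {u φ : Fin (n + 3) → F} (hu : u ≠ 0) (hφ : φ ≠ 0) (hφu : φ ⬝ᵥ u = 0)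
    {z : GL (Fin t → Fin (n + 3)) F} (hztw : z ∈ tensorWreathStandard (n + 3) t F)
    (hzN : (z : Matrix (Fin t → Fin (n + 3)) _ F) * slot i (vecMulVec u φ) =
      slot i (vecMulVec u φ) * (z : Matrix (Fin t → Fin (n + 3)) _ F))
    (hzz : z * z = 1) (hz1 : z ≠ 1)
    (hfree : ∀ X, ((z : Matrix (Fin t → Fin (n + 3)) _ F) + 1) * X = 0 → slot i (vecMulVec u φ) * X = 0 →
      ∃ X', X = slot i (vecMulVec u φ) * X') :
    ∃ A : GL (Fin (n + 3)) F, z = sl i A ∧ ((A : Matrix (Fin (n + 3)) (Fin (n + 3)) F) + 1) *ᵥ u = 0 ∧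
      ∀ x, ((A : Matrix (Fin (n + 3)) (Fin (n + 3)) F) + 1) *ᵥ x = 0 → φ ⬝ᵥ x = 0 →
        x ∈ Submodule.span F ({u} : Set (Fin (n + 3) → F)) := by
  classical
  haveI : Nonempty (Fin (n + 3)) := ⟨0⟩
  obtain ⟨A, hA, hA1, hA2, rfl⟩ := single_of_free (r := (1 : GL (Fin t → Fin (n + 3)) F)) (by omega) h2 hu hφ hφu hztw
    hzN hzz hz1 hfree
  have hker : ∀ x, ((A : Matrix (Fin (n + 3)) (Fin (n + 3)) F) + 1) *ᵥ x = 0 → φ ⬝ᵥ x = 0 →
      x ∈ Submodule.span F ({u} : Set (Fin (n + 3) → F)) := by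
    intro x hx hφx
    by_contra hxu
    obtain ⟨ξ, hξx, hξ0⟩ := exists_dual _ hxu
    have hξu : ξ ⬝ᵥ u = 0 := hξ0 u (Submodule.mem_span_singleton_self u)
    have hz0 : ∀ w : Fin (n + 3) → F, vecMulVec w (0 : Fin (n + 3) → F) = 0 := fun w => by ext; simp [vecMulVec_apply]
    obtain ⟨X', hX'⟩ := hfree (slot i (vecMulVec x φ)) (by
        rw [sl_coe, ← slot_one i, ← slot_add, slot_mul, mul_vecMulVec, hx,
          show vecMulVec (0 : Fin (n + 3) → F) φ = 0 by ext; simp [vecMulVec_apply], slot_zero])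
      (by rw [slot_mul, vecMulVec_mul_vecMulVec, hφx, zero_smul, hz0, slot_zero])
    have h4 := congrArg (slot i (vecMulVec u ξ) * ·) hX'
    simp only [← mul_assoc, slot_mul, vecMulVec_mul_vecMulVec, hξx, hξu, one_smul, zero_smul, hz0, slot_zero,
      zero_mul] at h4
    exact vmv_ne_zero hu hφ (slot_injective i (h4.trans (slot_zero i).symm))
  refine ⟨A, rfl, ?_, hker⟩
  have hAD : (A : Matrix (Fin (n + 3)) (Fin (n + 3)) F) * vecMulVec u φ =
      vecMulVec u φ * (A : Matrix (Fin (n + 3)) (Fin (n + 3)) F) := by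
    rw [sl_coe, slot_mul, slot_mul] at hzN
    exact slot_injective i hzN
  obtain ⟨γ, hγ⟩ := TensorMax.exists_dot_one hφ
  have hφγ : φ ⬝ᵥ γ = 1 := by rw [dotProduct_comm]; exact hγ
  set a := φ ⬝ᵥ ((A : Matrix (Fin (n + 3)) (Fin (n + 3)) F) *ᵥ γ) with ha
  have hAu : (A : Matrix (Fin (n + 3)) (Fin (n + 3)) F) *ᵥ u = a • u := by
    have h1 := congrArg (· *ᵥ γ) hAD
    simp only [← mulVec_mulVec, vecMulVec_mulVec, op_smul_eq_smul, hφγ, one_smul] at h1
    exact h1
  have haa : a * a = 1 := by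
    have h1 := congrArg (· *ᵥ u) hA
    simp only [← mulVec_mulVec, hAu, mulVec_smul, smul_smul, one_mulVec] at h1
    exact smul_left_injective F hu (h1.trans (one_smul F u).symm)
  rw [add_mulVec, one_mulVec, hAu]
  rcases mul_self_eq_one_iff.1 haa with e | e
  swap
  · rw [e, neg_one_smul, neg_add_cancel]
  exfalso
  have hφA : φ ᵥ* (A : Matrix (Fin (n + 3)) (Fin (n + 3)) F) = φ := by
    obtain ⟨δ, hδ⟩ := TensorMax.exists_dot_one hu
    have h1 := congrArg (δ ᵥ* ·) hAD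
    simp only [← vecMul_vecMul, vecMul_vecMulVec, smul_vecMul, hδ, one_smul] at h1
    rw [← h1, show δ ᵥ* (A : Matrix (Fin (n + 3)) (Fin (n + 3)) F) ⬝ᵥ u = 1 by
      rw [← dotProduct_mulVec, hAu, e, one_smul, hδ], one_smul]
  refine hA1 (Matrix.ext_iff_mulVec.2 fun y => ?_)
  rw [one_mulVec, eq_comm, ← sub_eq_zero]
  set x := y - (A : Matrix (Fin (n + 3)) (Fin (n + 3)) F) *ᵥ y with hx
  have hAx : (A : Matrix (Fin (n + 3)) (Fin (n + 3)) F) *ᵥ x = -x := by
    rw [hx, mulVec_sub, mulVec_mulVec, hA, one_mulVec, neg_sub]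
  obtain ⟨k, hk⟩ := Submodule.mem_span_singleton.1 (hker x (by rw [add_mulVec, one_mulVec, hAx, neg_add_cancel])
    (by rw [hx, dotProduct_sub, dotProduct_mulVec, hφA, sub_self]))
  rw [← hk, mulVec_smul, hAu, e, one_smul] at hAx
  have h3 : (2 : F) • (k • u) = 0 := by rw [two_smul]; nth_rewrite 2 [hAx]; exact add_neg_cancel (k • u)
  rw [← hk]
  exact (smul_eq_zero.1 h3).resolve_left h2

variable [Fintype F] {M : Subgroup (GL (Fin (s + 1) → Fin (n + 3)) F)}

local notation "BMat" => Matrix (Fin (s + 1) → Fin (n + 3)) (Fin (s + 1) → Fin (n + 3)) F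

/-- a `p`-subgroup containing a root lies in the wreath subgroup -/
theorem UCtx.p_group_le (h : UCtx σ hσ M) (hin : InnerU σ hσ n s)
    {p : ℕ} [Fact p.Prime] {Q : Subgroup (GL (Fin (s + 1) → Fin (n + 3)) F)} (hQ : IsPGroup p Q) (hQM : Q ≤ M)
    {r : GL (Fin (s + 1) → Fin (n + 3)) F} (hr : IsURoot σ r) (hrQ : r ∈ Q) :
    Q ≤ tensorWreathStandard (n + 3) (s + 1) F := by
  haveI := hQ.isNilpotent
  set H : Subgroup Q := (tensorWreathStandard (n + 3) (s + 1) F).subgroupOf Q with hH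
  by_cases htop : H = ⊤
  · exact Subgroup.subgroupOf_eq_top.1 htop
  exfalso
  have hlt := Group.normalizerCondition_of_isNilpotent H (lt_top_iff_ne_top.2 htop)
  obtain ⟨k, hk, hkH⟩ := SetLike.exists_of_lt hlt
  have h1 : k * ⟨r, hrQ⟩ * k⁻¹ ∈ H :=
    (Subgroup.mem_normalizer_iff.1 hk ⟨r, hrQ⟩).1 (show r ∈ tensorWreathStandard (n + 3) (s + 1) F from hr.mem_tw)
  exact hkH (h.fusion hin hr (hQM k.2) (h.cls hin hr (hQM k.2) h1))

/-- a conjugate of a root is in the wreath subgroup, or is killed by a half of one factor -/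
theorem UCtx.odd_cases (h : UCtx σ hσ M) (hin : InnerU σ hσ n s) (h2 : (2 : F) ≠ 0)
    {r r0 g : GL (Fin (s + 1) → Fin (n + 3)) F} (hr : IsURoot σ r) (hr0 : IsURoot σ r0) (hg : g ∈ M)
    {i i0 : Fin (s + 1)} {u φ u0 φ0 : Fin (n + 3) → F} (hu : u ≠ 0) (hφ : φ ≠ 0) (hφu : φ ⬝ᵥ u = 0)
    (he : (r : BMat) = 1 + slot i (vecMulVec u φ))
    (hu0 : u0 ≠ 0) (hφ0 : φ0 ≠ 0) (hφu0 : φ0 ⬝ᵥ u0 = 0)
    (he0 : (r0 : BMat) = 1 + slot i0 (vecMulVec u0 φ0)) :
    g * r0 * g⁻¹ ∈ tensorWreathStandard (n + 3) (s + 1) F ∨ ∃ A : GL (Fin (n + 3)) F,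
      slot i ((A : Matrix (Fin (n + 3)) (Fin (n + 3)) F) + 1) * cj g (slot i0 (vecMulVec u0 φ0)) = 0 ∧
      ((A : Matrix (Fin (n + 3)) (Fin (n + 3)) F) + 1) *ᵥ u = 0 ∧
      ∀ x, ((A : Matrix (Fin (n + 3)) (Fin (n + 3)) F) + 1) *ᵥ x = 0 → φ ⬝ᵥ x = 0 →
        x ∈ Submodule.span F ({u} : Set (Fin (n + 3) → F)) := by
  classical
  set y := g * r0 * g⁻¹ with hydef
  have hyM : y ∈ M := M.mul_mem (M.mul_mem hg (hr0.mem h.base)) (M.inv_mem hg)
  set N := (slot i (vecMulVec u φ) : BMat) with hNdef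
  set N0 := (slot i0 (vecMulVec u0 φ0) : BMat) with hN0def
  set Y := cj g N0 with hYdef
  have hsq : ∀ (j : Fin (s + 1)) (v ψ : Fin (n + 3) → F), ψ ⬝ᵥ v = 0 →
      (slot j (vecMulVec v ψ) : BMat) * slot j (vecMulVec v ψ) = 0 := fun j v ψ e => by
    rw [slot_mul, vecMulVec_mul_vecMulVec, e, zero_smul, show vecMulVec v (0 : Fin (n + 3) → F) = 0 by
      ext; simp [vecMulVec_apply], slot_zero]
  have hN : N * N = 0 := hsq i u φ hφu
  have hY : Y * Y = 0 := by rw [hYdef, ← cj_mul, hN0def, hsq i0 u0 φ0 hφu0, cj_zero]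
  have hym : (y : BMat) = 1 + Y := by rw [hydef, ← cj_coe, he0, cj_add, cj_one]
  set K := Subgroup.closure ({r, y} : Set (GL (Fin (s + 1) → Fin (n + 3)) F)) with hK
  have hKM : K ≤ M := by
    rw [hK, Subgroup.closure_le]
    rintro x (rfl | rfl)
    · exact hr.mem h.base
    · exact hyM
  by_cases hn : IsNilpotent (N * Y + Y * N)
  · left
    haveI : Fact (ringChar F).Prime := ⟨CharP.char_is_prime F _⟩
    haveI : Nonempty (Fin (s + 1) → Fin (n + 3)) := ⟨fun _ => 0⟩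
    haveI : CharP (BMat) (ringChar F) := inferInstance
    have hKp : IsPGroup (ringChar F) K := by
      rintro ⟨z, hz⟩
      obtain ⟨k, hk⟩ := casimir_unipotent he hym hN hY hn hz
      refine ⟨k, Subtype.ext (Units.ext ?_)⟩
      show ((z ^ ringChar F ^ k : GL (Fin (s + 1) → Fin (n + 3)) F) : BMat) = 1
      have hle : k ≤ ringChar F ^ k := (Nat.lt_pow_self (Fact.out : (ringChar F).Prime).one_lt).le
      rw [Units.val_pow_eq_pow_val, ← sub_eq_zero]
      have := sub_pow_char_pow_of_commute (R := BMat)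
        (p := ringChar F) (n := k) (Commute.one_right (z : BMat))
      rw [one_pow] at this
      rw [← this]
      exact pow_eq_zero_of_le hle hk
    exact h.p_group_le hin hKp hKM hr (Subgroup.subset_closure (Or.inl rfl)) (Subgroup.subset_closure (Or.inr rfl))
  right
  obtain ⟨⟨z, hz⟩, hord⟩ := exists_prime_orderOf_dvd_card' 2 (casimir_even he hym hN hY h2 hn)
  have hzz : z * z = 1 := by
    have := pow_orderOf_eq_one (⟨z, hz⟩ : K)
    rw [hord, pow_two] at this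
    exact congrArg Subtype.val this
  have hz1 : z ≠ 1 := fun e => by
    have h1 : (⟨z, hz⟩ : K) = 1 := Subtype.ext e
    rw [h1, orderOf_one] at hord
    omega
  obtain ⟨θ, hθ, hzθ⟩ := casimir_involution he hym hN hY h2 hz hzz
  have hzcen : Cen N Y (z : BMat) := by
    rw [hzθ]; exact Cen.one.add ((cen_casimir hN hY).mul hθ)
  have hzr : z * r = r * z := Units.ext (by
    rw [Units.val_mul, Units.val_mul, he, mul_add, add_mul, mul_one, one_mul, hzcen.1])
  obtain ⟨A, hzA, hAu, hker⟩ := minus_plane h2 hu hφ hφu (h.root_centraliser hin hr (hKM hz) hzr) hzcen.1 hzz hz1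
    fun X hX1 hX2 => free_of_casimir h2 hθ hzθ hX1 hX2
  refine ⟨A, ?_, hAu, hker⟩
  -- the same seen from the other root
  set z0 := g⁻¹ * z * g with hz0
  have hgz : ∀ X, (g : BMat) * (((z0 : GL (Fin (s + 1) → Fin (n + 3)) F) : BMat) + 1) * X =
      ((z : BMat) + 1) * ((g : BMat) * X) := fun X => by
    rw [hz0, Units.val_mul, Units.val_mul, mul_add, add_mul, add_mul, mul_one, one_mul, ← mul_assoc, ← mul_assoc,
      gl_mul_inv, one_mul, mul_assoc]
  have hgY : ∀ X, Y * ((g : BMat) * X) =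
      (g : BMat) * (N0 * X) := fun X => by
    rw [hYdef, cj, mul_assoc _ _ ((g : BMat) * X), ← mul_assoc _ (g : BMat) X,
      gl_inv_mul, one_mul, mul_assoc]
  have hz0c : (z0 : BMat) * N0 = N0 * (z0 : BMat) := by
    have e1 : cj z Y = Y := cj_eq_self hzcen.2
    have e2 : cj z0 N0 = N0 := by
      rw [hz0, ← cj_cj, ← cj_cj, ← hYdef, e1, hYdef, cj_cj, inv_mul_cancel, cj, inv_one, Units.val_one, one_mul, mul_one]
    conv_rhs => rw [← e2]
    rw [cj, mul_assoc _ _ (z0 : BMat), gl_inv_mul, mul_one]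
  have hz0M : z0 ∈ M := M.mul_mem (M.mul_mem (M.inv_mem hg) (hKM hz)) hg
  have hz0r : z0 * r0 = r0 * z0 := Units.ext (by
    rw [Units.val_mul z0, Units.val_mul r0, he0, mul_add, add_mul, mul_one, one_mul, hz0c])
  obtain ⟨A0, hzA0, hA0u, -⟩ := minus_plane (z := z0) h2 hu0 hφ0 hφu0 (h.root_centraliser hin hr0 hz0M hz0r) hz0c
    (by rw [hz0, show g⁻¹ * z * g * (g⁻¹ * z * g) = g⁻¹ * (z * z) * g by group, hzz]; group)
    (fun e => hz1 (by
      have e1 : z = g * z0 * g⁻¹ := by rw [hz0]; group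
      rw [e1, e]; group))
    fun X hX1 hX2 => by
      obtain ⟨X', hX'⟩ := free_of_casimir (X := (g : BMat) * X) (z := (z : BMat)) h2 (Cen.symm hθ)
        (by rw [hzθ, add_comm (N * Y)]) (by rw [← hgz, mul_assoc, hX1, mul_zero]) (by rw [hgY, hX2, mul_zero])
      refine ⟨((g⁻¹ : GL (Fin (s + 1) → Fin (n + 3)) F) : BMat) * X', ?_⟩
      calc X = ((g⁻¹ : GL (Fin (s + 1) → Fin (n + 3)) F) : BMat) *
            ((g : BMat) * X) := by rw [← mul_assoc, gl_inv_mul, one_mul]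
        _ = _ := by rw [hX', hYdef, cj]; simp only [← mul_assoc, gl_inv_mul, one_mul]; rfl
  have hkill : (((z0 : GL (Fin (s + 1) → Fin (n + 3)) F) : BMat) + 1) * N0 = 0 := by
    rw [hzA0, hN0def, sl_coe, ← slot_one i0, ← slot_add, slot_mul, mul_vecMulVec, hA0u,
      show vecMulVec (0 : Fin (n + 3) → F) φ0 = 0 by ext; simp [vecMulVec_apply], slot_zero]
  have hzi : slot i ((A : Matrix (Fin (n + 3)) (Fin (n + 3)) F) + 1) = (z : BMat) + 1 := by
    rw [slot_add, slot_one, ← sl_coe, ← hzA]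
  rw [hzi, hYdef, cj, mul_assoc (g : BMat), ← hgz, mul_assoc (g : BMat),
    ← mul_assoc (_ + _) N0, hkill, zero_mul, mul_zero]

/-- odd characteristic: the overgroup lies in the wreath subgroup -/
theorem UCtx.main_odd (h : UCtx σ hσ M) (hin : InnerU σ hσ n s) (h2 : (2 : F) ≠ 0) :
    M ≤ tensorWreathStandard (n + 3) (s + 1) F := by
  classical
  intro g hg
  haveI : Nonempty (Fin (n + 3)) := ⟨0⟩
  obtain ⟨c, hc0, hc⟩ := h.sc.exists_skew
  set e0 : Fin (n + 3) → F := Pi.single 0 1 with he0def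
  let i : Fin (s + 1) := 0
  set r := sl i (rt (n := n) σ c) with hrdef
  have hr : IsURoot σ r := ⟨i, e0, e0_iso, c, by simp [he0def], hc0, hc, rfl⟩
  suffices hy : g * r * g⁻¹ ∈ tensorWreathStandard (n + 3) (s + 1) F from h.fusion hin hr hg (h.cls hin hr hg hy)
  have hrm : ∀ (w : Fin (n + 3) → F) (hw : dual σ (s1 n) w ⬝ᵥ w = 0),
      ((sl i (utv σ w hw c) : GL (Fin (s + 1) → Fin (n + 3)) F) : BMat) =
        1 + slot i (vecMulVec (c • w) (dual σ (s1 n) w)) := fun w hw => by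
    rw [sl_coe, utv_coe, slot_add, slot_one, smul_vecMulVec]
  have hd0 : ∀ w : Fin (n + 3) → F, w ≠ 0 → dual σ (s1 n) w ≠ 0 := fun w hw e => hw (funext fun y => by
    have := congrFun e (s1 n y)
    simpa [dual, s1_inv y] using this)
  have hd : ∀ w : Fin (n + 3) → F, dual σ (s1 n) w ⬝ᵥ w = 0 → dual σ (s1 n) w ⬝ᵥ (c • w) = 0 := fun w hw => by
    rw [dotProduct_smul, hw, smul_zero]
  have he0 : e0 ≠ 0 := by simp [he0def]
  set y := g * r * g⁻¹ with hydef
  set Y := cj g (slot i (vecMulVec (c • e0) (dual σ (s1 n) e0)) : BMat) with hYdef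
  rcases h.odd_cases hin h2 hr hr hg (smul_ne_zero hc0 he0) (hd0 _ he0) (hd _ e0_iso) (hrm e0 e0_iso)
    (smul_ne_zero hc0 he0) (hd0 _ he0) (hd _ e0_iso) (hrm e0 e0_iso) with hy | ⟨A, hAY, hAu, hker⟩
  · exact hy
  -- a second root outside the plane
  obtain ⟨w, hw0, hww, hAw⟩ : ∃ w : Fin (n + 3) → F, w ≠ 0 ∧ dual σ (s1 n) w ⬝ᵥ w = 0 ∧
      ((A : Matrix (Fin (n + 3)) (Fin (n + 3)) F) + 1) *ᵥ w ≠ 0 := by
    have h10 : (1 : Fin (n + 3)) ≠ 0 := by simp
    have he1iso : dual σ (s1 n) (Pi.single 1 (1 : F)) ⬝ᵥ Pi.single 1 1 = 0 := by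
      rw [dual_single s1_inv, s1_one]; simp
    by_contra hcon
    push Not at hcon
    obtain ⟨μ, hμ⟩ := h.sc.exists_trace 1
    set v := (eta σ (2 : Fin (n + 3)) two_ne.1 two_ne.2 1 μ : Matrix (Fin (n + 3)) (Fin (n + 3)) F) *ᵥ Pi.single 1 1 with hv
    have hv1 := hcon v (fun e => by
      have := congrFun (show (Pi.single 1 1 : Fin (n + 3) → F) = 0 from gl_mulVec_eq_zero.1 e) 1
      simp at this) (iso_mulVec (hσ := hσ) (eta_mem hσ _ _ hμ) he1iso)
    rw [hv, eta_e1, mulVec_add, mulVec_add, hcon (Pi.single 1 1) (by simp) he1iso, zero_add, ← mulVec_add] at hv1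
    obtain ⟨k, hk⟩ := Submodule.mem_span_singleton.1 (hker _ hv1 (by
      rw [he0def, dual_single s1_inv, s1_zero]; simp [two_ne.2.symm]))
    have := congrFun hk 2
    simp [he0def, two_ne.1, two_ne.1.symm] at this
  have hr' : IsURoot σ (sl i (utv σ w hww c) : GL (Fin (s + 1) → Fin (n + 3)) F) := ⟨i, w, hww, c, hw0, hc0, hc, rfl⟩
  rcases h.odd_cases hin h2 hr' hr hg (smul_ne_zero hc0 hw0) (hd0 _ hw0) (hd _ hww) (hrm w hww)
    (smul_ne_zero hc0 he0) (hd0 _ he0) (hd _ e0_iso) (hrm e0 e0_iso) with hy | ⟨A', hAY', hAu', hker'⟩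
  · exact hy
  set P := (A : Matrix (Fin (n + 3)) (Fin (n + 3)) F) + 1
  set P' := (A' : Matrix (Fin (n + 3)) (Fin (n + 3)) F) + 1
  set u := c • e0
  set u' := c • w
  have hPu' : P *ᵥ u' ≠ 0 := by
    show P *ᵥ (c • w) ≠ 0
    rw [mulVec_smul]; exact smul_ne_zero hc0 hAw
  -- the common part of the two planes is at most a line
  obtain ⟨v, hv⟩ : ∃ v : Fin (n + 3) → F, ∀ x, P *ᵥ x = 0 → P' *ᵥ x = 0 →
      x ∈ Submodule.span F ({v} : Set (Fin (n + 3) → F)) := by
    by_cases hu : P' *ᵥ u = 0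
    · refine ⟨u, fun x hx hx' => ?_⟩
      have hφu : dual σ (s1 n) w ⬝ᵥ u ≠ 0 := fun e => by
        obtain ⟨k, hk⟩ := Submodule.mem_span_singleton.1 (hker' u hu e)
        have : k ≠ 0 := fun e' => smul_ne_zero hc0 he0 (show u = 0 by rw [← hk, e', zero_smul])
        rw [← hk, mulVec_smul] at hAu
        exact hPu' ((smul_eq_zero.1 hAu).resolve_left this)
      set a := (dual σ (s1 n) w ⬝ᵥ x) / (dual σ (s1 n) w ⬝ᵥ u) with ha
      obtain ⟨k, hk⟩ := Submodule.mem_span_singleton.1 (hker' (x - a • u)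
        (by rw [mulVec_sub, mulVec_smul, hx', hu, smul_zero, sub_zero])
        (by rw [dotProduct_sub, dotProduct_smul, smul_eq_mul, ha, div_mul_cancel₀ _ hφu, sub_self]))
      have hk0 : k = 0 := by
        have e1 : P *ᵥ (x - a • u) = 0 := by rw [mulVec_sub, mulVec_smul, hx, hAu, smul_zero, sub_zero]
        rw [← hk, mulVec_smul] at e1
        exact (smul_eq_zero.1 e1).resolve_right hPu'
      rw [hk0, zero_smul, eq_comm, sub_eq_zero] at hk
      exact hk ▸ Submodule.smul_mem _ a (Submodule.mem_span_singleton_self u)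
    · by_cases hex : ∃ x0, x0 ≠ 0 ∧ P *ᵥ x0 = 0 ∧ P' *ᵥ x0 = 0
      swap
      · exact ⟨0, fun x hx hx' => by
          rw [show x = 0 by by_contra e; exact hex ⟨x, e, hx, hx'⟩]; exact Submodule.zero_mem _⟩
      obtain ⟨x0, hx00, hx0, hx0'⟩ := hex
      have hzero : ∀ x, P *ᵥ x = 0 → P' *ᵥ x = 0 → dual σ (s1 n) e0 ⬝ᵥ x = 0 → x = 0 := fun x hx hx' hφx => by
        obtain ⟨k, hk⟩ := Submodule.mem_span_singleton.1 (hker x hx hφx)
        rw [← hk, mulVec_smul] at hx'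
        rw [← hk, (smul_eq_zero.1 hx').resolve_right hu, zero_smul]
      have hφ0 : dual σ (s1 n) e0 ⬝ᵥ x0 ≠ 0 := fun e => hx00 (hzero x0 hx0 hx0' e)
      refine ⟨x0, fun x hx hx' => ?_⟩
      set a := (dual σ (s1 n) e0 ⬝ᵥ x) / (dual σ (s1 n) e0 ⬝ᵥ x0) with ha
      have := hzero (x - a • x0) (by rw [mulVec_sub, mulVec_smul, hx, hx0, smul_zero, sub_zero])
        (by rw [mulVec_sub, mulVec_smul, hx', hx0', smul_zero, sub_zero])
        (by rw [dotProduct_sub, dotProduct_smul, smul_eq_mul, ha, div_mul_cancel₀ _ hφ0, sub_self])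
      rw [sub_eq_zero] at this
      exact this ▸ Submodule.smul_mem _ a (Submodule.mem_span_singleton_self x0)
  -- an isotropic vector orthogonal to it
  have hf := hform_unitary h.sc (s1_inv (n := n))
  obtain ⟨e, hep, he, hee⟩ := exists_isotropic hf (W := perpOf hf v) (by
    have := finrank_perp hf v
    rw [Fintype.card_fin] at this
    omega)
  have hev : dual σ (s1 n) e ⬝ᵥ v = 0 := by
    have h1 : hform σ (s1 n) e v = 0 := (mem_perpOf hf).1 hep
    rw [hform, dotProduct_comm] at h1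
    rw [← dual_dot_dual hσ s1_inv, h1, map_zero]
  have heiso : dual σ (s1 n) e ⬝ᵥ e = 0 := by rw [dotProduct_comm]; exact hee
  set V := vecMulVec e (dual σ (s1 n) e) with hV
  have hleft : slot i V * Y = 0 := Matrix.ext fun x y => by
    rw [slot_mul_apply, Matrix.zero_apply]
    set f := fun p => Y (Function.update x i p) y with hf'
    have hcol : ∀ L : Matrix (Fin (n + 3)) (Fin (n + 3)) F, slot i L * Y = 0 → L *ᵥ f = 0 := fun L hL => funext fun p => by
      have := congrFun (congrFun hL (Function.update x i p)) y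
      rw [slot_mul_apply, Matrix.zero_apply] at this
      simpa [hf', mulVec, dotProduct, Function.update_idem] using this
    obtain ⟨k, hk⟩ := Submodule.mem_span_singleton.1 (hv f (hcol P hAY) (hcol P' hAY'))
    show (V *ᵥ f) (x i) = 0
    rw [← hk, mulVec_smul, hV, vecMulVec_mulVec, hev]
    simp
  have hyM : y ∈ M := M.mul_mem (M.mul_mem hg (hr.mem h.base)) (M.inv_mem hg)
  have hN : (slot i (vecMulVec u (dual σ (s1 n) e0)) : BMat) *
      slot i (vecMulVec u (dual σ (s1 n) e0)) = 0 := by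
    rw [slot_mul, vecMulVec_mul_vecMulVec, hd _ e0_iso, zero_smul, show vecMulVec u (0 : Fin (n + 3) → F) = 0 by
      ext; simp [vecMulVec_apply], slot_zero]
  have hym : (y : BMat) = 1 + Y := by
    rw [hydef, ← cj_coe, hrdef, rt, hrm e0 e0_iso, cj_add, cj_one]
  have hadj : adj σ (sT n (s + 1)) Y = -Y :=
    adj_of_one_add (h.le hyM) hym (by rw [hYdef, ← cj_mul, hN, cj_zero])
  have hright : Y * slot i V = 0 := by
    have e1 := congrArg (adj σ (sT n (s + 1))) hleft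
    rw [adj_mul sT_inv, adj_slot, hV, adj_vecMulVec hσ s1_inv, ← hV, hadj, adj_zero, neg_mul, neg_eq_zero] at e1
    exact e1
  refine h.root_centraliser hin (r := sl i (utv σ e heiso c)) ⟨i, e, heiso, c, he, hc0, hc, rfl⟩ hyM (Units.ext ?_)
  rw [Units.val_mul y, Units.val_mul _ y, hym, hrm e heiso, smul_vecMulVec, ← hV, slot_smul]
  simp only [add_mul, mul_add, one_mul, mul_one, Matrix.mul_smul, Matrix.smul_mul, hright, hleft, smul_zero, add_zero]
  abel

end CfsgLib.Perm.Trans.TensorPowerU
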