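import Cfsg.Agent.Lib.Perm.Trans.TensorPowerU.Split

/-!
# Unitary roots: centraliser and fusion
-/

set_option autoImplicit false
set_option linter.all false

namespace CfsgLib.Perm.Trans.TensorPowerU

open scoped Matrix
open Matrix Cfsg.Geo CfsgLib.Perm.Asch CfsgLib.Perm.Trans CfsgLib.Perm.Trans.TensorPower

variable {F : Type*} [Field F] {σ : F ≃+* F} {n s t : ℕ} {hσ : ∀ a, σ (σ a) = a}

/-- a root of the base group -/
def IsURoot (σ : F ≃+* F) (r : GL (Fin t → Fin (n + 3)) F) : Prop :=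
  ∃ (i : Fin t) (u : Fin (n + 3) → F) (hu : dual σ (s1 n) u ⬝ᵥ u = 0) (c : F),
    u ≠ 0 ∧ c ≠ 0 ∧ σ c = -c ∧ r = sl i (utv σ u hu c)

theorem cj_vmv_dual {A : GL (Fin (n + 3)) F} (hA : A ∈ u1 σ hσ n) (u : Fin (n + 3) → F) :
    cj A (vecMulVec u (dual σ (s1 n) u)) = vecMulVec ((A : Matrix (Fin (n + 3)) (Fin (n + 3)) F) *ᵥ u)
      (dual σ (s1 n) ((A : Matrix (Fin (n + 3)) (Fin (n + 3)) F) *ᵥ u)) := by
  rw [dual_mulVec hσ s1_inv, adj_of_mem hA, cj, mul_vecMulVec, vecMulVec_mul]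

theorem iso_mulVec {A : GL (Fin (n + 3)) F} (hA : A ∈ u1 σ hσ n) {u : Fin (n + 3) → F}
    (hu : dual σ (s1 n) u ⬝ᵥ u = 0) :
    dual σ (s1 n) ((A : Matrix (Fin (n + 3)) (Fin (n + 3)) F) *ᵥ u) ⬝ᵥ
      ((A : Matrix (Fin (n + 3)) (Fin (n + 3)) F) *ᵥ u) = 0 := by
  rw [dual_mulVec hσ s1_inv, adj_of_mem hA, dotProduct_mulVec, vecMul_vecMul, gl_inv_mul, vecMul_one, hu]

theorem utv_conj {A : GL (Fin (n + 3)) F} (hA : A ∈ u1 σ hσ n) (u : Fin (n + 3) → F)
    (hu : dual σ (s1 n) u ⬝ᵥ u = 0) (c : F) :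
    A * utv σ u hu c * A⁻¹ = utv σ _ (iso_mulVec hA hu) c := Units.ext (by
  rw [← cj_coe, utv_coe, utv_coe, cj_add, cj_one, cj_smul, cj_vmv_dual hA])

theorem root_coe {r : GL (Fin t → Fin (n + 3)) F} {i : Fin t} {u : Fin (n + 3) → F}
    {hu : dual σ (s1 n) u ⬝ᵥ u = 0} {c : F} (he : r = sl i (utv σ u hu c)) :
    (r : Matrix (Fin t → Fin (n + 3)) _ F) = 1 + c • slot i (vecMulVec u (dual σ (s1 n) u)) := by
  rw [he, sl_coe, utv_coe, slot_add, slot_one, slot_smul]

theorem IsURoot.conj_sl {r : GL (Fin t → Fin (n + 3)) F} (hr : IsURoot σ r) (l : Fin t) {A : GL (Fin (n + 3)) F}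
    (hA : A ∈ u1 σ hσ n) : IsURoot σ (sl l A * r * (sl l A)⁻¹) := by
  obtain ⟨i, u, hu, c, hu0, hc0, hc, rfl⟩ := hr
  rcases eq_or_ne l i with rfl | hl
  · refine ⟨l, _, iso_mulVec hA hu, c, fun e => hu0 (gl_mulVec_eq_zero.1 e), hc0, hc, ?_⟩
    rw [← utv_conj hA, sl_mul, ← sl_inv, sl_mul]
  · exact ⟨i, u, hu, c, hu0, hc0, hc, by rw [sl_comm hl, mul_inv_cancel_right]⟩

theorem IsURoot.conj_tw {r : GL (Fin t → Fin (n + 3)) F} (hr : IsURoot σ r) {A : Fin t → GL (Fin (n + 3)) F}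
    (hA : ∀ l, A l ∈ u1 σ hσ n) (π : Equiv.Perm (Fin t)) :
    IsURoot σ (permGL π * pureGL A * r * (permGL π * pureGL A)⁻¹) := by
  obtain ⟨i, u, hu, c, hu0, hc0, hc, rfl⟩ := hr
  refine ⟨π i, _, iso_mulVec (hA i) hu, c, fun e => hu0 (gl_mulVec_eq_zero.1 e), hc0, hc, ?_⟩
  rw [← utv_conj (hA i)]
  refine Units.ext ?_
  rw [← cj_coe, sl_coe, sl_coe, cj_wreath_slot, cj_coe]

theorem IsURoot.mem_tw {r : GL (Fin t → Fin (n + 3)) F} (hr : IsURoot σ r) :
    r ∈ tensorWreathStandard (n + 3) t F := by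
  obtain ⟨i, u, hu, c, -, -, -, rfl⟩ := hr
  exact sl_mem_tw i _

theorem IsURoot.mem {M : Subgroup (GL (Fin t → Fin (n + 3)) F)} (hB : HasUBase σ hσ M)
    {r : GL (Fin t → Fin (n + 3)) F} (hr : IsURoot σ r) : r ∈ M := by
  obtain ⟨i, u, hu, c, -, -, hc, rfl⟩ := hr
  exact hB.utv_mem i u hu hc

variable [Fintype F]

/-- a root becomes standard after a change inside the base group -/
theorem IsURoot.to_standard (hs : Sc σ) {r : GL (Fin t → Fin (n + 3)) F} (hr : IsURoot σ r) :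
    ∃ (i : Fin t) (A : GL (Fin (n + 3)) F) (c : F), A ∈ u1 σ hσ n ∧
      (A : Matrix (Fin (n + 3)) (Fin (n + 3)) F).det = 1 ∧ c ≠ 0 ∧ σ c = -c ∧
      sl i A * r * (sl i A)⁻¹ = sl i (rt σ c) := by
  obtain ⟨i, u, hu, c, hu0, hc0, hc, rfl⟩ := hr
  have hf := hform_unitary hs (s1_inv (n := n))
  have hiso : ∀ v, dual σ (s1 n) v ⬝ᵥ v = 0 → hform σ (s1 n) v v = 0 := fun v hv => by
    rw [hform, dotProduct_comm]; exact hv
  obtain ⟨A, hA, ν, hν, hAu⟩ := TensorHerm.exists_line_move hf hu0 (a' := Pi.single (0 : Fin (n + 3)) (1 : F))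
    (fun e => one_ne_zero (α := F) (by simpa using congrFun e 0)) (hiso u hu) (hiso _ e0_iso)
  have hA1 : A ∈ u1 σ hσ n := by
    have := hA.1
    rw [isoU_hform hs s1_inv] at this
    exact this
  refine ⟨i, A, c * (ν * σ ν), hA1, congrArg Units.val hA.2, mul_ne_zero hc0 (mul_ne_zero hν (by simpa using hν)),
    by rw [map_mul, map_mul, hs.invol, hc]; ring, ?_⟩
  rw [sl_mul, ← sl_inv, sl_mul, utv_conj hA1]
  congr 1
  refine Units.ext ?_
  rw [utv_coe, rt_coe]
  simp only [hAu]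
  rw [dual_smul, smul_vecMulVec, vecMulVec_smul, vmv_e0, smul_smul, smul_smul, ← mul_assoc]

/-- the induction hypothesis on the number of factors -/
def InnerU (σ : F ≃+* F) (hσ : ∀ a, σ (σ a) = a) (n s : ℕ) : Prop :=
  ∀ K : Subgroup (GL (Fin s → Fin (n + 3)) F), HasUBase σ hσ K → HasUPerms K → K ≤ uT σ hσ n s →
    ¬ uT σ hσ n s ⊓ specialLinear (Fin s → Fin (n + 3)) F ≤ K → K ≤ tensorWreathStandard (n + 3) s F

/-- the overgroup on the other factors -/
def dropU (σ : F ≃+* F) (hσ : ∀ a, σ (σ a) = a) (M : Subgroup (GL (Fin (s + 1) → Fin (n + 3)) F)) (j : Fin (s + 1)) :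
    Subgroup (GL (Fin s → Fin (n + 3)) F) where
  carrier := {b | ∃ a : GL (Fin (n + 3)) F, a ∈ u1 σ hσ n ∧ sl j a * embGL j b ∈ M}
  one_mem' := ⟨1, one_mem _, by rw [sl_one, map_one, one_mul]; exact M.one_mem⟩
  mul_mem' := by
    rintro b b' ⟨a, ha, hab⟩ ⟨a', ha', hab'⟩
    refine ⟨a * a', mul_mem ha ha', ?_⟩
    have e : sl j (a * a') * embGL j (b * b') = sl j a * embGL j b * (sl j a' * embGL j b') := by
      rw [← sl_mul, map_mul]
      simp only [mul_assoc]
      rw [← mul_assoc (sl j a'), embGL_comm, mul_assoc]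
    rw [e]; exact M.mul_mem hab hab'
  inv_mem' := by
    rintro b ⟨a, ha, hab⟩
    refine ⟨a⁻¹, inv_mem ha, ?_⟩
    have e : sl j a⁻¹ * embGL j b⁻¹ = (sl j a * embGL j b)⁻¹ := by
      rw [embGL_comm j a b, _root_.mul_inv_rev, sl_inv, map_inv]
    rw [e]; exact M.inv_mem hab

variable {M : Subgroup (GL (Fin (s + 1) → Fin (n + 3)) F)}

theorem perm_tw {j : Fin (s + 1)} {b : GL (Fin s → Fin (n + 3)) F} (a : GL (Fin (n + 3)) F)
    (hb : b ∈ tensorWreathStandard (n + 3) s F) : sl j a * embGL j b ∈ tensorWreathStandard (n + 3) (s + 1) F := by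
  obtain ⟨π, A, rfl⟩ := tw_shape hb
  obtain ⟨π', hj, hπ⟩ := exists_extend j π
  rw [map_mul, embGL_perm j π π' hj hπ, embGL_pure]
  exact mul_mem (sl_mem_tw j a) (mul_mem (perm_mem_tw π') (pure_mem_tw _))

/-- the centraliser of a standard root -/
theorem UCtx.centraliser (h : UCtx σ hσ M) (hin : InnerU σ hσ n s) {g : GL (Fin (s + 1) → Fin (n + 3)) F} (hg : g ∈ M)
    {j : Fin (s + 1)} (hc : (g : Matrix (Fin (s + 1) → Fin (n + 3)) _ F) * sx j 0 1 =
      sx j 0 1 * (g : Matrix (Fin (s + 1) → Fin (n + 3)) _ F)) :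
    g ∈ tensorWreathStandard (n + 3) (s + 1) F := by
  classical
  obtain ⟨a, b, ha, hb, rfl⟩ := h.root_split (h.le hg)
    (fun i a ha hd => M.mul_mem (M.mul_mem hg (h.base i a ha hd)) (M.inv_mem hg)) hc
  rcases Nat.eq_zero_or_pos s with rfl | hs0
  · exact tw_of_one (by omega) _
  refine perm_tw a ?_
  rcases Nat.lt_or_ge s 2 with hs2 | hs2
  · obtain rfl : s = 1 := by omega
    exact tw_of_one (by omega) b
  refine hin (dropU σ hσ M j) (fun i c hc' hd => ⟨1, one_mem _, ?_⟩) (fun x y z hxy hxz hyz => ⟨1, one_mem _, ?_⟩)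
    (fun x hx => ?_) (fun hle => ?_) ⟨a, ha, hg⟩
  · rw [sl_one, one_mul, embGL_sl]; exact h.base _ c hc' hd
  · obtain ⟨π', hj, hπ⟩ := exists_extend j (Equiv.swap x y * Equiv.swap x z)
    rw [sl_one, one_mul, embGL_perm j _ π' hj hπ]
    have e : π' = Equiv.swap (j.succAbove x) (j.succAbove y) * Equiv.swap (j.succAbove x) (j.succAbove z) := by
      refine Equiv.ext fun l => ?_
      rcases Fin.eq_self_or_eq_succAbove j l with rfl | ⟨i, rfl⟩
      · rw [hj, Equiv.Perm.mul_apply, Equiv.swap_apply_of_ne_of_ne (Fin.ne_succAbove _ _) (Fin.ne_succAbove _ _),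
          Equiv.swap_apply_of_ne_of_ne (Fin.ne_succAbove _ _) (Fin.ne_succAbove _ _)]
      · rw [hπ, Equiv.Perm.mul_apply, Equiv.Perm.mul_apply, Fin.succAbove_right_injective.swap_apply,
          Fin.succAbove_right_injective.swap_apply]
    rw [e]
    exact h.perms _ _ _ (Fin.succAbove_right_injective.ne hxy) (Fin.succAbove_right_injective.ne hxz)
      (Fin.succAbove_right_injective.ne hyz)
  · obtain ⟨c, hc', hm⟩ := hx
    have h1 := mul_mem (inv_mem (sl_mem_uT (hσ := hσ) j hc')) (h.le hm)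
    rw [inv_mul_cancel_left] at h1
    exact (embGL_mem_iff j).1 h1
  · let i0 : Fin s := ⟨0, by omega⟩
    let i1 : Fin s := ⟨1, by omega⟩
    have hi : i0 ≠ i1 := by simp [i0, i1, Fin.ext_iff]
    obtain ⟨c, hc0, hcσ⟩ := h.sc.exists_skew
    set P : Matrix (Fin s → Fin (n + 3)) (Fin s → Fin (n + 3)) F :=
      CfsgLib.Perm.Asch.pure (fun _ : Fin s => Matrix.single (0 : Fin (n + 3)) 1 (1 : F)) with hP
    set P' : Matrix (Fin s → Fin (n + 3)) (Fin s → Fin (n + 3)) F :=
      CfsgLib.Perm.Asch.pure (Function.update (fun _ : Fin s => Matrix.single (0 : Fin (n + 3)) 1 (1 : F)) i0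
        (Matrix.single 1 0 1)) with hP'
    have hz : ∀ (A A' : Fin s → Matrix (Fin (n + 3)) (Fin (n + 3)) F), A i1 = Matrix.single 0 1 1 →
        A' i1 = Matrix.single 0 1 1 → CfsgLib.Perm.Asch.pure A * CfsgLib.Perm.Asch.pure A' = 0 := by
      intro A A' e e'
      rw [pure_mul]
      ext p q
      rw [pure_apply, Matrix.zero_apply]
      refine Finset.prod_eq_zero (Finset.mem_univ i1) ?_
      rw [Pi.mul_apply, e, e', Matrix.single_mul_single_of_ne (h := show (1 : Fin (n + 3)) ≠ 0 by simp), Matrix.zero_apply]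
    have hPP : P * P = 0 := hz _ _ rfl rfl
    have hPP' : P * P' = 0 := hz _ _ rfl (Function.update_of_ne hi.symm _ _)
    have hP'P' : P' * P' = 0 := hz _ _ (Function.update_of_ne hi.symm _ _) (Function.update_of_ne hi.symm _ _)
    have hsq : (c • P) * (c • P) = 0 := by rw [Matrix.smul_mul, Matrix.mul_smul, hPP, smul_zero, smul_zero]
    let b0 : GL (Fin s → Fin (n + 3)) F := ⟨1 + c • P, 1 - c • P,
      by rw [add_mul, one_mul, mul_sub, mul_one, hsq, sub_zero, sub_add_cancel],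
      by rw [sub_mul, one_mul, mul_add, mul_one, hsq, add_zero, add_sub_cancel_right]⟩
    have hb0 : b0 ∈ uT σ hσ n s ⊓ specialLinear (Fin s → Fin (n + 3)) F := by
      refine Subgroup.mem_inf.2 ⟨mem_of_one_add (X := c • P) rfl hsq ?_, Units.ext ?_⟩
      · rw [adj_smul, hP, adj_pure, adj_single s1_inv, s1_one, s1_zero, map_one, hcσ, neg_smul]
      · show (1 + c • P).det = 1
        have hne : (fun _ : Fin s => (1 : Fin (n + 3))) ≠ fun _ => 0 := fun e => by simpa using congrFun e i0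
        have e1 : c • P = Matrix.single (fun _ : Fin s => (0 : Fin (n + 3))) (fun _ : Fin s => (0 : Fin (n + 3))) 1 *
            Matrix.single (fun _ : Fin s => (0 : Fin (n + 3))) (fun _ : Fin s => (1 : Fin (n + 3))) c := by
          rw [Matrix.single_mul_single_same, one_mul, hP, pure_single, Matrix.smul_single, smul_eq_mul, mul_one]
        rw [e1, Matrix.det_one_add_mul_comm, Matrix.single_mul_single_of_ne (h := hne), add_zero, det_one]
    obtain ⟨a0, ha0, hm⟩ := hle hb0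
    have hw : embGL j (sl i0 (wl n F)) ∈ M := by rw [embGL_sl]; exact h.base _ _ wl_mem wl_det
    set w := sl i0 (wl n F) with hwdef
    have hcomm : embGL j (b0 * (w * b0⁻¹ * w⁻¹)) ∈ M := by
      have e : embGL j (b0 * (w * b0⁻¹ * w⁻¹)) =
          sl j a0 * embGL j b0 * (embGL j w * (sl j a0 * embGL j b0)⁻¹ * (embGL j w)⁻¹) := by
        have h1 : Commute (sl j a0) (embGL j b0) := embGL_comm j a0 b0
        have h2 : Commute (sl j a0) (embGL j w) := embGL_comm j a0 w
        simp only [map_mul, map_inv, _root_.mul_inv_rev]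
        calc embGL j b0 * (embGL j w * (embGL j b0)⁻¹ * (embGL j w)⁻¹)
            = sl j a0 * (embGL j b0 * (embGL j w * (embGL j b0)⁻¹ * (embGL j w)⁻¹)) * (sl j a0)⁻¹ := by
              rw [(h1.mul_right ((h2.mul_right h1.inv_right).mul_right h2.inv_right)).eq, mul_inv_cancel_right]
          _ = _ := by
              rw [show sl j a0 * (embGL j b0 * (embGL j w * (embGL j b0)⁻¹ * (embGL j w)⁻¹)) * (sl j a0)⁻¹ =
                sl j a0 * embGL j b0 * (embGL j w * (embGL j b0)⁻¹ * ((embGL j w)⁻¹ * (sl j a0)⁻¹)) by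
                  simp only [mul_assoc]]
              rw [← (h2.inv_inv).eq]
              simp only [mul_assoc]
      rw [e]
      exact M.mul_mem hm (M.mul_mem (M.mul_mem hw (M.inv_mem hm)) (M.inv_mem hw))
    have hval : ((b0 * (w * b0⁻¹ * w⁻¹) : GL (Fin s → Fin (n + 3)) F) : Matrix (Fin s → Fin (n + 3)) _ F) =
        1 + c • (P - P') := by
      have hcw : cj w P = P' := by
        rw [hwdef, hP, cj_sl_pure, cj_wl 0 1 (Or.inl rfl) (Or.inr rfl), s1_zero, s1_one]
      rw [Units.val_mul b0, ← cj_coe, show ((b0⁻¹ : GL (Fin s → Fin (n + 3)) F) : Matrix _ _ F) = 1 - c • P from rfl,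
        cj_sub, cj_one, cj_smul, hcw, show (b0 : Matrix (Fin s → Fin (n + 3)) _ F) = 1 + c • P from rfl, add_mul, one_mul,
        mul_sub, mul_one, Matrix.smul_mul, Matrix.mul_smul, hPP', smul_zero, smul_zero, sub_zero, smul_sub]
      abel
    set l := j.succAbove i1 with hl
    have hjl : j ≠ l := (Fin.succAbove_ne j i1).symm
    have hsplit : ∀ X : Matrix (Fin (n + 3)) (Fin (n + 3)) F,
        emb j (CfsgLib.Perm.Asch.pure (Function.update (fun _ : Fin s => Matrix.single (0 : Fin (n + 3)) 1 (1 : F)) i0 X)) =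
          rx01 l (CfsgLib.Perm.Asch.pure (fun i => (Fin.insertNth (α := fun _ : Fin (s + 1) => Matrix (Fin (n + 3)) (Fin (n + 3)) F) j (1 : Matrix (Fin (n + 3)) (Fin (n + 3)) F)
            (Function.update (fun _ : Fin s => Matrix.single (0 : Fin (n + 3)) 1 (1 : F)) i0 X)) (l.succAbove i))) := by
      intro X
      rw [emb_pure, pure_split l, hl, Fin.insertNth_apply_succAbove, Function.update_of_ne hi.symm, rx01_apply]
      rfl
    have hZ : c • (CfsgLib.Perm.Asch.pure (fun i => (Fin.insertNth (α := fun _ : Fin (s + 1) => Matrix (Fin (n + 3)) (Fin (n + 3)) F) j (1 : Matrix (Fin (n + 3)) (Fin (n + 3)) F)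
          (Function.update (fun _ : Fin s => Matrix.single (0 : Fin (n + 3)) 1 (1 : F)) i0 (Matrix.single 0 1 1)))
          (l.succAbove i)) -
        CfsgLib.Perm.Asch.pure (fun i => (Fin.insertNth (α := fun _ : Fin (s + 1) => Matrix (Fin (n + 3)) (Fin (n + 3)) F) j (1 : Matrix (Fin (n + 3)) (Fin (n + 3)) F)
          (Function.update (fun _ : Fin s => Matrix.single (0 : Fin (n + 3)) 1 (1 : F)) i0 (Matrix.single 1 0 1)))
          (l.succAbove i))) ∈ smallS M l := by
      rw [mem_smallS, ← rx01_apply, map_smul, map_sub, ← hsplit, ← hsplit, Function.update_eq_self]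
      exact ⟨_, hcomm, by rw [embGL_coe, hval, map_add, map_one, map_smul, map_sub]⟩
    refine h.proper (le_of_nonscalar h.sc h.hq h.base h.perms h.le hZ fun d hd => hc0 ?_)
    obtain ⟨i0', hi0'⟩ := Fin.exists_succAbove_eq (show j.succAbove i0 ≠ l from Fin.succAbove_right_injective.ne hi)
    let y : Fin s → Fin (n + 3) := fun i => if l.succAbove i = j then 0 else 1
    have e := congrFun (congrFun hd fun _ => 0) y
    rw [Matrix.smul_apply, Matrix.sub_apply, pure_apply, pure_apply] at e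
    rw [Finset.prod_eq_one (fun i _ => ?_), Finset.prod_eq_zero (Finset.mem_univ i0') ?_, sub_zero] at e
    · rw [Matrix.smul_apply, Matrix.one_apply_ne, smul_zero, smul_eq_mul, mul_one] at e
      · exact e
      · intro e'
        have := congrFun e' i0'
        simp [y, hi0', Fin.succAbove_ne] at this
    · simp [hi0', y, Fin.succAbove_ne]
    · simp only [y]
      rcases Fin.eq_self_or_eq_succAbove j (l.succAbove i) with hh | ⟨i', hi'⟩
      · rw [hh, Fin.insertNth_apply_same, if_pos rfl]; exact Matrix.one_apply_eq _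
      · rw [hi', Fin.insertNth_apply_succAbove, Function.update_eq_self, if_neg (Fin.succAbove_ne j i')]; simp

/-- the group conjugated by a permutation of the factors -/
theorem UCtx.conj_perm (h : UCtx σ hσ M) (π : Equiv.Perm (Fin (s + 1))) :
    UCtx σ hσ (M.comap (MulAut.conj (permGL π)).toMonoidHom) := by
  have hP : (permGL π : GL (Fin (s + 1) → Fin (n + 3)) F) ∈ uT σ hσ n (s + 1) := permGL_mem_uT π
  refine ⟨h.sc, h.hq, fun i b hb hd => ?_, fun x y z hxy hxz hyz => ?_, fun x hx => ?_, fun hle => h.proper ?_⟩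
  · show permGL π * sl i b * (permGL π)⁻¹ ∈ M
    have : permGL π * sl i b * (permGL π)⁻¹ = sl (π i) b := Units.ext (by
      rw [← cj_coe, sl_coe, sl_coe, cj_permGL_slot])
    rw [this]
    exact h.base _ _ hb hd
  · show permGL π * permGL _ * (permGL π)⁻¹ ∈ M
    rw [mul_inv_eq_iff_eq_mul.2 (show permGL (κ := Fin (n + 3)) (F := F) π * permGL (Equiv.swap x y * Equiv.swap x z) =
      permGL (Equiv.swap (π x) (π y) * Equiv.swap (π x) (π z)) * permGL π by
        rw [permGL_mul, permGL_mul, ← mul_assoc π, Equiv.mul_swap_eq_swap_mul π x y, mul_assoc _ π,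
          Equiv.mul_swap_eq_swap_mul π x z, ← mul_assoc])]
    exact h.perms _ _ _ (π.injective.ne hxy) (π.injective.ne hxz) (π.injective.ne hyz)
  · have h1 := h.le (show permGL π * x * (permGL π)⁻¹ ∈ M from hx)
    have h2 := mul_mem (mul_mem (inv_mem hP) h1) hP
    rwa [show (permGL π)⁻¹ * (permGL π * x * (permGL π)⁻¹) * permGL π = x by group] at h2
  · intro g hg
    have h3 : (permGL π)⁻¹ * g * permGL π ∈ uT σ hσ n (s + 1) ⊓ specialLinear (Fin (s + 1) → Fin (n + 3)) F :=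
      Subgroup.mem_inf.2 ⟨mul_mem (mul_mem (inv_mem hP) hg.1) hP, by
        have := (MonoidHom.normal_ker _).conj_mem g hg.2 (permGL (κ := Fin (n + 3)) (F := F) π)⁻¹
        rw [inv_inv] at this
        exact this⟩
    have h4 : permGL π * ((permGL π)⁻¹ * g * permGL π) * (permGL π)⁻¹ ∈ M := hle h3
    rwa [show permGL π * ((permGL π)⁻¹ * g * permGL π) * (permGL π)⁻¹ = g by group] at h4

/-- fusion of roots -/
theorem UCtx.fusion (h : UCtx σ hσ M) (hin : InnerU σ hσ n s) {r g : GL (Fin (s + 1) → Fin (n + 3)) F}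
    (hr : IsURoot σ r) (hg : g ∈ M) (hgr : IsURoot σ (g * r * g⁻¹)) :
    g ∈ tensorWreathStandard (n + 3) (s + 1) F := by
  obtain ⟨i, A, c, hA, hAd, hc0, hcσ, hAr⟩ := hr.to_standard (hσ := hσ) h.sc
  obtain ⟨j, B, d, hB, hBd, hd0, hdσ, hBr⟩ := hgr.to_standard (hσ := hσ) h.sc
  obtain ⟨x, hx⟩ := h.sc.exists_norm (show σ (c / d) = c / d by rw [map_div₀, hcσ, hdσ, neg_div_neg_eq])
  have hx0 : x ≠ 0 := fun e => div_ne_zero hc0 hd0 (by rw [← hx, e, zero_mul])
  set g1 := sl j B * g * (sl i A)⁻¹ with hg1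
  have hg1M : g1 ∈ M := M.mul_mem (M.mul_mem (h.base j B hB hBd) hg) (M.inv_mem (h.base i A hA hAd))
  have e1 : g1 * sl i (rt σ c) * g1⁻¹ = sl j (rt σ d) := by rw [← hAr, ← hBr, hg1]; group
  have e2 : cj g1 (sx i 0 1) = (d / c) • (sx j 0 1 : Matrix (Fin (s + 1) → Fin (n + 3)) _ F) := by
    have e := congrArg Units.val e1
    rw [← cj_coe, sl_coe, sl_coe, rt_coe, rt_coe, slot_add, slot_add, slot_one, slot_one, cj_add, cj_one, add_right_inj,
      slot_smul, slot_smul, cj_smul] at e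
    calc cj g1 (sx i 0 1) = c⁻¹ • (c • cj g1 (sx i 0 1)) := by rw [smul_smul, inv_mul_cancel₀ hc0, one_smul]
      _ = _ := by rw [show c • cj g1 (sx i 0 1) = d • sx j 0 1 from e, smul_smul, inv_mul_eq_div]
  set T := sl (t := s + 1) j (tor σ n (Units.mk0 x hx0)) with hT
  set g2 := T * g1 with hg2
  have hg2M : g2 ∈ M := M.mul_mem (h.base j _ (tor_mem _) (tor_det _)) hg1M
  have e3 : cj g2 (sx i 0 1) = (sx j 0 1 : Matrix (Fin (s + 1) → Fin (n + 3)) _ F) := by
    rw [hg2, ← cj_cj, e2, cj_smul, hT, sx, cj_sl_slot, cj_tor hσ, slot_smul, smul_smul, Units.val_mk0, hx,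
      div_mul_div_cancel₀ hc0, div_self hd0, one_smul]
  suffices hg2W : g2 ∈ tensorWreathStandard (n + 3) (s + 1) F by
    have h4 : g = (sl j B)⁻¹ * (T⁻¹ * g2) * sl i A := by rw [hg2, hg1]; group
    rw [h4]
    exact mul_mem (mul_mem (inv_mem (sl_mem_tw _ _)) (mul_mem (inv_mem (sl_mem_tw _ _)) hg2W)) (sl_mem_tw _ _)
  have hcomm : ∀ (π : Equiv.Perm (Fin (s + 1))), π j = i →
      ((permGL π * g2 : GL (Fin (s + 1) → Fin (n + 3)) F) : Matrix (Fin (s + 1) → Fin (n + 3)) _ F) * sx i 0 1 =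
        sx i 0 1 * ((permGL π * g2 : GL (Fin (s + 1) → Fin (n + 3)) F) : Matrix (Fin (s + 1) → Fin (n + 3)) _ F) := by
    intro π hπ
    have e4 : cj (permGL π * g2) (sx i 0 1) = (sx i 0 1 : Matrix (Fin (s + 1) → Fin (n + 3)) _ F) := by
      rw [← cj_cj, e3, sx, cj_permGL_slot, hπ]; rfl
    have e5 := congrArg (· * ((permGL π * g2 : GL (Fin (s + 1) → Fin (n + 3)) F) :
      Matrix (Fin (s + 1) → Fin (n + 3)) (Fin (s + 1) → Fin (n + 3)) F)) e4
    simpa only [cj, mul_assoc, gl_inv_mul, mul_one] using e5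
  have hdone : ∀ π : Equiv.Perm (Fin (s + 1)), permGL π * g2 ∈ tensorWreathStandard (n + 3) (s + 1) F →
      g2 ∈ tensorWreathStandard (n + 3) (s + 1) F := fun π hπ => by
    have := mul_mem (inv_mem (perm_mem_tw (m := n + 3) (F := F) π)) hπ
    rwa [inv_mul_cancel_left] at this
  rcases eq_or_ne i j with hij | hij
  · refine hdone 1 (h.centraliser hin (j := i) ?_ (hcomm 1 hij.symm))
    rw [permGL_one, one_mul]; exact hg2M
  by_cases h3 : ∃ k, k ≠ i ∧ k ≠ j
  · obtain ⟨k, hki, hkj⟩ := h3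
    refine hdone (Equiv.swap j k * Equiv.swap j i) (h.centraliser hin (j := i)
      (M.mul_mem (h.perms j k i hkj.symm hij.symm hki) hg2M) (hcomm _ ?_))
    rw [Equiv.Perm.mul_apply, Equiv.swap_apply_left, Equiv.swap_apply_of_ne_of_ne hij hki.symm]
  push Not at h3
  have hs1 : s = 1 := by
    have h2 : (Finset.univ : Finset (Fin (s + 1))) ⊆ {i, j} := fun k _ => by
      by_cases hk : k = i
      · simp [hk]
      · simp [h3 k hk]
    have := Finset.card_le_card h2
    rw [Finset.card_pair hij, Finset.card_univ, Fintype.card_fin] at this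
    have h1 : s ≠ 0 := fun e => by subst e; exact hij (Subsingleton.elim (α := Fin 1) i j)
    omega
  subst hs1
  set π := Equiv.swap j i with hπ
  have hππ : permGL (κ := Fin (n + 3)) (F := F) π * permGL π = 1 := by
    rw [permGL_mul, hπ, Equiv.swap_mul_self, permGL_one]
  obtain ⟨a, b, -, -, hab⟩ := (h.conj_perm π).root_split (j := i) (g := permGL π * g2)
    (mul_mem (permGL_mem_uT π) (h.le hg2M)) (fun l a ha hd => by
      show permGL π * (permGL π * g2 * sl l a * (permGL π * g2)⁻¹) * (permGL π)⁻¹ ∈ M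
      rw [show permGL π * (permGL π * g2 * sl l a * (permGL π * g2)⁻¹) * (permGL π)⁻¹ =
        (permGL π * permGL π) * (g2 * sl l a * g2⁻¹) * (permGL π * permGL π)⁻¹ by group, hππ, one_mul, inv_one, mul_one]
      exact M.mul_mem (M.mul_mem hg2M (h.base l a ha hd)) (M.inv_mem hg2M))
    (hcomm π (by rw [hπ, Equiv.swap_apply_left]))
  refine hdone π ?_
  rw [hab]
  exact perm_tw a (tw_of_one (by omega) b)

/-- the centraliser of a root -/
theorem UCtx.root_centraliser (h : UCtx σ hσ M) (hin : InnerU σ hσ n s) {r g : GL (Fin (s + 1) → Fin (n + 3)) F}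
    (hr : IsURoot σ r) (hg : g ∈ M) (hc : g * r = r * g) : g ∈ tensorWreathStandard (n + 3) (s + 1) F :=
  h.fusion hin hr hg (by rwa [hc, mul_inv_cancel_right])

end CfsgLib.Perm.Trans.TensorPowerU
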