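import Cfsg.Agent.Lib.Perm.Trans.TensorPowerU.Centre

/-!
# Elements commuting with a root split off the factor of the root
-/

set_option autoImplicit false
set_option linter.all false

namespace CfsgLib.Perm.Trans.TensorPowerU

open scoped Matrix
open Matrix Cfsg.Geo CfsgLib.Perm.Asch CfsgLib.Perm.Trans CfsgLib.Perm.Trans.TensorPower

variable {F : Type*} [Field F] {σ : F ≃+* F} {n s t : ℕ} {hσ : ∀ a, σ (σ a) = a}

/-- an isometric involution moving the hyperbolic pair into the middle -/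
theorem exists_frame_swap [Fintype F] (hs : Sc σ) (h2 : (2 : F) = 0) (hn : 1 ≤ n) :
    ∃ T : GL (Fin (n + 3)) F, T ∈ u1 σ hσ n ∧ (T : Matrix (Fin (n + 3)) (Fin (n + 3)) F).det = 1 ∧
      T * T = 1 ∧ ∀ x p : Fin (n + 3), (x = 0 ∨ x = 1) → (p = 0 ∨ p = 1) →
        (T : Matrix (Fin (n + 3)) (Fin (n + 3)) F) x p = 0 := by
  obtain ⟨μ, hμ⟩ := hs.exists_trace 1
  obtain ⟨a, ha⟩ : ∃ a : F, a + σ a = 1 := ⟨-μ, by
    rw [map_one, mul_one] at hμ
    rw [map_neg]
    linear_combination -hμ⟩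
  obtain ⟨b, hb⟩ : ∃ b : Fin (n + 3), b = ⟨2, by omega⟩ := ⟨_, rfl⟩
  obtain ⟨c, hc⟩ : ∃ c : Fin (n + 3), c = ⟨3, by omega⟩ := ⟨_, rfl⟩
  have hb0 : b ≠ 0 := by simp [hb, Fin.ext_iff]
  have hb1 : b ≠ 1 := by simp [hb, Fin.ext_iff]
  have hc0 : c ≠ 0 := by simp [hc, Fin.ext_iff]
  have hc1 : c ≠ 1 := by simp [hc, Fin.ext_iff]
  have hbc : b ≠ c := by simp [hb, hc, Fin.ext_iff]
  have h10 : (1 : Fin (n + 3)) ≠ 0 := by simp
  set T : Matrix (Fin (n + 3)) (Fin (n + 3)) F :=
    1 - Matrix.single 0 0 1 - Matrix.single 1 1 1 - Matrix.single b b 1 - Matrix.single c c 1 + Matrix.single b 0 1 +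
      Matrix.single c 0 1 + Matrix.single b 1 a + Matrix.single c 1 (σ a) + Matrix.single 0 b (σ a) +
      Matrix.single 1 b 1 + Matrix.single 0 c a + Matrix.single 1 c 1 with hT
  have e2 : ∀ X : Matrix (Fin (n + 3)) (Fin (n + 3)) F, X + X = 0 := fun X => by
    rw [← two_smul F X, h2, zero_smul]
  have v0 : T *ᵥ Pi.single 0 1 = Pi.single b 1 + Pi.single c 1 := by
    funext p
    rw [mulVec_single_one, Matrix.col_apply, hT]
    simp only [Matrix.add_apply, Matrix.sub_apply, Matrix.single_apply, Matrix.one_apply, Pi.add_apply, Pi.single_apply]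
    simp [hb0, hc0, h10, eq_comm]
  have v1 : T *ᵥ Pi.single 1 1 = Pi.single b a + Pi.single c (σ a) := by
    funext p
    rw [mulVec_single_one, Matrix.col_apply, hT]
    simp only [Matrix.add_apply, Matrix.sub_apply, Matrix.single_apply, Matrix.one_apply, Pi.add_apply, Pi.single_apply]
    simp [hb1, hc1, h10.symm, eq_comm]
  have vb : T *ᵥ Pi.single b 1 = Pi.single 0 (σ a) + Pi.single 1 1 := by
    funext p
    rw [mulVec_single_one, Matrix.col_apply, hT]
    simp only [Matrix.add_apply, Matrix.sub_apply, Matrix.single_apply, Matrix.one_apply, Pi.add_apply, Pi.single_apply]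
    simp [hb0.symm, hb1.symm, hbc.symm, eq_comm]
  have vc : T *ᵥ Pi.single c 1 = Pi.single 0 a + Pi.single 1 1 := by
    funext p
    rw [mulVec_single_one, Matrix.col_apply, hT]
    simp only [Matrix.add_apply, Matrix.sub_apply, Matrix.single_apply, Matrix.one_apply, Pi.add_apply, Pi.single_apply]
    simp [hc0.symm, hc1.symm, hbc, eq_comm]
  have vo : ∀ k, k ≠ 0 → k ≠ 1 → k ≠ b → k ≠ c → T *ᵥ Pi.single k 1 = Pi.single k 1 := by
    intro k k0 k1 kb kc
    funext p
    rw [mulVec_single_one, Matrix.col_apply, hT]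
    simp only [Matrix.add_apply, Matrix.sub_apply, Matrix.single_apply, Matrix.one_apply, Pi.single_apply]
    simp [k0.symm, k1.symm, kb.symm, kc.symm]
  have hs' : ∀ (p : Fin (n + 3)) (r : F), (Pi.single p r : Fin (n + 3) → F) = r • Pi.single p 1 := fun p r => by
    rw [← Pi.single_smul, smul_eq_mul, mul_one]
  have ha' : σ a + a = 1 := by rw [add_comm]; exact ha
  have hTT : T * T = 1 := by
    refine Matrix.ext_of_mulVec_single fun k => ?_
    rw [← mulVec_mulVec, one_mulVec]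
    by_cases k0 : k = 0
    · rw [k0, v0, mulVec_add, vb, vc, add_add_add_comm, ← Pi.single_add, ha', ← Pi.single_add, one_add_one_eq_two, h2,
        Pi.single_zero, add_zero]
    by_cases k1 : k = 1
    · rw [k1, v1, hs' b, hs' c, mulVec_add, mulVec_smul, mulVec_smul, vb, vc, smul_add, smul_add, ← Pi.single_smul,
        ← Pi.single_smul, ← Pi.single_smul, ← Pi.single_smul, add_add_add_comm, ← Pi.single_add, ← Pi.single_add,
        smul_eq_mul, smul_eq_mul, smul_eq_mul, smul_eq_mul, mul_one, mul_one, ha, mul_comm (σ a) a, ← two_mul, h2,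
        zero_mul, Pi.single_zero, zero_add]
    by_cases kb : k = b
    · rw [kb, vb, hs' 0, mulVec_add, mulVec_smul, v0, v1, smul_add, ← Pi.single_smul, ← Pi.single_smul, add_add_add_comm,
        ← Pi.single_add, ← Pi.single_add, smul_eq_mul, mul_one, ha', ← two_mul, h2, zero_mul, Pi.single_zero, add_zero]
    by_cases kc : k = c
    · rw [kc, vc, hs' 0, mulVec_add, mulVec_smul, v0, v1, smul_add, ← Pi.single_smul, ← Pi.single_smul, add_add_add_comm,
        ← Pi.single_add, ← Pi.single_add, smul_eq_mul, mul_one, ha, ← two_mul, h2, zero_mul, Pi.single_zero, zero_add]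
    rw [vo k k0 k1 kb kc, vo k k0 k1 kb kc]
  have hTa : adj σ (s1 n) T = T := by
    rw [hT]
    simp only [adj_add, adj_sub, adj_one s1_inv, adj_single s1_inv, s1_zero, s1_one, s1_other hb0 hb1,
      s1_other hc0 hc1, map_one, hσ]
    abel
  refine ⟨⟨T, T, hTT, hTT⟩, ?_, ?_, Units.ext hTT, fun x p hx hp => ?_⟩
  · rw [mem_uSub]
    show T * adj σ (s1 n) T = 1
    rw [hTa, hTT]
  · show T.det = 1
    have h := congrArg Matrix.det hTT
    rw [det_mul, det_one] at h
    rcases mul_self_eq_one_iff.1 h with h | h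
    · exact h
    · rw [h]; linear_combination (-(1 : F)) * h2
  · show T x p = 0
    rw [hT]
    rcases hx with rfl | rfl <;> rcases hp with rfl | rfl <;>
      simp [Matrix.single_apply, hb0, hb1, hc0, hc1, h10]

/-- a norm different from one -/
theorem exists_norm_ne_one [Fintype F] (hs : Sc σ) (h4 : 4 < Fintype.card F) :
    ∃ x : Fˣ, (x : F) * σ x ≠ 1 := by
  classical
  by_contra hcon
  push Not at hcon
  have h : ∀ x : F, x ≠ 0 → x * σ x = 1 := fun x hx => hcon (Units.mk0 x hx)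
  have hsub : (Finset.univ : Finset F) ⊆ ({0, -1} : Finset F) ∪ (Finset.univ.filter fun x => x * x + x + 1 = 0) := by
    intro x _
    rcases eq_or_ne x 0 with rfl | hx
    · simp
    rcases eq_or_ne (1 + x) 0 with hx1 | hx1
    · simp [eq_neg_of_add_eq_zero_right hx1]
    have e1 := h x hx
    have e2 := h _ hx1
    rw [map_add, map_one] at e2
    refine Finset.mem_union_right _ (Finset.mem_filter.2 ⟨Finset.mem_univ x, ?_⟩)
    linear_combination x * e2 - (1 + x) * e1
  have h2 : (Finset.univ.filter fun x : F => x * x + x + 1 = 0).card ≤ 2 := by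
    by_cases hne : ∃ r, r ∈ Finset.univ.filter fun x : F => x * x + x + 1 = 0
    · obtain ⟨r, hr⟩ := hne
      refine (Finset.card_le_card (t := {r, -1 - r}) fun x hx => ?_).trans Finset.card_le_two
      simp only [Finset.mem_filter, Finset.mem_univ, true_and] at hx hr
      have : (x - r) * (x - (-1 - r)) = 0 := by linear_combination hx - hr
      rcases mul_eq_zero.1 this with e | e
      · simp [sub_eq_zero.1 e]
      · simp [sub_eq_zero.1 e]
    · rw [Finset.eq_empty_of_forall_notMem fun r hr => hne ⟨r, hr⟩]; simp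
  have := (Finset.card_le_card hsub).trans (Finset.card_union_le _ _)
  have h1 := Finset.card_le_two (a := (0 : F)) (b := -1)
  rw [Finset.card_univ] at this
  omega

variable [Fintype F] {M : Subgroup (GL (Fin (s + 1) → Fin (n + 3)) F)}

local notation "BMat" => Matrix (Fin (s + 1) → Fin (n + 3)) (Fin (s + 1) → Fin (n + 3)) F

/-- the group conjugated by a diagonal pure tensor -/
theorem UCtx.conj_const (h : UCtx σ hσ M) {a : GL (Fin (n + 3)) F} (ha : a ∈ u1 σ hσ n) :
    UCtx σ hσ (M.comap (MulAut.conj (pureGL fun _ => a)).toMonoidHom) := by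
  have hP : (pureGL fun _ : Fin (s + 1) => a) ∈ uT σ hσ n (s + 1) := pureGL_mem_uT fun _ => ha
  refine ⟨h.sc, h.hq, fun i b hb hd => ?_, fun x y z hxy hxz hyz => ?_, fun x hx => ?_, fun hle => h.proper ?_⟩
  · show pureGL (fun _ => a) * sl i b * (pureGL fun _ => a)⁻¹ ∈ M
    have : pureGL (fun _ => a) * sl i b * (pureGL fun _ => a)⁻¹ = sl i (a * b * a⁻¹) := Units.ext (by
      rw [← cj_coe, sl_coe, sl_coe, cj_pureGL_slot, cj_coe])
    rw [this]
    exact h.base i _ (mul_mem (mul_mem ha hb) (inv_mem ha)) (det_conj hd)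
  · show pureGL (fun _ => a) * permGL _ * (pureGL fun _ => a)⁻¹ ∈ M
    rw [pureGL_perm, show (fun _ : Fin (s + 1) => a) ∘ ⇑(Equiv.swap x y * Equiv.swap x z) = fun _ => a from rfl,
      mul_inv_cancel_right]
    exact h.perms x y z hxy hxz hyz
  · have h1 := h.le (show pureGL (fun _ => a) * x * (pureGL fun _ => a)⁻¹ ∈ M from hx)
    have h2 := mul_mem (mul_mem (inv_mem hP) h1) hP
    rwa [show (pureGL fun _ : Fin (s + 1) => a)⁻¹ * (pureGL (fun _ => a) * x * (pureGL fun _ => a)⁻¹) *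
      pureGL (fun _ => a) = x by group] at h2
  · intro g hg
    have h3 : (pureGL fun _ => a)⁻¹ * g * pureGL (fun _ => a) ∈
        uT σ hσ n (s + 1) ⊓ specialLinear (Fin (s + 1) → Fin (n + 3)) F :=
      Subgroup.mem_inf.2 ⟨mul_mem (mul_mem (inv_mem hP) hg.1) hP, by
        have := (MonoidHom.normal_ker _).conj_mem g hg.2 (pureGL fun _ : Fin (s + 1) => a)⁻¹
        rw [inv_inv] at this
        exact this⟩
    have h4 : pureGL (fun _ => a) * ((pureGL fun _ => a)⁻¹ * g * pureGL (fun _ => a)) * (pureGL fun _ => a)⁻¹ ∈ M :=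
      hle h3
    rwa [show pureGL (fun _ => a) * ((pureGL fun _ => a)⁻¹ * g * pureGL (fun _ => a)) * (pureGL fun _ => a)⁻¹ = g by
      group] at h4

/-- an element commuting with a root and carrying the base into `M` is a product of isometries -/
theorem UCtx.root_split (h : UCtx σ hσ M) {g : GL (Fin (s + 1) → Fin (n + 3)) F} (hg : g ∈ uT σ hσ n (s + 1))
    (hgb : NormsInto σ hσ M g) {j : Fin (s + 1)} (hc : (g : BMat) * sx j 0 1 = sx j 0 1 * (g : BMat)) :
    ∃ (a : GL (Fin (n + 3)) F) (b : GL (Fin s → Fin (n + 3)) F), a ∈ u1 σ hσ n ∧ b ∈ uT σ hσ n s ∧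
      g = sl j a * embGL j b := by
  classical
  have hcb : ∀ x y, ∃ c : F, ¬ (x = 0 ∧ y = 1) → blk j x y (g : BMat) = c • blk j 0 0 (g : BMat) := fun x y => by
    by_cases hxy : x = 0 ∧ y = 1
    · exact ⟨0, fun hn => absurd hxy hn⟩
    · obtain ⟨c, hc'⟩ := h.blocks hg hgb hc x y hxy; exact ⟨c, fun _ => hc'⟩
  choose α hα using hcb
  obtain ⟨hr, hcl, h11⟩ := root_shape hc
  obtain ⟨hr', hcl', h11'⟩ := root_shape (inv_comm hc)
  set B := blk j 0 0 (g : BMat) with hB
  set B' := blk j 0 0 ((g⁻¹ : GL (Fin (s + 1) → Fin (n + 3)) F) : BMat) with hB'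
  have hBB : B' * B = 1 := by
    have e := sum_blk_mul j 0 0 ((g⁻¹ : GL (Fin (s + 1) → Fin (n + 3)) F) : BMat) (g : BMat)
    rwa [gl_inv_mul, blk_one, if_pos rfl, Finset.sum_eq_single 0 (fun e _ he => by rw [hcl e he, mul_zero]) (by simp)] at e
  let Bu : GL (Fin (s + 1) → Fin (n + 3)) F := ⟨B, B', mul_eq_one_comm.1 hBB, hBB⟩
  have hBc : Cm j B := cm_blk j 0 0 _
  have hBu : Bu ∈ uT σ hσ n (s + 1) := by
    rw [mem_uSub]
    show B * adj σ (sT n (s + 1)) B = 1
    rw [hB, adj_blk, adj_of_mem hg, s1_zero, h11']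
    exact mul_eq_one_comm.1 hBB
  -- the scalar part
  set h₁ := Bu⁻¹ * g with hh₁
  have hh₁u : h₁ ∈ uT σ hσ n (s + 1) := mul_mem (inv_mem hBu) hg
  have hh₁b : ∀ x y, blk j x y (h₁ : BMat) = B' * blk j x y (g : BMat) := fun x y => by
    rw [hh₁, Units.val_mul, blk_left (B := ((Bu⁻¹ : GL (Fin (s + 1) → Fin (n + 3)) F) : BMat))]
    · rfl
    · exact cm_blk j 0 0 _
  have hh₁s : ∀ x y, ¬ (x = 0 ∧ y = 1) → blk j x y (h₁ : BMat) = α x y • 1 := fun x y hxy => by
    rw [hh₁b, hα x y hxy, Matrix.mul_smul, hBB]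
  set C := blk j 0 1 (h₁ : BMat) with hC
  have h100 : blk j 0 0 (h₁ : BMat) = 1 := by rw [hh₁b, hBB]
  have h111 : blk j 1 1 (h₁ : BMat) = 1 := by rw [hh₁b, h11, hBB]
  have h1x0 : ∀ x, x ≠ 0 → blk j x 0 (h₁ : BMat) = 0 := fun x hx => by rw [hh₁b, hcl x hx, mul_zero]
  obtain ⟨q, hq⟩ : ∃ q : F, q = ∑ e ∈ (Finset.univ.erase 0).erase 1, α 0 e * σ (α 0 e) := ⟨_, rfl⟩
  have hCq : C + adj σ (sT n (s + 1)) C + q • 1 = 0 := by
    have e := congrArg (blk j 0 1) (mem_uSub.1 hh₁u)
    rw [blk_one, if_neg (by simp), ← sum_blk_mul] at e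
    have ht : ∀ f, blk j f 1 (adj σ (sT n (s + 1)) (h₁ : BMat)) = adj σ (sT n (s + 1)) (blk j 0 (s1 n f) (h₁ : BMat)) :=
      fun f => by rw [adj_blk, s1_inv, s1_zero]
    simp only [ht] at e
    rw [← Finset.add_sum_erase _ _ (Finset.mem_univ (0 : Fin (n + 3))),
      ← Finset.add_sum_erase _ _ (show (1 : Fin (n + 3)) ∈ Finset.univ.erase 0 by simp), s1_zero, s1_one, h100,
      one_mul, adj_one sT_inv, mul_one, ← hC] at e
    rw [hq, Finset.sum_smul, ← e, add_comm C, add_assoc]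
    congr 1
    congr 1
    refine Finset.sum_congr rfl fun f hf => ?_
    simp only [Finset.mem_erase, Finset.mem_univ, and_true] at hf
    rw [s1_other hf.2 hf.1, hh₁s 0 f (fun e' => hf.1 e'.2), adj_smul, adj_one sT_inv, Matrix.smul_mul, one_mul,
      smul_smul]
  have hqσ : σ q = q := by
    rw [hq, map_sum]
    exact Finset.sum_congr rfl fun e _ => by rw [map_mul, h.sc.invol, mul_comm]
  obtain ⟨ν, hν⟩ := CfsgLib.Perm.Trans.exists_trace (hform_unitary h.sc (s1_inv (n := 0))) (d := -q)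
    (by rw [map_neg, hqσ])
  obtain ⟨Z, hZ⟩ : ∃ Z : BMat, Z = C - ν • (1 : BMat) := ⟨_, rfl⟩
  have hZc : Cm j Z := fun u v => by
    rw [hZ, mul_sub, sub_mul, cm_blk j 0 1 _ u v, Matrix.mul_smul, Matrix.smul_mul, mul_one, one_mul]
  have hZs : adj σ (sT n (s + 1)) Z = -Z := by
    rw [hZ, adj_sub, adj_smul, adj_one sT_inv, eq_neg_iff_add_eq_zero]
    calc adj σ (sT n (s + 1)) C - σ ν • (1 : BMat) + (C - ν • 1)
        = (C + adj σ (sT n (s + 1)) C + q • 1) - (ν + σ ν + q) • 1 := by rw [add_smul, add_smul]; abel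
      _ = 0 := by rw [hCq, hν, neg_add_cancel, zero_smul, sub_zero]
  have hsz : sx j 0 1 * Z * (sx j 0 1 * Z) = 0 := by
    rw [mul_assoc, ← mul_assoc Z, ← hZc 0 1, mul_assoc, ← mul_assoc (sx j 0 1), sx_mul, if_neg (by simp), zero_mul]
  let u : GL (Fin (s + 1) → Fin (n + 3)) F := ⟨1 + sx j 0 1 * Z, 1 - sx j 0 1 * Z,
    by rw [add_mul, one_mul, mul_sub, mul_one, hsz, sub_zero, sub_add_cancel],
    by rw [sub_mul, one_mul, mul_add, mul_one, hsz, add_zero, add_sub_cancel_right]⟩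
  have hu : u ∈ uT σ hσ n (s + 1) := mem_of_one_add (X := sx j 0 1 * Z) rfl hsz (by
    rw [adj_mul sT_inv, hZs, adj_sx, s1_one, s1_zero, neg_mul, hZc])
  obtain ⟨Y, hY⟩ : ∃ Y : Matrix (Fin (n + 3)) (Fin (n + 3)) F,
      ((h₁ * u⁻¹ : GL (Fin (s + 1) → Fin (n + 3)) F) : BMat) = slot j Y := eq_slot_of_blk j fun x y => by
    rw [Units.val_mul]
    have e : (h₁ : BMat) * ((u⁻¹ : GL (Fin (s + 1) → Fin (n + 3)) F) : BMat) = (h₁ : BMat) - sx j 0 1 * Z := by
      show (h₁ : BMat) * (1 - sx j 0 1 * Z) = _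
      rw [mul_sub, mul_one, ← mul_assoc]
      congr 1
      congr 1
      refine ext_blk j fun x y => ?_
      rw [blk_sx_right, blk_sx]
      by_cases hy : y = 1 <;> by_cases hx : x = 0 <;> simp [hx, hy, h100, h1x0]
    rw [e, blk_sub, blk_right hZc, blk_sx]
    by_cases hxy : x = 0 ∧ y = 1
    · rw [if_pos hxy, one_mul, hxy.1, hxy.2, ← hC, hZ, sub_sub_cancel]
      exact ⟨ν, rfl⟩
    · rw [if_neg hxy, zero_mul, sub_zero]
      exact ⟨α x y, hh₁s x y hxy⟩
  obtain ⟨a, ha⟩ := exists_sl (Nat.succ_pos _) hY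
  have hau : a ∈ u1 σ hσ n := (sl_mem_iff j).1 (ha ▸ mul_mem hh₁u (inv_mem hu))
  set K := Bu * sl j a with hK
  have hgK : g = K * u := by rw [hK, ← ha, hh₁]; group
  have hKc : ∀ b : GL (Fin (n + 3)) F, K * sl j b * K⁻¹ = sl j (a * b * a⁻¹) := fun b => by
    have hcom : Bu * sl j (a * b * a⁻¹) = sl j (a * b * a⁻¹) * Bu := Units.ext (by
      rw [Units.val_mul, Units.val_mul, sl_coe]; exact (comm_slot_of_units hBc _).symm)
    rw [hK, _root_.mul_inv_rev, ← mul_assoc, mul_assoc Bu, sl_mul, ← sl_inv, mul_assoc Bu, sl_mul, hcom,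
      mul_inv_cancel_right]
  have hfix : ∀ (b : GL (Fin (n + 3)) F) {X : BMat}, Cm j X → cj (sl j b) X = X := fun b X hX =>
    cj_eq_self (by rw [sl_coe]; exact comm_slot_of_units hX _)
  have hKZ : Cm j (cj K Z) := by
    rw [hK, ← cj_cj, hfix a hZc]
    exact cm_cj (fun p q => cj_eq_self (hBc p q).symm) hZc
  -- the remaining cofactor is scalar
  obtain ⟨z, hz⟩ : ∃ z : F, Z = z • 1 := by
    have back : ∀ {Q : GL (Fin (s + 1) → Fin (n + 3)) F}, (∃ c : F, cj Q Z = c • (1 : BMat)) → ∃ c : F, Z = c • 1 := by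
      rintro Q ⟨c, hc'⟩
      exact ⟨c, cj_injective Q (by rw [hc', cj_smul, cj_one])⟩
    by_cases hnx : ∃ x : Fˣ, (x : F) * σ x ≠ 1
    · obtain ⟨x, hx⟩ := hnx
      set T := sl (t := s + 1) j (tor σ n x) with hT
      have hTM : T ∈ M := h.base j _ (tor_mem x) (tor_det x)
      have hG := hgb j _ (tor_mem (hσ := hσ) x) (tor_det x)
      have hKT := h.base j (a * tor σ n x * a⁻¹) (mul_mem (mul_mem hau (tor_mem x)) (inv_mem hau)) (det_conj (tor_det x))
      obtain ⟨g', hg', hge⟩ : ∃ g' ∈ M, g' = K * (u * T * u⁻¹ * T⁻¹) * K⁻¹ := ⟨_, M.mul_mem hG (M.inv_mem hKT), by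
        rw [← hKc, hgK, hT]; group⟩
      have e : ((u * T * u⁻¹ * T⁻¹ : GL (Fin (s + 1) → Fin (n + 3)) F) : BMat) =
          1 + (1 - (x : F) * σ x) • (sx j 0 1 * Z) := by
        have e1 : cj T (sx j 0 1 * Z) = ((x : F) * σ x) • (sx j 0 1 * Z) := by
          rw [cj_mul, hT, hfix _ hZc, sx, cj_sl_slot, cj_tor hσ, slot_smul, Matrix.smul_mul]
        have e2 : ((u * T * u⁻¹ * T⁻¹ : GL (Fin (s + 1) → Fin (n + 3)) F) : BMat) =
            (u : BMat) * cj T ((u⁻¹ : GL (Fin (s + 1) → Fin (n + 3)) F) : BMat) := by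
          rw [cj, Units.val_mul, Units.val_mul, Units.val_mul, mul_assoc (u : BMat), mul_assoc]
        rw [e2, show ((u⁻¹ : GL (Fin (s + 1) → Fin (n + 3)) F) : BMat) = 1 - sx j 0 1 * Z from rfl, cj_sub, cj_one, e1,
          show (u : BMat) = 1 + sx j 0 1 * Z from rfl, add_mul, one_mul, mul_sub, mul_one, Matrix.mul_smul, hsz,
          smul_zero, sub_zero, sub_smul, one_smul]
        abel
      obtain ⟨c, hc'⟩ := h.scalar (C := (1 - (x : F) * σ x) • cj K Z)
        (fun p q => by rw [Matrix.mul_smul, Matrix.smul_mul, hKZ p q]) ⟨g', hg', by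
          rw [hge, ← cj_coe, e, cj_add, cj_one, cj_smul, cj_mul, Matrix.mul_smul, hK, ← cj_cj Bu (sl j a) (sx j 0 1), sx,
            cj_sl_slot]
          congr 3
          have hea : (a : Matrix (Fin (n + 3)) (Fin (n + 3)) F) *ᵥ Pi.single 0 1 = Pi.single 0 1 := by
            have e5 : ((h₁ * u⁻¹ : GL (Fin (s + 1) → Fin (n + 3)) F) : BMat) = slot j (a : Matrix (Fin (n + 3)) _ F) := by
              rw [ha, sl_coe]
            funext p
            have e6 := congrArg (blk j p 0) e5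
            rw [Units.val_mul, show ((u⁻¹ : GL (Fin (s + 1) → Fin (n + 3)) F) : BMat) = 1 - sx j 0 1 * Z from rfl,
              mul_sub, mul_one, blk_sub, ← mul_assoc, blk_right hZc, blk_sx_right, if_neg (by simp), zero_mul,
              sub_zero, blk_slot] at e6
            rw [mulVec_single_one, Matrix.col_apply, Pi.single_apply]
            split_ifs with hp
            · subst hp
              rw [h100] at e6
              exact (smul_left_injective F one_mat_ne (by simpa using e6)).symm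
            · rw [h1x0 p hp] at e6
              exact (smul_eq_zero.1 e6.symm).resolve_right one_mat_ne
          rw [cj_unit hau, s1_one, hea, dual_single s1_inv, s1_zero, map_one, vmv_single2, one_mul]
          exact cj_eq_self (hBc 0 1).symm⟩
      refine back (Q := K) ⟨(1 - (x : F) * σ x)⁻¹ * c, ?_⟩
      rw [mul_smul, ← hc', smul_smul, inv_mul_cancel₀ (sub_ne_zero.2 (Ne.symm hx)), one_smul]
    · have hn : 1 ≤ n := h.hq.resolve_right fun h4 => hnx (exists_norm_ne_one h.sc h4)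
      have h2 : (2 : F) = 0 := by
        by_contra h2
        push Not at hnx
        have hnorm : ∀ x : F, x ≠ 0 → x * σ x = 1 := fun x hx => hnx (Units.mk0 x hx)
        have h3 : (3 : F) = 0 := by
          have e := hnorm 2 h2
          rw [map_ofNat] at e
          linear_combination e
        obtain ⟨w, hw⟩ := h.sc.exists_unfixed
        have hw0 : w ≠ 0 := fun e => hw (by rw [e, map_zero])
        have e1 := hnorm w hw0
        have hw1 : 1 + w ≠ 0 := fun e => hw (by rw [eq_neg_of_add_eq_zero_right e, map_neg, map_one])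
        have e2 := hnorm _ hw1
        rw [map_add, map_one] at e2
        have : (w - 1) * (w - 1) = 0 := by linear_combination w * e2 - (1 + w) * e1 - w * h3
        exact hw (by rw [sub_eq_zero.1 (mul_self_eq_zero.1 this), map_one])
      obtain ⟨T, hTu, hTd, hTT, hT0⟩ := exists_frame_swap (hσ := hσ) (n := n) h.sc h2 hn
      have hneg : ∀ X : BMat, -X = X := fun X => by
        rw [neg_eq_iff_add_eq_zero, ← two_smul F X, h2, zero_smul]
      set W := sl (t := s + 1) j (wl n F) with hW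
      set P := pureGL (fun _ : Fin (s + 1) => a) with hP
      set Q := P⁻¹ * K with hQ
      have hM' := h.conj_const hau
      set M' := M.comap (MulAut.conj P).toMonoidHom with hM'def
      set y := Q * (u * W * u⁻¹ * W⁻¹) * Q⁻¹ with hy
      have hyM : y ∈ M' := by
        show P * y * P⁻¹ ∈ M
        have hG := hgb j _ (wl_mem (hσ := hσ)) (wl_det (n := n) (F := F))
        have hKW := h.base j (a * wl n F * a⁻¹) (mul_mem (mul_mem hau wl_mem) (inv_mem hau)) (det_conj wl_det)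
        rw [show P * y * P⁻¹ = g * W * g⁻¹ * (sl j (a * wl n F * a⁻¹))⁻¹ by
          rw [← hKc, hgK, hy, hQ, hW]; group]
        exact M.mul_mem hG (M.inv_mem hKW)
      have hQs : ∀ p q, cj Q (sx j p q) = (sx j p q : BMat) := fun p q => by
        have hPi : P⁻¹ = pureGL (fun _ : Fin (s + 1) => a⁻¹) :=
          inv_eq_of_mul_eq_one_right (by rw [hP, pureGL_mul]; simp [funext_iff, pureGL_one, show
            ((fun _ : Fin (s + 1) => a) * fun _ => a⁻¹) = 1 from funext fun _ => mul_inv_cancel a])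
        rw [hQ, hK, ← cj_cj, ← cj_cj, sx, cj_sl_slot,
          cj_eq_self (g := Bu) (X := slot j (cj a (Matrix.single p q 1))) (comm_slot_of_units hBc _).symm, hPi,
          cj_pureGL_slot, cj_cj, inv_mul_cancel]
        simp [cj]
      have hZ2 : Cm j (cj Q Z) := cm_cj hQs hZc
      set Z' := cj Q Z with hZ'
      have hy' : (y : BMat) = 1 + (sx j 0 1 * Z' + sx j 1 0 * Z' + sx j 0 0 * (Z' * Z')) := by
        rw [hy, ← cj_coe]
        have e2 : ((u * W * u⁻¹ * W⁻¹ : GL (Fin (s + 1) → Fin (n + 3)) F) : BMat) =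
            (u : BMat) * cj W ((u⁻¹ : GL (Fin (s + 1) → Fin (n + 3)) F) : BMat) := by
          rw [cj, Units.val_mul, Units.val_mul, Units.val_mul, mul_assoc (u : BMat), mul_assoc]
        have e3 : cj W ((u⁻¹ : GL (Fin (s + 1) → Fin (n + 3)) F) : BMat) = 1 + sx j 1 0 * Z := by
          rw [show ((u⁻¹ : GL (Fin (s + 1) → Fin (n + 3)) F) : BMat) = 1 - sx j 0 1 * Z from rfl, cj_sub, cj_one,
            cj_mul, hW, hfix _ hZc, sx, cj_sl_slot, cj_wl 0 1 (Or.inl rfl) (Or.inr rfl), s1_zero, s1_one,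
            sub_eq_add_neg, hneg]
          rfl
        rw [e2, e3, show (u : BMat) = 1 + sx j 0 1 * Z from rfl, add_mul, one_mul, mul_add, mul_one]
        have e4 : sx j 0 1 * Z * (sx j 1 0 * Z) = sx j 0 0 * (Z * Z) := by
          rw [mul_assoc, ← mul_assoc Z, ← hZc 1 0, mul_assoc (sx j 1 0), ← mul_assoc (sx j 0 1), sx_mul, if_pos rfl]
        rw [e4, cj_add, cj_add, cj_add, cj_one, cj_mul, cj_mul, cj_mul, cj_mul, hQs, hQs, hQs]
        abel
      set T' := sl (t := s + 1) j T with hT'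
      have hT'M : T' ∈ M' := hM'.base j T hTu hTd
      set y' := T' * y * T'⁻¹ with hy''
      have hy'M : y' ∈ M' := M'.mul_mem (M'.mul_mem hT'M hyM) (M'.inv_mem hT'M)
      have hTinv : T⁻¹ = T := inv_eq_of_mul_eq_one_right hTT
      have hpiece : ∀ (p q : Fin (n + 3)) (X : BMat), Cm j X → (p = 0 ∨ p = 1) → (q = 0 ∨ q = 1) →
          ∀ x z, ((x = 0 ∨ x = 1) ∨ (z = 0 ∨ z = 1)) → blk j x z (cj T' (sx j p q * X)) = 0 := by
        intro p q X hX hp hq x z hxz
        rw [cj_mul, hT', hfix _ hX, sx, cj_sl_slot, blk_right hX, blk_slot, cj, hTinv, Matrix.mul_apply,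
          Finset.sum_eq_single q (fun r _ hr => ?_) (by simp)]
        · rw [Matrix.mul_apply, Finset.sum_eq_single p (fun r _ hr => by simp [Ne.symm hr]) (by simp)]
          rcases hxz with hx | hz
          · rw [hT0 x p hx hp, zero_mul, zero_mul, zero_smul, zero_mul]
          · rw [hT0 q z hq hz, mul_zero, zero_smul, zero_mul]
        · rw [Matrix.mul_apply, Finset.sum_eq_zero fun o _ => by simp [Ne.symm hr], zero_mul]
      set W' := cj T' (sx j 0 1 * Z' + sx j 1 0 * Z' + sx j 0 0 * (Z' * Z')) with hW'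
      have hy'e : (y' : BMat) = 1 + W' := by rw [hy'', ← cj_coe, hy', cj_add, cj_one]
      have hZZc : Cm j (Z' * Z') := fun p q => by rw [← mul_assoc, hZ2 p q, mul_assoc, hZ2 p q, ← mul_assoc]
      have hlow : ∀ x z, ((x = 0 ∨ x = 1) ∨ (z = 0 ∨ z = 1)) → blk j x z W' = 0 := fun x z hxz => by
        rw [hW', cj_add, cj_add, blk_add, blk_add, hpiece 0 1 Z' hZ2 (Or.inl rfl) (Or.inr rfl) x z hxz,
          hpiece 1 0 Z' hZ2 (Or.inr rfl) (Or.inl rfl) x z hxz,
          hpiece 0 0 (Z' * Z') hZZc (Or.inl rfl) (Or.inl rfl) x z hxz, add_zero, add_zero]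
      have hy'c : (y' : BMat) * sx j 0 1 = sx j 0 1 * (y' : BMat) := by
        rw [hy'e, add_mul, mul_add, one_mul, mul_one, add_right_inj]
        refine ext_blk j fun x z => ?_
        rw [blk_sx_left, blk_sx_right, hlow x 0 (Or.inr (Or.inl rfl)), hlow 1 z (Or.inl (Or.inr rfl)), ite_self, ite_self]
      obtain ⟨Y', hY'⟩ : ∃ Y' : Matrix (Fin (n + 3)) (Fin (n + 3)) F, W' = slot j Y' := eq_slot_of_blk j fun x z => by
        by_cases hxz : x = 0 ∧ z = 1
        · exact ⟨0, by rw [zero_smul]; exact hlow x z (Or.inl (Or.inl hxz.1))⟩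
        obtain ⟨c, hc'⟩ := hM'.blocks (hM'.le hy'M) (fun i b hb hd =>
          M'.mul_mem (M'.mul_mem hy'M (hM'.base i b hb hd)) (M'.inv_mem hy'M)) hy'c x z hxz
        rw [hy'e, blk_add, blk_add, blk_one, blk_one, if_pos rfl, hlow 0 0 (Or.inl (Or.inl rfl)), add_zero] at hc'
        exact ⟨c - if x = z then 1 else 0, by rw [sub_smul, ← hc']; split_ifs <;> simp⟩
      have hW0 : sx j 0 1 * Z' + sx j 1 0 * Z' + sx j 0 0 * (Z' * Z') = slot j (cj T⁻¹ Y') := by
        refine cj_injective T' ?_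
        rw [hT', cj_sl_slot, cj_cj_inv]
        exact hY'
      have e := congrArg (blk j 0 1) hW0
      rw [blk_add, blk_add, blk_right hZ2, blk_right hZ2, blk_right hZZc, blk_sx, blk_sx, blk_sx, blk_slot,
        if_pos ⟨rfl, rfl⟩, if_neg (by simp), if_neg (by simp), one_mul, zero_mul, zero_mul, add_zero, add_zero] at e
      exact back (Q := Q) ⟨_, e⟩
  have hzσ : σ z = -z := by
    rw [hz, adj_smul, adj_one sT_inv, ← neg_smul] at hZs
    exact smul_left_injective F one_mat_ne hZs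
  have hBc' : ∀ p q, sx j p q * (Bu : BMat) = (Bu : BMat) * sx j p q := hBc
  obtain ⟨b, hb⟩ := exists_embGL j hBc'
  refine ⟨a * rt σ z, b, mul_mem hau (utv_mem hσ _ _ hzσ), (embGL_mem_iff j).1 (hb ▸ hBu), ?_⟩
  have hue : u = sl j (rt σ z) := Units.ext (by
    rw [sl_coe, rt_coe, slot_add, slot_one, slot_smul, show (u : BMat) = 1 + sx j 0 1 * Z from rfl, hz, Matrix.mul_smul,
      mul_one]
    rfl)
  rw [hgK, hK, hue, hb, mul_assoc, sl_mul, ← embGL_comm]

end CfsgLib.Perm.Trans.TensorPowerU
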