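import Cfsg.Agent.Lib.Perm.Trans.TensorPower.Odd

/-!
# Adjoints for a hermitian form with a monomial Gram matrix
-/

set_option autoImplicit false
set_option linter.all false

namespace CfsgLib.Perm.Trans.TensorPowerU

open scoped Matrix
open Matrix Cfsg.Geo CfsgLib.Perm.Asch CfsgLib.Perm.Trans CfsgLib.Perm.Trans.TensorPower

variable {F : Type*} [Field F]

section General

variable {ι : Type} [Fintype ι] [DecidableEq ι]

/-- the adjoint for the form `∑ v x * σ (w (S x))` -/
def adj (σ : F ≃+* F) (S : ι → ι) (X : Matrix ι ι F) : Matrix ι ι F := Matrix.of fun x y => σ (X (S y) (S x))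

variable {σ : F ≃+* F} {S : ι → ι}

omit [Fintype ι] [DecidableEq ι] in
theorem adj_apply (X : Matrix ι ι F) (x y : ι) : adj σ S X x y = σ (X (S y) (S x)) := rfl

omit [Fintype ι] [DecidableEq ι] in
theorem adj_add (X Y : Matrix ι ι F) : adj σ S (X + Y) = adj σ S X + adj σ S Y := by ext; simp [adj_apply]

omit [Fintype ι] [DecidableEq ι] in
theorem adj_sub (X Y : Matrix ι ι F) : adj σ S (X - Y) = adj σ S X - adj σ S Y := by ext; simp [adj_apply]

omit [Fintype ι] [DecidableEq ι] in
theorem adj_neg (X : Matrix ι ι F) : adj σ S (-X) = -adj σ S X := by ext; simp [adj_apply]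

omit [Fintype ι] [DecidableEq ι] in
theorem adj_smul (c : F) (X : Matrix ι ι F) : adj σ S (c • X) = σ c • adj σ S X := by ext; simp [adj_apply]

omit [Fintype ι] [DecidableEq ι] in
theorem adj_zero : adj σ S (0 : Matrix ι ι F) = 0 := by ext; simp [adj_apply]

omit [Fintype ι] in
theorem adj_one (hS : Function.Involutive S) : adj σ S (1 : Matrix ι ι F) = 1 := by
  ext x y
  by_cases h : x = y
  · subst h; simp [adj_apply]
  · simp [adj_apply, Matrix.one_apply_ne h, Matrix.one_apply_ne (fun e => h (hS.injective e).symm)]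

omit [Fintype ι] [DecidableEq ι] in
theorem adj_adj (hσ : ∀ a, σ (σ a) = a) (hS : Function.Involutive S) (X : Matrix ι ι F) : adj σ S (adj σ S X) = X := by
  ext x y
  rw [adj_apply, adj_apply, hσ, hS, hS]

omit [DecidableEq ι] in
theorem adj_mul (hS : Function.Involutive S) (X Y : Matrix ι ι F) : adj σ S (X * Y) = adj σ S Y * adj σ S X := by
  ext x y
  rw [adj_apply, Matrix.mul_apply, Matrix.mul_apply, map_sum]
  refine Fintype.sum_equiv hS.toPerm _ _ fun z => ?_
  rw [adj_apply, adj_apply, map_mul, Function.Involutive.coe_toPerm, hS]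
  ring

omit [Fintype ι] [DecidableEq ι] in
theorem adj_single [DecidableEq ι] (hS : Function.Involutive S) (a b : ι) (c : F) :
    adj σ S (Matrix.single a b c) = Matrix.single (S b) (S a) (σ c) := by
  ext x y
  rw [adj_apply, Matrix.single_apply, Matrix.single_apply, apply_ite σ, map_zero]
  refine if_congr ⟨fun h => ⟨by rw [h.2, hS], by rw [h.1, hS]⟩, fun h => ⟨by rw [← h.2, hS], by rw [← h.1, hS]⟩⟩ rfl rfl

/-- the adjoint of the vector of a pairing -/
def dual (σ : F ≃+* F) (S : ι → ι) (u : ι → F) : ι → F := fun x => σ (u (S x))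

omit [Fintype ι] [DecidableEq ι] in
theorem adj_vecMulVec (hσ : ∀ a, σ (σ a) = a) (hS : Function.Involutive S) (u w : ι → F) :
    adj σ S (vecMulVec u (dual σ S w)) = vecMulVec w (dual σ S u) := by
  ext x y
  rw [adj_apply, vecMulVec_apply, vecMulVec_apply, dual, dual, map_mul, hσ, hS]
  ring

omit [Fintype ι] [DecidableEq ι] in
theorem dual_add (u w : ι → F) : dual σ S (u + w) = dual σ S u + dual σ S w := funext fun x => map_add σ _ _

omit [Fintype ι] [DecidableEq ι] in
theorem dual_smul (c : F) (u : ι → F) : dual σ S (c • u) = σ c • dual σ S u := funext fun x => map_mul σ _ _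

omit [Fintype ι] in
theorem dual_single (hS : Function.Involutive S) (a : ι) (c : F) :
    dual σ S (Pi.single a c) = Pi.single (S a) (σ c) := by
  funext x
  rw [dual, Pi.single_apply, Pi.single_apply, apply_ite σ, map_zero]
  exact if_congr ⟨fun h => by rw [← h, hS], fun h => by rw [h, hS]⟩ rfl rfl

omit [DecidableEq ι] in
theorem dual_dot_dual (hσ : ∀ a, σ (σ a) = a) (hS : Function.Involutive S) (u w : ι → F) :
    σ (dual σ S u ⬝ᵥ w) = dual σ S w ⬝ᵥ u := by
  rw [dotProduct, dotProduct, map_sum]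
  refine Fintype.sum_equiv hS.toPerm _ _ fun x => ?_
  rw [dual, dual, map_mul, hσ, Function.Involutive.coe_toPerm, hS]
  ring

omit [DecidableEq ι] in
theorem dual_mulVec (hσ : ∀ a, σ (σ a) = a) (hS : Function.Involutive S) (X : Matrix ι ι F) (u : ι → F) :
    dual σ S (X *ᵥ u) = dual σ S u ᵥ* adj σ S X := by
  funext y
  rw [dual, mulVec, vecMul, dotProduct, dotProduct, map_sum]
  refine Fintype.sum_equiv hS.toPerm _ _ fun z => ?_
  rw [dual, adj_apply, map_mul, Function.Involutive.coe_toPerm, hS]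
  ring

/-- the isometries -/
def uSub (σ : F ≃+* F) (S : ι → ι) (hσ : ∀ a, σ (σ a) = a) (hS : Function.Involutive S) : Subgroup (GL ι F) where
  carrier := {g | (g : Matrix ι ι F) * adj σ S (g : Matrix ι ι F) = 1}
  one_mem' := by show (1 : GL ι F).val * _ = 1; rw [Units.val_one, adj_one hS, one_mul]
  mul_mem' := by
    intro a b ha hb
    show (a * b : GL ι F).val * adj σ S (a * b : GL ι F).val = 1
    rw [Units.val_mul, adj_mul hS, mul_assoc, ← mul_assoc (b : Matrix ι ι F), hb, one_mul, ha]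
  inv_mem' := by
    intro a ha
    have h1 : adj σ S (a : Matrix ι ι F) = ((a⁻¹ : GL ι F) : Matrix ι ι F) := by
      have := congrArg (((a⁻¹ : GL ι F) : Matrix ι ι F) * ·) ha
      simpa only [← mul_assoc, gl_inv_mul, one_mul, mul_one] using this
    show ((a⁻¹ : GL ι F) : Matrix ι ι F) * adj σ S ((a⁻¹ : GL ι F) : Matrix ι ι F) = 1
    rw [← h1, adj_adj hσ hS, h1, gl_inv_mul]

variable {hσ : ∀ a, σ (σ a) = a} {hS : Function.Involutive S}

theorem mem_uSub {g : GL ι F} : g ∈ uSub σ S hσ hS ↔ (g : Matrix ι ι F) * adj σ S (g : Matrix ι ι F) = 1 := Iff.rfl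

theorem adj_of_mem {g : GL ι F} (hg : g ∈ uSub σ S hσ hS) :
    adj σ S (g : Matrix ι ι F) = ((g⁻¹ : GL ι F) : Matrix ι ι F) := by
  have := congrArg (((g⁻¹ : GL ι F) : Matrix ι ι F) * ·) (mem_uSub.1 hg)
  simpa only [← mul_assoc, gl_inv_mul, one_mul, mul_one] using this

theorem adj_cj {g : GL ι F} (hg : g ∈ uSub σ S hσ hS) (X : Matrix ι ι F) :
    adj σ S (cj g X) = cj g (adj σ S X) := by
  rw [cj, cj, adj_mul hS, adj_mul hS, ← adj_of_mem hg, adj_adj hσ hS, mul_assoc]

/-- the skew adjoint condition of a square-zero element -/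
theorem adj_of_one_add {g : GL ι F} {X : Matrix ι ι F} (hg : g ∈ uSub σ S hσ hS) (he : (g : Matrix ι ι F) = 1 + X)
    (hX : X * X = 0) : adj σ S X = -X := by
  have h := adj_of_mem hg
  rw [he, adj_add, adj_one hS, inv_one_add he hX, sub_eq_add_neg, add_right_inj] at h
  exact h

theorem mem_of_one_add {g : GL ι F} {X : Matrix ι ι F} (he : (g : Matrix ι ι F) = 1 + X)
    (hX : X * X = 0) (hθ : adj σ S X = -X) : g ∈ uSub σ S hσ hS := by
  rw [mem_uSub, he, adj_add, adj_one hS, hθ, ← sub_eq_add_neg, add_mul, one_mul, mul_sub, mul_one, hX, sub_zero,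
    sub_add_cancel]

end General

/-! ### the coordinates of a tensor power -/

variable {n t : ℕ}

/-- a hyperbolic pair followed by orthonormal vectors -/
def s1 (n : ℕ) : Fin (n + 3) → Fin (n + 3) := Equiv.swap 0 1

/-- the same in every factor -/
def sT (n t : ℕ) : (Fin t → Fin (n + 3)) → (Fin t → Fin (n + 3)) := fun x l => s1 n (x l)

theorem s1_inv : Function.Involutive (s1 n) := fun x => Equiv.swap_apply_self _ _ x

theorem sT_inv : Function.Involutive (sT n t) := fun x => funext fun l => s1_inv (x l)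

theorem s1_zero : s1 n 0 = 1 := Equiv.swap_apply_left _ _

theorem s1_one : s1 n 1 = 0 := Equiv.swap_apply_right _ _

theorem s1_other {a : Fin (n + 3)} (h0 : a ≠ 0) (h1 : a ≠ 1) : s1 n a = a := Equiv.swap_apply_of_ne_of_ne h0 h1

variable {σ : F ≃+* F}

theorem adj_pure (A : Fin t → Matrix (Fin (n + 3)) (Fin (n + 3)) F) :
    adj σ (sT n t) (CfsgLib.Perm.Asch.pure A) = CfsgLib.Perm.Asch.pure (fun l => adj σ (s1 n) (A l)) := by
  ext x y
  rw [adj_apply, pure_apply, pure_apply, map_prod]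
  rfl

theorem adj_slot (i : Fin t) (X : Matrix (Fin (n + 3)) (Fin (n + 3)) F) :
    adj σ (sT n t) (slot i X) = slot i (adj σ (s1 n) X) := by
  rw [slot, slot, adj_pure]
  congr 1
  funext l
  rcases eq_or_ne l i with rfl | hl
  · simp
  · simp [Pi.mulSingle_eq_of_ne hl, adj_one s1_inv]

theorem adj_sx (i : Fin t) (a b : Fin (n + 3)) :
    adj σ (sT n t) (sx i a b) = sx i (s1 n b) (s1 n a) := by
  rw [sx, sx, adj_slot, adj_single s1_inv, map_one]

theorem adj_permMat (π : Equiv.Perm (Fin t)) :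
    adj σ (sT n t) (permMat π : Matrix (Fin t → Fin (n + 3)) _ F) = permMat π⁻¹ := by
  ext x y
  rw [adj_apply, permMat, permMat, Matrix.of_apply, Matrix.of_apply, apply_ite σ, map_one, map_zero]
  refine if_congr ⟨fun h => funext fun l => ?_, fun h => funext fun l => ?_⟩ rfl rfl
  · have := congrArg (s1 n) (congrFun h (π⁻¹ l))
    simpa [sT, s1_inv _] using this.symm
  · have := congrArg (s1 n) (congrFun h (π l))
    simpa [sT, s1_inv _] using this.symm

variable (σ) (hσ : ∀ a, σ (σ a) = a)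

/-- the isometries of one factor -/
abbrev u1 (n : ℕ) : Subgroup (GL (Fin (n + 3)) F) := uSub σ (s1 n) hσ s1_inv

/-- the isometries of the tensor power -/
abbrev uT (n t : ℕ) : Subgroup (GL (Fin t → Fin (n + 3)) F) := uSub σ (sT n t) hσ sT_inv

variable {σ hσ}

theorem pureGL_mem_uT {A : Fin t → GL (Fin (n + 3)) F} (hA : ∀ l, A l ∈ u1 σ hσ n) : pureGL A ∈ uT σ hσ n t := by
  rw [mem_uSub, pureGL_coe, adj_pure, pure_mul, ← pure_one]
  congr 1
  funext l
  exact mem_uSub.1 (hA l)

theorem sl_mem_uT (i : Fin t) {a : GL (Fin (n + 3)) F} (ha : a ∈ u1 σ hσ n) : sl i a ∈ uT σ hσ n t := by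
  rw [mem_uSub, sl_coe, adj_slot, slot_mul, mem_uSub.1 ha]
  exact slot_one i

theorem sl_mem_iff (i : Fin t) {a : GL (Fin (n + 3)) F} : sl i a ∈ uT σ hσ n t ↔ a ∈ u1 σ hσ n := by
  refine ⟨fun h => ?_, sl_mem_uT i⟩
  rw [mem_uSub, sl_coe, adj_slot, slot_mul, ← slot_one i] at h
  haveI : Nonempty (Fin (n + 3)) := ⟨0⟩
  exact slot_injective i h

theorem permGL_mem_uT (π : Equiv.Perm (Fin t)) : (permGL π : GL (Fin t → Fin (n + 3)) F) ∈ uT σ hσ n t := by
  rw [mem_uSub, permGL_coe, adj_permMat, ← permGL_coe π, ← permGL_coe π⁻¹, ← Units.val_mul, permGL_mul, mul_inv_cancel,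
    permGL_one, Units.val_one]

end CfsgLib.Perm.Trans.TensorPowerU
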