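import Cfsg.Agent.Lib.Perm.Trans.TensorPowerU.TwoPair
import Cfsg.Agent.Lib.Perm.Trans.TensorPower.TwoMain

/-!
# Characteristic two: the overgroup lies in the wreath subgroup
-/

set_option autoImplicit false
set_option linter.all false

namespace CfsgLib.Perm.Trans.TensorPowerU

open scoped Matrix
open Matrix Cfsg.Geo CfsgLib.Perm.Asch CfsgLib.Perm.Trans CfsgLib.Perm.Trans.TensorPower

variable {F : Type*} [Field F] {σ : F ≃+* F} {n s t : ℕ} {hσ : ∀ a, σ (σ a) = a}

theorem sw_utv (h2 : (2 : F) = 0) {a b : Fin (n + 3)} (hab : a ≠ b) (hS : (a = 0 ∧ b = 1) ∨ (2 ≤ a.1 ∧ 2 ≤ b.1)) :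
    IsUTv σ (sw h2 a b hab) := by
  set u : Fin (n + 3) → F := Pi.single a 1 + Pi.single b 1 with hu
  have hdu : dual σ (s1 n) u = u := by
    rw [hu, dual_add, dual_single s1_inv, dual_single s1_inv, map_one]
    rcases hS with ⟨rfl, rfl⟩ | ⟨ha, hb⟩
    · rw [s1_zero, s1_one]; exact add_comm (Pi.single (1 : Fin (n + 3)) (1 : F) : Fin (n + 3) → F) _
    · have ho : ∀ {x : Fin (n + 3)}, 2 ≤ x.1 → x ≠ 0 ∧ x ≠ 1 := fun {x} hx =>
        ⟨fun e => by simp [e] at hx, fun e => by simp [e] at hx⟩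
      rw [s1_other (ho ha).1 (ho ha).2, s1_other (ho hb).1 (ho hb).2]
  have hu0 : u ≠ 0 := fun e => by
    have := congrFun e a
    simp [hu, hab, Pi.single_apply] at this
  have huu : dual σ (s1 n) u ⬝ᵥ u = 0 := by
    rw [hdu, hu]
    simp [dotProduct_add, add_dotProduct, hab, hab.symm]
    rw [one_add_one_eq_two, h2]
  refine ⟨u, huu, 1, hu0, one_ne_zero, by rw [map_one, neg_eq_of_two h2], Units.ext ?_⟩
  rw [utv_coe, sw, tv_coe, one_smul, hdu]

theorem vc_utv (h2 : (2 : F) = 0) {l : Fin t} (h : ¬(n + 3 = 4 ∧ l.1 + 1 = t)) :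
    IsUTv σ (vc (m := n + 3) (by omega) h2 l) := by
  rw [vc, dif_neg h]
  exact sw_utv h2 _ (Or.inl ⟨rfl, rfl⟩)

theorem vc_mem (h2 : (2 : F) = 0) (l : Fin t) : vc (m := n + 3) (by omega) h2 l ∈ u1 σ hσ n := by
  by_cases h : n + 3 = 4 ∧ l.1 + 1 = t
  · rw [vc, dif_pos h, dsw]
    exact mul_mem ((sw_utv h2 _ (Or.inl ⟨rfl, rfl⟩)).u1_mem hσ)
      ((sw_utv h2 _ (Or.inr ⟨le_rfl, (show 2 ≤ 3 by omega)⟩)).u1_mem hσ)
  · exact (vc_utv h2 h).u1_mem hσ

/-- an involutive similitude is an isometry -/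
theorem sim_inv_mem (h2 : (2 : F) = 0) {B A : GL (Fin (n + 3)) F} {ν c : F}
    (hν : σ ν = ν) (hc : c ≠ 0) (hA : A * A = 1)
    (hBA : (B : Matrix (Fin (n + 3)) (Fin (n + 3)) F) = c • (A : Matrix (Fin (n + 3)) (Fin (n + 3)) F))
    (hB : (B : Matrix (Fin (n + 3)) (Fin (n + 3)) F) * adj σ (s1 n) (B : Matrix (Fin (n + 3)) (Fin (n + 3)) F) = ν • 1) :
    A ∈ u1 σ hσ n := by
  rw [hBA, adj_smul, Matrix.smul_mul, Matrix.mul_smul, smul_smul] at hB
  obtain ⟨μ, hμ⟩ : ∃ μ : F, μ = ν / (c * σ c) := ⟨_, rfl⟩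
  have hcc : c * σ c ≠ 0 := mul_ne_zero hc (by simpa using hc)
  have h1 : (A : Matrix (Fin (n + 3)) (Fin (n + 3)) F) * adj σ (s1 n) (A : Matrix (Fin (n + 3)) (Fin (n + 3)) F) = μ • 1 := by
    have := congrArg ((c * σ c)⁻¹ • ·) hB
    simp only [smul_smul, inv_mul_cancel₀ hcc, one_smul] at this
    rw [this, hμ, div_eq_mul_inv, mul_comm]
  have hAA : (A : Matrix (Fin (n + 3)) (Fin (n + 3)) F) * (A : Matrix (Fin (n + 3)) (Fin (n + 3)) F) = 1 := by
    rw [← Units.val_mul, hA, Units.val_one]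
  have h3 : adj σ (s1 n) (A : Matrix (Fin (n + 3)) (Fin (n + 3)) F) = μ • (A : Matrix (Fin (n + 3)) (Fin (n + 3)) F) := by
    have := congrArg ((A : Matrix (Fin (n + 3)) (Fin (n + 3)) F) * ·) h1
    simpa only [← mul_assoc, hAA, one_mul, Matrix.mul_smul, mul_one] using this
  have hμσ : σ μ = μ := by rw [hμ, map_div₀, map_mul, hν, hσ, mul_comm (σ c)]
  have h4 := congrArg (adj σ (s1 n)) h3
  rw [adj_adj hσ s1_inv, adj_smul, h3, smul_smul, hμσ] at h4
  have h5 : μ * μ = 1 := by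
    have hA0 : (A : Matrix (Fin (n + 3)) (Fin (n + 3)) F) ≠ 0 := gl_ne_zero A
    exact smul_left_injective F hA0 (h4.symm.trans (one_smul F _).symm)
  rw [mem_uSub, h1, eq_one_of_mul_self h2 h5, one_smul]

variable [Fintype F] {M : Subgroup (GL (Fin (s + 1) → Fin (n + 3)) F)}

local notation "BMat" => Matrix (Fin (s + 1) → Fin (n + 3)) (Fin (s + 1) → Fin (n + 3)) F

theorem UCtx.pv_mem (h : UCtx σ hσ M) (h2 : (2 : F) = 0) :
    pureGL (fun l : Fin (s + 1) => vc (m := n + 3) (by omega) h2 l) ∈ M :=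
  h.base.pure_mem _ (fun l => vc_mem h2 l) fun l => vc_det (by omega) h2 l

/-- the centraliser of the chosen element -/
theorem UCtx.vc_centraliser (h : UCtx σ hσ M) (hin : InnerU σ hσ n s) (h2 : (2 : F) = 0) (hs : 1 ≤ s)
    {k : GL (Fin (s + 1) → Fin (n + 3)) F} (hk : k ∈ M)
    (hkz : k * pureGL (fun l => vc (m := n + 3) (by omega) h2 l) = pureGL (fun l => vc (m := n + 3) (by omega) h2 l) * k) :
    k ∈ tensorWreathStandard (n + 3) (s + 1) F := by
  have hm : 3 ≤ n + 3 := by omega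
  let i : Fin (s + 1) := ⟨s, by omega⟩
  let j : Fin (s + 1) := ⟨0, by omega⟩
  have hj : ¬(n + 3 = 4 ∧ j.1 + 1 = s + 1) := by simp [j]; omega
  obtain ⟨b'', hb'', hcom, hne⟩ := exists_commuting_utv (hσ := hσ) h.sc h.hq h2 (vc_mem h2 i) (vc_sq hm h2 i)
  refine h.gen_two hin h2 (fun l => vc_sq hm h2 l) (h.pv_mem h2) (i := i) (j := j)
    (by simp [i, j, Fin.ext_iff]; omega) hb'' (vc_utv h2 hj) hcom rfl hne ?_ hk hkz
  rw [vc_sq, Units.val_one, sub_self, Matrix.rank_zero]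
  exact sub_one_ne hne

/-- a two-subgroup containing the chosen element lies in the wreath subgroup -/
theorem UCtx.pv_le (h : UCtx σ hσ M) (hin : InnerU σ hσ n s) (h2 : (2 : F) = 0) (hs : 1 ≤ s)
    {Q : Subgroup (GL (Fin (s + 1) → Fin (n + 3)) F)} (hQ : IsPGroup 2 Q) (hQM : Q ≤ M)
    (hvQ : pureGL (fun l => vc (m := n + 3) (by omega) h2 l) ∈ Q) : Q ≤ tensorWreathStandard (n + 3) (s + 1) F := by
  classical
  have hm : 3 ≤ n + 3 := by omega
  haveI : Fact (Nat.Prime 2) := ⟨Nat.prime_two⟩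
  haveI := hQ.isNilpotent
  set v := pureGL (fun l => vc (m := n + 3) hm h2 l) with hv
  set H : Subgroup Q := (tensorWreathStandard (n + 3) (s + 1) F).subgroupOf Q with hH
  by_cases htop : H = ⊤
  · exact Subgroup.subgroupOf_eq_top.1 htop
  exfalso
  have hlt := Group.normalizerCondition_of_isNilpotent H (lt_top_iff_ne_top.2 htop)
  obtain ⟨k, hn, hnH⟩ := SetLike.exists_of_lt hlt
  have h1 : k * ⟨v, hvQ⟩ * k⁻¹ ∈ H :=
    (Subgroup.mem_normalizer_iff.1 hn ⟨v, hvQ⟩).1 (show v ∈ tensorWreathStandard (n + 3) (s + 1) F from pure_mem_tw _)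
  obtain ⟨π, B, hw⟩ := tw_shape (show (k : GL (Fin (s + 1) → Fin (n + 3)) F) * v *
    (k : GL (Fin (s + 1) → Fin (n + 3)) F)⁻¹ ∈ _ from h1)
  set g : GL (Fin (s + 1) → Fin (n + 3)) F := (k : GL (Fin (s + 1) → Fin (n + 3)) F) with hg
  have hgM : g ∈ M := hQM k.2
  have hvv : v * v = 1 := pure_sq_one fun l => vc_sq hm h2 l
  have hww : permGL π * pureGL B * (permGL π * pureGL B) = 1 := by
    rw [← hw, show g * v * g⁻¹ * (g * v * g⁻¹) = g * (v * v) * g⁻¹ by group, hvv]; group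
  have hπ : π * π = 1 := by
    have hp : HasPerm (permGL π * pureGL B * (permGL π * pureGL B)) (π * π) := HasPerm.mul ⟨B, rfl⟩ ⟨B, rfl⟩
    rw [hww, ← pureGL_one] at hp
    exact hp.unique (by omega) (hasPerm_pure 1)
  by_cases hfix : ∃ f, π f = f
  · obtain ⟨f, hf⟩ := hfix
    have hsq : pureGL ((B ∘ π) * B) = (1 : GL (Fin (s + 1) → Fin (n + 3)) F) := by
      rwa [mul_assoc, ← mul_assoc (pureGL B), pureGL_perm, ← mul_assoc, ← mul_assoc, permGL_mul, hπ, permGL_one,
        one_mul, pureGL_mul] at hww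
    have h3 := congrArg Units.val (hsq.trans pureGL_one.symm)
    rw [pureGL_coe, pureGL_coe] at h3
    obtain ⟨c, hc0, hc⟩ := pure_prop h3 (fun k => gl_ne_zero _) (fun k => gl_ne_zero _) f
    simp only [Pi.mul_apply, Function.comp_apply, hf, Units.val_mul, Pi.one_apply, Units.val_one] at hc
    obtain ⟨s', A', hs', hA', hBA⟩ := exists_involutive h2 hc0 hc
    obtain ⟨ν, -, hνσ, hνB⟩ := exists_sim (hσ := hσ)
      (hw ▸ h.le (M.mul_mem (M.mul_mem hgM (h.pv_mem h2)) (M.inv_mem hgM))) f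
    obtain ⟨b, hb, hcom, -⟩ := exists_commuting_utv (hσ := hσ) h.sc h.hq h2
      (sim_inv_mem h2 hνσ hs' hA' hBA hνB) hA'
    have hroot : IsURoot σ (sl f b : GL (Fin (s + 1) → Fin (n + 3)) F) := hb.root f
    have hcm : permGL π * pureGL B * sl f b = sl f b * (permGL π * pureGL B) := by
      refine wreath_comm fun l => ?_
      rcases eq_or_ne l f with rfl | hl
      · rw [hf, Pi.mulSingle_eq_same]
        refine Units.ext ?_
        have h4 := congrArg Units.val hcom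
        rw [Units.val_mul, Units.val_mul] at h4
        rw [Units.val_mul, Units.val_mul, hBA, Matrix.smul_mul, Matrix.mul_smul, h4]
      · have hl' : π l ≠ f := fun e => hl (π.injective (e.trans hf.symm))
        rw [Pi.mulSingle_eq_of_ne hl, Pi.mulSingle_eq_of_ne hl', one_mul, mul_one]
    rw [← hw] at hcm
    have hc' : g⁻¹ * sl f b * g * v = v * (g⁻¹ * sl f b * g) := by
      calc g⁻¹ * sl f b * g * v = g⁻¹ * (sl f b * (g * v * g⁻¹)) * g := by group
        _ = g⁻¹ * (g * v * g⁻¹ * sl f b) * g := by rw [hcm]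
        _ = v * (g⁻¹ * sl f b * g) := by group
    have htw := h.vc_centraliser hin h2 hs (M.mul_mem (M.mul_mem (M.inv_mem hgM) (hroot.mem h.base)) hgM) hc'
    have hgi : g⁻¹ ∈ tensorWreathStandard (n + 3) (s + 1) F :=
      h.fusion hin hroot (M.inv_mem hgM) (h.cls hin hroot (M.inv_mem hgM) (by rwa [inv_inv]))
    exact hnH ((Subgroup.inv_mem_iff _).1 hgi)
  · push Not at hfix
    obtain ⟨N, hN, h3, h4, h5⟩ := vc_rank (t := s + 1) hm h2
    obtain ⟨N', hN', hN'u, hN'l⟩ := perm_rank (F := F) (show 0 < n + 3 by omega) (show 0 < s + 1 by omega) h2 hπ hfix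
    have hrk : (((g * v * g⁻¹ : GL (Fin (s + 1) → Fin (n + 3)) F) : BMat) - 1).rank =
        ((v : GL (Fin (s + 1) → Fin (n + 3)) F).val - 1).rank := by
      rw [← cj_coe, ← cj_one g, ← cj_sub, rank_cj, cj_one]
    rw [hw, rank_free (by omega) h2 hπ hfix hww] at hrk
    rw [hrk] at hN'
    have hNN : N' = N := by rw [hv] at hN'; omega
    subst hNN
    rcases Nat.lt_or_ge (n + 3) 5 with hm5 | hm5
    · rcases (show n + 3 = 3 ∨ n + 3 = 4 by omega) with hm3 | hm4
      · have := h3 hm3; omega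
      · have := h4 hm4 (by omega); omega
    · rw [h5 hm5, ← mul_pow] at hN'u
      have hlt : n + 3 < (n + 3 - 2) * (n + 3 - 2) := by
        obtain ⟨d, rfl⟩ : ∃ d, n = d + 2 := ⟨n - 2, by omega⟩
        rw [show d + 2 + 3 - 2 = d + 3 by omega]
        nlinarith
      exact absurd hN'u (not_le.2 (Nat.pow_lt_pow_left hlt (by omega)))

/-- the involution attached to a root of one factor and the chosen element -/
theorem UCtx.twist_centraliser (h : UCtx σ hσ M) (hin : InnerU σ hσ n s) (h2 : (2 : F) = 0) (hs : 1 ≤ s)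
    {k : Fin (s + 1)} {b' : GL (Fin (n + 3)) F} (hb' : IsUTv σ b')
    (hc : vc (by omega) h2 k * b' = b' * vc (by omega) h2 k) {y : GL (Fin (s + 1) → Fin (n + 3)) F} (hy : y ∈ M)
    (hyz : y * (pureGL (fun l => vc (m := n + 3) (by omega) h2 l) * sl k b') =
      pureGL (fun l => vc (m := n + 3) (by omega) h2 l) * sl k b' * y) :
    y ∈ tensorWreathStandard (n + 3) (s + 1) F := by
  classical
  have hm : 3 ≤ n + 3 := by omega
  set A := Function.update (fun l => vc (m := n + 3) hm h2 l) k (vc hm h2 k * b') with hAdef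
  rw [pureGL_mul_sl] at hyz
  have hA : ∀ l, A l * A l = 1 := fun l => by
    rcases eq_or_ne l k with rfl | hl
    · rw [hAdef, Function.update_self, show vc hm h2 l * b' * (vc hm h2 l * b') = vc hm h2 l * (b' * vc hm h2 l) * b' by
        group, ← hc, show vc hm h2 l * (vc hm h2 l * b') * b' = vc hm h2 l * vc hm h2 l * (b' * b') by group, vc_sq,
        hb'.isTv.sq h2, one_mul]
    · rw [hAdef, Function.update_of_ne hl]; exact vc_sq hm h2 l
  have hAu : ∀ l, A l ∈ u1 σ hσ n := fun l => by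
    rcases eq_or_ne l k with rfl | hl
    · rw [hAdef, Function.update_self]; exact mul_mem (vc_mem h2 l) (hb'.u1_mem hσ)
    · rw [hAdef, Function.update_of_ne hl]; exact vc_mem h2 l
  have hAM : pureGL A ∈ M := h.base.pure_mem A hAu fun l => by
    rcases eq_or_ne l k with rfl | hl
    · rw [hAdef, Function.update_self, Units.val_mul, Matrix.det_mul, vc_det, hb'.isTv.det, mul_one]
    · rw [hAdef, Function.update_of_ne hl]; exact vc_det hm h2 l
  by_cases hex : ∃ j : Fin (s + 1), j ≠ k ∧ ¬(n + 3 = 4 ∧ j.1 + 1 = s + 1)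
  · obtain ⟨j, hjk, hj⟩ := hex
    haveI : Nontrivial (Fin (s + 1)) := Fin.nontrivial_iff_two_le.2 (by omega)
    obtain ⟨i, hij⟩ := exists_ne j
    obtain ⟨b'', hb'', hcom, hne⟩ := exists_commuting_utv (hσ := hσ) h.sc h.hq h2 (hAu i) (hA i)
    have hAj : A j = vc hm h2 j := by rw [hAdef, Function.update_of_ne hjk]
    refine h.gen_two hin h2 hA hAM hij hb'' (vc_utv h2 hj) hcom (by rw [hAj]) hne ?_ hy hyz
    rw [hAj, vc_sq, Units.val_one, sub_self, Matrix.rank_zero]
    exact sub_one_ne hne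
  · push Not at hex
    let j : Fin (s + 1) := if k.1 = 0 then ⟨1, by omega⟩ else ⟨0, by omega⟩
    have hjk : j ≠ k := by
      simp only [j]
      split_ifs with h0 <;> simp [Fin.ext_iff] <;> omega
    obtain ⟨hm4, hj⟩ := hex j hjk
    have hk : ¬(n + 3 = 4 ∧ k.1 + 1 = s + 1) := by
      rintro ⟨-, hk⟩
      exact hjk (Fin.ext (by omega))
    obtain rfl : n = 1 := by omega
    set u : Fin (1 + 3) → F := fun _ => 1 with hu
    have hdu : dual σ (s1 1) u = u := funext fun x => map_one σ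
    have h11 : (1 : F) + 1 = 0 := by rw [one_add_one_eq_two, h2]
    have huu : dual σ (s1 1) u ⬝ᵥ u = 0 := by
      rw [hdu, hu]
      simp [dotProduct, Fin.sum_univ_four]
      linear_combination (2 : F) * h2
    have hb : IsUTv σ (utv σ u huu 1) := ⟨u, huu, 1, fun e => by
      have := congrFun e 0
      simp [hu] at this, one_ne_zero, by rw [map_one, neg_eq_of_two h2], rfl⟩
    set b := utv σ u huu 1 with hbdef
    have hAj : A j = dsw h2 (le_refl 4) := by
      rw [hAdef, Function.update_of_ne hjk, vc, dif_pos ⟨rfl, hj⟩]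
    set Q : Matrix (Fin (1 + 3)) (Fin (1 + 3)) F := !![0, 1, 0, 0; 1, 0, 0, 0; 0, 0, 0, 1; 0, 0, 1, 0] with hQdef
    set J : Matrix (Fin (1 + 3)) (Fin (1 + 3)) F := !![1, 1, 1, 1; 1, 1, 1, 1; 1, 1, 1, 1; 1, 1, 1, 1] with hJdef
    have hQ : (A j : Matrix (Fin (1 + 3)) (Fin (1 + 3)) F) = Q := by
      rw [hAj, dsw, Units.val_mul, sw_coe, sw_coe, pm_mul, hQdef]
      rw [show ((Equiv.swap (⟨2, by omega⟩ : Fin 4) ⟨3, by omega⟩ : Fin 4 → Fin 4) ∘
        (Equiv.swap (⟨0, by omega⟩ : Fin 4) ⟨1, by omega⟩ : Fin 4 → Fin 4)) = ![1, 0, 3, 2] from by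
          funext x; fin_cases x <;> rfl]
      ext x y
      fin_cases x <;> fin_cases y <;> simp [pm]
    have hbJ : (b : Matrix (Fin (1 + 3)) (Fin (1 + 3)) F) = 1 + J := by
      rw [hbdef, utv_coe, one_smul, hdu, hu, hJdef]
      congr 1
      ext x y
      fin_cases x <;> fin_cases y <;> simp [vecMulVec_apply]
    have hQJ : Q * J = J := by
      rw [hQdef, hJdef]
      ext x y
      fin_cases x <;> fin_cases y <;> simp [Matrix.mul_apply, Fin.sum_univ_four]
    have hJQ : J * Q = J := by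
      rw [hQdef, hJdef]
      ext x y
      fin_cases x <;> fin_cases y <;> simp [Matrix.mul_apply, Fin.sum_univ_four]
    have hcj : A j * b = b * A j := Units.ext (by
      rw [Units.val_mul, Units.val_mul, hQ, hbJ, mul_add, mul_one, hQJ, add_mul, one_mul, hJQ])
    have hQb : ((A j * b : GL (Fin (1 + 3)) F) : Matrix (Fin (1 + 3)) (Fin (1 + 3)) F) =
        !![1, 0, 1, 1; 0, 1, 1, 1; 1, 1, 1, 0; 1, 1, 0, 1] := by
      rw [Units.val_mul, hQ, hbJ, mul_add, mul_one, hQJ, hQdef, hJdef]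
      ext x y
      fin_cases x <;> fin_cases y <;> simp [h11]
    have hAk : A k = vc hm h2 k * b' := by rw [hAdef, Function.update_self]
    have hprod : A k * vc hm h2 k = b' := by
      rw [hAk, mul_assoc, ← hc, ← mul_assoc, vc_sq, one_mul]
    refine h.gen_two hin h2 hA hAM (i := k) (j := j) hjk.symm (vc_utv h2 hk) hb
      (by rw [hprod, hAk, ← mul_assoc, vc_sq, one_mul]) hcj
      (by rw [hprod]; exact hb'.isTv.ne_one) ?_ hy hyz
    rw [hprod, hb'.isTv.rank, hQb]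
    intro hr
    have h1 := Matrix.rank_submatrix_le ((!![1, 0, 1, 1; 0, 1, 1, 1; 1, 1, 1, 0; 1, 1, 0, 1] :
      Matrix (Fin (1 + 3)) (Fin (1 + 3)) F) - 1) ![0, 2] ![0, 2]
    have h3 : (((!![1, 0, 1, 1; 0, 1, 1, 1; 1, 1, 1, 0; 1, 1, 0, 1] :
      Matrix (Fin (1 + 3)) (Fin (1 + 3)) F) - 1).submatrix ![0, 2] ![0, 2]).rank = 2 := by
      rw [Matrix.rank_of_isUnit _ ((Matrix.isUnit_iff_isUnit_det _).2 ?_), Fintype.card_fin]
      rw [Matrix.det_fin_two]
      simp [Matrix.one_apply]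
    omega

/-- characteristic two: the overgroup lies in the wreath subgroup -/
theorem UCtx.main_two (h : UCtx σ hσ M) (hin : InnerU σ hσ n s) (h2 : (2 : F) = 0) (hs : 1 ≤ s) :
    M ≤ tensorWreathStandard (n + 3) (s + 1) F := by
  classical
  intro g hg
  have hm : 3 ≤ n + 3 := by omega
  set r : GL (Fin (s + 1) → Fin (n + 3)) F := sl 0 (rt (n := n) σ 1) with hrdef
  have hr : IsURoot σ r := ⟨0, Pi.single 0 1, e0_iso, 1, by simp, one_ne_zero, by rw [map_one, neg_eq_of_two h2], rfl⟩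
  suffices hy : g * r * g⁻¹ ∈ tensorWreathStandard (n + 3) (s + 1) F from h.fusion hin hr hg (h.cls hin hr hg hy)
  by_contra hy
  set y := g * r * g⁻¹ with hydef
  have hyM : y ∈ M := M.mul_mem (M.mul_mem hg (hr.mem h.base)) (M.inv_mem hg)
  have hyy : y * y = 1 := by
    rw [hydef, show g * r * g⁻¹ * (g * r * g⁻¹) = g * (r * r) * g⁻¹ by group, hr.sq h2]; group
  set v : GL (Fin (s + 1) → Fin (n + 3)) F := pureGL (fun l => vc (m := n + 3) hm h2 l) with hv
  have hvv : v * v = 1 := pure_sq_one fun l => vc_sq hm h2 l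
  have hvM : v ∈ M := h.pv_mem h2
  have hvtw : v ∈ tensorWreathStandard (n + 3) (s + 1) F := pure_mem_tw _
  have hnr : ¬ IsURoot σ v := fun hroot => by
    obtain ⟨l, C, hC, hl⟩ := hroot.isRoot.exists_tv
    rw [hv, sl_eq_pureGL] at hl
    haveI : Nontrivial (Fin (s + 1)) := Fin.nontrivial_iff_two_le.2 (by omega)
    obtain ⟨p, hp⟩ := exists_ne l
    have := pureGL_inj (by omega) h2 (fun q => vc_sq hm h2 q) (fun q => by
      rcases eq_or_ne q l with rfl | hq
      · simpa using hC.sq h2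
      · simp [Pi.mulSingle_eq_of_ne hq]) hl p
    rw [Pi.mulSingle_eq_of_ne hp] at this
    exact vc_ne_one hm h2 p this
  have hnc : ∀ a ∈ M, a * y * a⁻¹ ≠ v := fun a ha e => hnr (by
    have e' : a * g * r * (a * g)⁻¹ = v := by rw [← e, hydef]; group
    rw [← e'] at hvtw ⊢
    exact h.cls hin hr (M.mul_mem ha hg) hvtw)
  obtain ⟨e, g0, c, he, hg0, hcM, hord, hconj, -, hinv, hcomm⟩ := dihedral_data M hvv hyy hvM hyM hnc
  have hP := h.pv_le hin h2 hs (dihedral_pgroup hvv hord hinv)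
    (sup_le (Subgroup.zpowers_le.2 hg0) (Subgroup.zpowers_le.2 hvM))
    (Subgroup.mem_sup_right (Subgroup.mem_zpowers v))
  have hg0tw : g0 ∈ tensorWreathStandard (n + 3) (s + 1) F :=
    hP (Subgroup.mem_sup_left (Subgroup.mem_zpowers g0))
  have hr' : v * g0 = c⁻¹ * g * r * (c⁻¹ * g)⁻¹ := by
    rw [show c⁻¹ * g * r * (c⁻¹ * g)⁻¹ = c⁻¹ * y * c by rw [hydef]; group, ← hconj]; group
  have hroot : IsURoot σ (v * g0) := by
    have hmem : v * g0 ∈ tensorWreathStandard (n + 3) (s + 1) F := mul_mem hvtw hg0tw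
    rw [hr'] at hmem ⊢
    exact h.cls hin hr (M.mul_mem (M.inv_mem hcM) hg) hmem
  obtain ⟨k, u', hu', c', hu0', hc0', hcσ', hk⟩ := hroot
  set b' := utv σ u' hu' c' with hb'def
  have hb' : IsUTv σ b' := ⟨u', hu', c', hu0', hc0', hcσ', rfl⟩
  have hg0eq : g0 = v * sl k b' := by rw [← hk, ← mul_assoc, hvv, one_mul]
  set m := 2 ^ (e - 1) with hn
  have hgn : g0 ^ m * g0 ^ m = 1 := by
    rw [← pow_add, hn, ← two_mul, ← pow_succ', Nat.sub_add_cancel he, ← hord, pow_orderOf_eq_one]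
  have hgn1 : g0 ^ m ≠ 1 := fun hcon => by
    have := orderOf_dvd_of_pow_eq_one hcon
    rw [hord, hn, Nat.pow_dvd_pow_iff_le_right (by norm_num)] at this
    omega
  rcases Nat.eq_or_lt_of_le he with he1 | he1
  · subst he1
    rw [hn, Nat.sub_self, pow_zero, pow_one] at hgn
    rw [hn, Nat.sub_self, pow_zero, pow_one] at hcomm
    refine hy (h.twist_centraliser hin h2 hs (k := k) hb' ?_ hyM ?_)
    · have hvr : v * sl k b' = sl k b' * v := by
        have h3 : (v * sl k b') * (v * sl k b') = 1 := by rw [← hg0eq]; exact hgn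
        have hb2 : sl (F := F) k b' * sl k b' = 1 := by rw [sl_mul, hb'.isTv.sq h2, sl_one]
        calc v * sl k b' = v * sl k b' * (v * sl k b') * (v * sl k b')⁻¹ := by group
          _ = (sl k b')⁻¹ * v⁻¹ := by rw [h3, one_mul, _root_.mul_inv_rev]
          _ = sl k b' * v := by rw [inv_eq_of_mul_eq_one_right hb2, inv_eq_of_mul_eq_one_right hvv]
      have h4 : sl (F := F) k (vc hm h2 k * b' * (vc hm h2 k)⁻¹) = sl k b' := by
        have h5 := TensorPower.conj_sl (1 : Equiv.Perm (Fin (s + 1))) (fun l => vc hm h2 l) k b'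
        rw [permGL_one, one_mul, Equiv.Perm.one_apply, ← hv, hvr, mul_inv_cancel_right] at h5
        exact h5.symm
      have h6 := sl_inj (by omega) h4
      conv_rhs => rw [← h6]
      rw [inv_mul_cancel_right]
    · rw [← hv, ← hg0eq]; exact hcomm.symm
  · have hpow : g0 ^ m = sl k ((vc hm h2 k * b') ^ m) := by
      rw [hg0eq, hv, pureGL_mul_sl, pureGL_pow, sl_eq_pureGL]
      congr 1
      funext l
      rcases eq_or_ne l k with rfl | hl
      · simp
      · rw [Pi.pow_apply, Function.update_of_ne hl, Pi.mulSingle_eq_of_ne hl, hn,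
          show e - 1 = (e - 2) + 1 by omega, pow_succ', pow_mul, pow_two, vc_sq, one_pow]
    rw [hpow, sl_mul, ← sl_one k] at hgn
    rw [hpow] at hgn1
    refine hy (h.single_two hin h2 hyM (i := k) (pow_mem (mul_mem (vc_mem h2 k) (hb'.u1_mem hσ)) m)
      (sl_inj (by omega) hgn) (fun e' => hgn1 (by rw [e', sl_one])) ?_)
    rw [← hpow]
    exact hcomm.symm

end CfsgLib.Perm.Trans.TensorPowerU
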