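import Cfsg.Agent.Lib.Perm.Trans.TensorPowerU.TwoSingle

/-!
# Characteristic two: centralisers of involutive pure tensors
-/

set_option autoImplicit false
set_option linter.all false

namespace CfsgLib.Perm.Trans.TensorPowerU

open scoped Matrix
open Matrix Cfsg.Geo CfsgLib.Perm.Asch CfsgLib.Perm.Trans CfsgLib.Perm.Trans.TensorPower

variable {F : Type*} [Field F] {σ : F ≃+* F} {n s t : ℕ} {hσ : ∀ a, σ (σ a) = a}

/-- a unitary transvection of one factor -/
def IsUTv (σ : F ≃+* F) (b : GL (Fin (n + 3)) F) : Prop :=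
  ∃ (u : Fin (n + 3) → F) (hu : dual σ (s1 n) u ⬝ᵥ u = 0) (c : F), u ≠ 0 ∧ c ≠ 0 ∧ σ c = -c ∧ b = utv σ u hu c

theorem IsUTv.isTv {b : GL (Fin (n + 3)) F} (hb : IsUTv σ b) : IsTv b := by
  obtain ⟨u, hu, c, hu0, hc0, -, rfl⟩ := hb
  exact utv_isTv hu hu0 hc0

theorem IsUTv.root {b : GL (Fin (n + 3)) F} (hb : IsUTv σ b) (i : Fin t) : IsURoot σ (sl i b) := by
  obtain ⟨u, hu, c, hu0, hc0, hc, rfl⟩ := hb
  exact ⟨i, u, hu, c, hu0, hc0, hc, rfl⟩

theorem IsUTv.u1_mem (hσ : ∀ a, σ (σ a) = a) {b : GL (Fin (n + 3)) F} (hb : IsUTv σ b) : b ∈ u1 σ hσ n := by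
  obtain ⟨u, hu, c, -, -, hc, rfl⟩ := hb
  exact TensorPowerU.utv_mem hσ u hu hc

theorem utv_of_sl (h2 : (2 : F) = 0) {b : GL (Fin (n + 3)) F} (hb : IsTv b) {k : Fin t}
    (hU : sl k b ∈ uT σ hσ n t) : IsUTv σ b := by
  obtain ⟨i, u, hu, c, hu0, hc0, hc, he⟩ := uroot_of_root (hb.root k) hU
  rcases eq_or_ne k i with rfl | hki
  · exact ⟨u, hu, c, hu0, hc0, hc, sl_inj (by omega) he⟩
  · exact absurd he (sl_ne hki (by omega) h2 (hb.sq h2) ((utv_isTv hu hu0 hc0).sq h2) hb.ne_one)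

theorem utv_comm {u v : Fin (n + 3) → F} (hu : dual σ (s1 n) u ⬝ᵥ u = 0) (hv : dual σ (s1 n) v ⬝ᵥ v = 0)
    (huv : dual σ (s1 n) u ⬝ᵥ v = 0) (hvu : dual σ (s1 n) v ⬝ᵥ u = 0) (a b : F) :
    utv σ u hu a * utv σ v hv b = utv σ v hv b * utv σ u hu a := Units.ext (by
  have e1 : vecMulVec u (dual σ (s1 n) u) * vecMulVec v (dual σ (s1 n) v) = 0 := by
    rw [vecMulVec_mul_vecMulVec, huv, zero_smul]; ext; simp [vecMulVec_apply]
  have e2 : vecMulVec v (dual σ (s1 n) v) * vecMulVec u (dual σ (s1 n) u) = 0 := by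
    rw [vecMulVec_mul_vecMulVec, hvu, zero_smul]; ext; simp [vecMulVec_apply]
  rw [Units.val_mul, Units.val_mul, utv_coe, utv_coe]
  simp only [add_mul, mul_add, one_mul, mul_one, Matrix.smul_mul, Matrix.mul_smul, e1, e2, smul_zero, add_zero]
  abel)

variable [Fintype F]

/-- a unitary transvection commuting with an involution, other than it -/
theorem exists_commuting_utv (hs : Sc σ) (hq : 1 ≤ n ∨ 4 < Fintype.card F) (h2 : (2 : F) = 0)
    {A : GL (Fin (n + 3)) F} (hAU : A ∈ u1 σ hσ n) (hA : A * A = 1) :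
    ∃ b : GL (Fin (n + 3)) F, IsUTv σ b ∧ A * b = b * A ∧ A * b ≠ 1 := by
  classical
  have hneg := neg_eq_of_two h2
  have hone : σ (1 : F) = -1 := by rw [map_one, hneg]
  by_cases hA1 : A = 1
  · have hb : IsUTv σ (rt (n := n) σ 1) := ⟨Pi.single 0 1, e0_iso, 1, by simp, one_ne_zero, hone, rfl⟩
    exact ⟨rt σ 1, hb, by rw [hA1, one_mul, mul_one], by rw [hA1, one_mul]; exact hb.isTv.ne_one⟩
  set N := (A : Matrix (Fin (n + 3)) (Fin (n + 3)) F) - 1 with hN
  have hAe : (A : Matrix (Fin (n + 3)) (Fin (n + 3)) F) = 1 + N := by rw [hN]; abel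
  have hNN : N * N = 0 := by
    rw [hN, sub_mul, mul_sub, one_mul, mul_one, ← Units.val_mul, hA, Units.val_one,
      show (1 : Matrix (Fin (n + 3)) (Fin (n + 3)) F) - A - (A - 1) =
        (2 : F) • (1 - (A : Matrix (Fin (n + 3)) (Fin (n + 3)) F)) by rw [two_smul]; abel, h2, zero_smul]
  have hNa : adj σ (s1 n) N = N := by
    rw [adj_of_one_add hAU hAe hNN]
    ext x y
    exact hneg _
  obtain ⟨f, hf⟩ : ∃ f, N *ᵥ f ≠ 0 := by
    by_contra hcon
    push Not at hcon
    refine hA1 (Units.ext (sub_eq_zero.1 (Matrix.ext_iff_mulVec.2 fun v => ?_)))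
    rw [zero_mulVec]; exact hcon v
  set c := N *ᵥ f with hcdef
  have hciso : dual σ (s1 n) c ⬝ᵥ c = 0 := by
    rw [hcdef, dual_mulVec hσ s1_inv, hNa, ← dotProduct_mulVec, mulVec_mulVec, hNN, zero_mulVec, dotProduct_zero]
  have hdcN : dual σ (s1 n) c ᵥ* N = 0 := by
    rw [hcdef, dual_mulVec hσ s1_inv, hNa, vecMul_vecMul, hNN, vecMul_zero]
  have hz0 : ∀ w : Fin (n + 3) → F, vecMulVec w (0 : Fin (n + 3) → F) = 0 := fun w => by ext; simp [vecMulVec_apply]
  have hcom : ∀ d : F, A * utv σ c hciso d = utv σ c hciso d * A := fun d => Units.ext (by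
    have e1 : N * vecMulVec c (dual σ (s1 n) c) = 0 := by
      rw [mul_vecMulVec, hcdef, mulVec_mulVec, hNN, zero_mulVec]; ext; simp [vecMulVec_apply]
    have e2 : vecMulVec c (dual σ (s1 n) c) * N = 0 := by rw [vecMulVec_mul, hdcN, hz0]
    rw [Units.val_mul, Units.val_mul, utv_coe, hAe]
    simp only [add_mul, mul_add, one_mul, mul_one, Matrix.smul_mul, Matrix.mul_smul, e1, e2, smul_zero, add_zero]
    abel)
  have hτ : IsUTv σ (utv σ c hciso 1) := ⟨c, hciso, 1, hf, one_ne_zero, hone, rfl⟩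
  by_cases hne : A * utv σ c hciso 1 ≠ 1
  · exact ⟨_, hτ, hcom 1, hne⟩
  push Not at hne
  have hAeq : A = utv σ c hciso 1 := by
    calc A = A * (utv σ c hciso 1 * utv σ c hciso 1) := by rw [hτ.isTv.sq h2, mul_one]
      _ = utv σ c hciso 1 := by rw [← mul_assoc, hne, one_mul]
  have hinj : ∀ {b : GL (Fin (n + 3)) F}, b * b = 1 → A * b = 1 → b = utv σ c hciso 1 := fun {b} hb e => by
    rw [← hAeq]
    calc b = A * A * b := by rw [hA, one_mul]
      _ = A := by rw [mul_assoc, e, mul_one]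
  rcases hq with hn | h4
  · have hh := hform_unitary hs (s1_inv (n := n))
    have hcc : hform σ (s1 n) c c = 0 := by rw [hform, dotProduct_comm]; exact hciso
    obtain ⟨p, hpp, hcp, hpc⟩ := TensorHerm.exists_isotropic_partner hh hf hcc
    obtain ⟨e, heW, he0, hee⟩ := exists_isotropic hh (W := perpOf hh c ⊓ perpOf hh p) (by
      have h1 := finrank_perp hh c
      have h3 := finrank_inf_perp hh (perpOf hh c) p
      rw [Fintype.card_fin] at h1
      omega)
    obtain ⟨hec, hep⟩ := Submodule.mem_inf.1 heW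
    have hec' : dual σ (s1 n) c ⬝ᵥ e = 0 := by rw [dotProduct_comm]; exact (mem_perpOf hh).1 hec
    have hce : dual σ (s1 n) e ⬝ᵥ c = 0 := by rw [← dual_dot_dual hσ s1_inv, hec', map_zero]
    have hpe : dual σ (s1 n) e ⬝ᵥ p = 0 := by
      rw [← dual_dot_dual hσ s1_inv, show dual σ (s1 n) p ⬝ᵥ e = 0 by rw [dotProduct_comm]; exact (mem_perpOf hh).1 hep,
        map_zero]
    have heiso : dual σ (s1 n) e ⬝ᵥ e = 0 := by rw [dotProduct_comm]; exact hee
    have hb : IsUTv σ (utv σ e heiso 1) := ⟨e, heiso, 1, he0, one_ne_zero, hone, rfl⟩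
    refine ⟨_, hb, by rw [hAeq]; exact utv_comm hciso heiso hec' hce 1 1, fun e1 => hf ?_⟩
    have e2 := congrArg Units.val (hinj (hb.isTv.sq h2) e1)
    rw [utv_coe, utv_coe, add_right_inj, one_smul, one_smul] at e2
    have e3 := congrArg (· *ᵥ p) e2
    simp only [vecMulVec_mulVec, op_smul_eq_smul, hpe, zero_smul] at e3
    rw [show dual σ (s1 n) c ⬝ᵥ p = 1 by rw [dotProduct_comm]; exact hpc, one_smul] at e3
    exact e3.symm
  · obtain ⟨x, hx⟩ := exists_norm_ne_one hs h4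
    set d := (x : F) * σ x with hd
    have hd0 : d ≠ 0 := mul_ne_zero x.ne_zero (by simpa using x.ne_zero)
    have hb : IsUTv σ (utv σ c hciso d) :=
      ⟨c, hciso, d, hf, hd0, by rw [hneg, hd, map_mul, hs.invol, mul_comm], rfl⟩
    refine ⟨_, hb, hcom d, fun e1 => hx ?_⟩
    have e2 := congrArg Units.val (hinj (hb.isTv.sq h2) e1)
    rw [utv_coe, utv_coe, add_right_inj] at e2
    exact smul_left_injective F (vmv_ne_zero hf (fun e => hf (funext fun y => by
      have := congrFun e (s1 n y)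
      simpa [dual, s1_inv y] using this))) e2

variable {M : Subgroup (GL (Fin (s + 1) → Fin (n + 3)) F)}

/-- the general argument, given the pairs of roots it needs -/
theorem UCtx.gen_aux (h : UCtx σ hσ M) (hin : InnerU σ hσ n s) (h2 : (2 : F) = 0)
    {A : Fin (s + 1) → GL (Fin (n + 3)) F} (hA : ∀ l, A l * A l = 1)
    (hzM : pureGL A ∈ M) {i j : Fin (s + 1)} (hij : i ≠ j) {b'' b : GL (Fin (n + 3)) F} (hb'' : IsUTv σ b'')
    (hb : IsUTv σ b) (hci : A i * b'' = b'' * A i) (hcj : A j * b = b * A j) (hne : A i * b'' ≠ 1)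
    (hrk : (((A i * b'' : GL (Fin (n + 3)) F) : Matrix (Fin (n + 3)) (Fin (n + 3)) F) - 1).rank ≠
      (((A j * b : GL (Fin (n + 3)) F) : Matrix (Fin (n + 3)) (Fin (n + 3)) F) - 1).rank)
    (htwo : ∀ (π : Equiv.Perm (Fin (s + 1))) (H : Fin (s + 1) → GL (Fin (n + 3)) F),
      (∀ l, A (π l) = H l * A l * (H l)⁻¹) → π j ≠ i → IsUTv σ (H j * b * (H j)⁻¹) →
      ∀ e ∈ M, e * pureGL A = pureGL A * e →
        e * (sl i b'' * sl (π j) (H j * b * (H j)⁻¹)) = sl i b'' * sl (π j) (H j * b * (H j)⁻¹) * e →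
          e ∈ tensorWreathStandard (n + 3) (s + 1) F)
    {k : GL (Fin (s + 1) → Fin (n + 3)) F} (hk : k ∈ M) (hkz : k * pureGL A = pureGL A * k) :
    k ∈ tensorWreathStandard (n + 3) (s + 1) F := by
  classical
  have hm : 0 < n + 3 := by omega
  have hcomm : ∀ (l : Fin (s + 1)) (a : GL (Fin (n + 3)) F), A l * a = a * A l →
      pureGL A * sl l a = sl l a * pureGL A := by
    intro l a ha
    rw [sl_eq_pureGL, pureGL_mul, pureGL_mul]
    congr 1
    funext p
    rcases eq_or_ne p l with rfl | hp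
    · simpa using ha
    · simp [Pi.mulSingle_eq_of_ne hp]
  have hnr : ¬ IsURoot σ (pureGL A * sl i b'') := by
    intro hroot
    obtain ⟨l, C, hC, hl⟩ := hroot.isRoot.exists_tv
    rw [pureGL_mul_sl] at hl
    have hi' : ∀ p, Function.update A i (A i * b'') p * Function.update A i (A i * b'') p = 1 := fun p => by
      rcases eq_or_ne p i with rfl | hp
      · rw [Function.update_self]
        calc A p * b'' * (A p * b'') = A p * (b'' * A p) * b'' := by group
          _ = A p * (A p * b'') * b'' := by rw [hci]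
          _ = (A p * A p) * (b'' * b'') := by group
          _ = 1 := by rw [hA, hb''.isTv.sq h2, one_mul]
      · rw [Function.update_of_ne hp]; exact hA p
    have hC' : ∀ p, (Pi.mulSingle l C : Fin (s + 1) → GL (Fin (n + 3)) F) p *
        (Pi.mulSingle l C : Fin (s + 1) → GL (Fin (n + 3)) F) p = 1 := fun p => by
      rcases eq_or_ne p l with rfl | hp
      · simpa using hC.sq h2
      · simp [Pi.mulSingle_eq_of_ne hp]
    have he := pureGL_inj hm h2 hi' hC' hl
    have hli : i = l := by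
      by_contra hil
      have h1 := he i
      rw [Function.update_self, Pi.mulSingle_eq_of_ne hil] at h1
      exact hne h1
    subst hli
    have h1 := he i
    have h3 := he j
    rw [Function.update_self, Pi.mulSingle_eq_same] at h1
    rw [Function.update_of_ne hij.symm, Pi.mulSingle_eq_of_ne hij.symm] at h3
    apply hrk
    rw [h1, h3, one_mul, hC.rank, hb.isTv.rank]
  rcases h.key hin h2 (pure_sq_one hA) hzM (pure_mem_tw A) (hb.root j) (hb''.root i) (hcomm j b hcj) (hcomm i b'' hci)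
    hnr hk hkz with hk' | ⟨hh, hhM, hhtw, hhz, hstep⟩
  · exact hk'
  set y := k * sl j b * k⁻¹ with hy
  have hyM : y ∈ M := M.mul_mem (M.mul_mem hk ((hb.root j).mem h.base)) (M.inv_mem hk)
  suffices hyW : y ∈ tensorWreathStandard (n + 3) (s + 1) F from
    h.fusion hin (hb.root j) hk (h.cls hin (hb.root j) hk hyW)
  have hyz : y * pureGL A = pureGL A * y := by
    have h1 : Commute k (pureGL A) := hkz
    exact ((h1.mul_left (hcomm j b hcj).symm).mul_left h1.inv_left).eq
  obtain ⟨π, H, rfl⟩ := tw_shape hhtw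
  have hπ := comm_pure hm h2 hA hhz
  have hmem := h.le (M.mul_mem (M.mul_mem hhM ((hb.root j).mem h.base)) (M.inv_mem hhM))
  rw [conj_sl] at hmem hstep
  set b' := H j * b * (H j)⁻¹ with hb'
  have hb't : IsTv b' := hb.isTv.conj _
  have hb'u : IsUTv σ b' := utv_of_sl h2 hb't hmem
  have hrne : sl (π j) b' ≠ sl i b'' := by
    intro e
    by_cases hji : π j = i
    · rw [hji] at e
      have e' := sl_inj hm e
      apply hrk
      have h1 : A i * b'' = H j * (A j * b) * (H j)⁻¹ := by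
        rw [← hji, hπ j, ← e', hb']; group
      rw [h1, ← cj_coe, ← cj_one (H j), ← cj_sub, rank_cj, cj_one]
    · exact sl_ne hji hm h2 (hb't.sq h2) (hb''.isTv.sq h2) hb't.ne_one e
  obtain ⟨m, hsq, hm1, hcy⟩ := hstep hrne
  by_cases hji : π j = i
  · rw [hji, sl_mul, ← sl_pow] at hsq hm1 hcy
    rw [sl_mul, ← sl_one i] at hsq
    exact h.single_two hin h2 hyM (pow_mem (mul_mem (hb''.u1_mem hσ) (hb'u.u1_mem hσ)) m) (sl_inj hm hsq)
      (fun e' => hm1 (by rw [e', sl_one])) hcy.eq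
  · have hx2 : (sl i b'' * sl (π j) b') * (sl i b'' * sl (π j) b') = 1 := by
      calc sl i b'' * sl (π j) b' * (sl i b'' * sl (π j) b')
          = sl i b'' * (sl (π j) b' * sl i b'') * sl (π j) b' := by group
        _ = sl i b'' * (sl i b'' * sl (π j) b') * sl (π j) b' := by rw [sl_comm hji]
        _ = (sl i b'' * sl i b'') * (sl (π j) b' * sl (π j) b') := by group
        _ = 1 := by rw [sl_mul, sl_mul, hb''.isTv.sq h2, hb't.sq h2, sl_one, sl_one, one_mul]
    rcases Nat.even_or_odd m with ⟨q, rfl⟩ | ⟨q, rfl⟩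
    · exact absurd (by rw [← two_mul, pow_mul, pow_two, hx2, one_pow]) hm1
    · rw [pow_succ, pow_mul, pow_two, hx2, one_pow, one_mul] at hcy
      exact htwo π H hπ hji hb'u y hyM hyz hcy.eq

/-- the centraliser of a product of roots in two factors -/
theorem UCtx.pair_two (h : UCtx σ hσ M) (hin : InnerU σ hσ n s) (h2 : (2 : F) = 0) {i j : Fin (s + 1)} (hij : i ≠ j)
    {a b : GL (Fin (n + 3)) F} (ha : IsUTv σ a) (hb : IsUTv σ b) {k : GL (Fin (s + 1) → Fin (n + 3)) F} (hk : k ∈ M)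
    (hkz : k * (sl i a * sl j b) = sl i a * sl j b * k) : k ∈ tensorWreathStandard (n + 3) (s + 1) F := by
  classical
  set A : Fin (s + 1) → GL (Fin (n + 3)) F := Pi.mulSingle i a * Pi.mulSingle j b with hAdef
  have hz : sl i a * sl j b = pureGL A := by rw [sl_eq_pureGL, sl_eq_pureGL, pureGL_mul]
  have hAi : A i = a := by simp [hAdef, Pi.mulSingle_eq_of_ne hij]
  have hAj : A j = b := by simp [hAdef, Pi.mulSingle_eq_of_ne hij.symm]
  have hAo : ∀ l, l ≠ i → l ≠ j → A l = 1 := fun l hi hj => by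
    simp [hAdef, Pi.mulSingle_eq_of_ne hi, Pi.mulSingle_eq_of_ne hj]
  have hA : ∀ l, A l * A l = 1 := fun l => by
    by_cases hi : l = i
    · rw [hi, hAi, ha.isTv.sq h2]
    · by_cases hj : l = j
      · rw [hj, hAj, hb.isTv.sq h2]
      · rw [hAo l hi hj, one_mul]
  obtain ⟨b'', hb'', hcom, hne⟩ := exists_commuting_utv (hσ := hσ) h.sc h.hq h2 (ha.u1_mem hσ) (ha.isTv.sq h2)
  rw [hz] at hkz
  refine h.gen_aux hin h2 hA (hz ▸ M.mul_mem ((ha.root i).mem h.base) ((hb.root j).mem h.base)) hij hb'' hb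
    (by rw [hAi]; exact hcom) (by rw [hAj]) (by rw [hAi]; exact hne) ?_ ?_ hk hkz
  · rw [hAi, hAj, hb.isTv.sq h2, Units.val_one, sub_self, Matrix.rank_zero]
    exact sub_one_ne hne
  · intro π H hπ hji _ e heM hez hec
    have hj : π j = j := by
      by_contra hjj
      have h1 := hπ j
      rw [hAo _ hji hjj, hAj] at h1
      exact (hb.isTv.conj (H j)).ne_one h1.symm
    have hb' : H j * b * (H j)⁻¹ = b := by
      have h1 := hπ j
      rwa [hj, hAj, eq_comm] at h1
    rw [hj, hb'] at hec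
    have hzc : pureGL A * (sl i b'' * sl j b) = sl i (a * b'') := by
      rw [← hz, ← sl_mul]
      calc sl i a * sl j b * (sl i b'' * sl j b)
          = sl i a * (sl j b * sl i b'') * sl j b := by group
        _ = sl i a * (sl i b'' * sl j b) * sl j b := by rw [sl_comm hij.symm]
        _ = sl i a * sl i b'' * (sl j b * sl j b) := by group
        _ = sl i a * sl i b'' := by rw [sl_mul j, hb.isTv.sq h2, sl_one, mul_one]
    refine h.single_two hin h2 heM (i := i) (C := a * b'') (mul_mem (ha.u1_mem hσ) (hb''.u1_mem hσ)) ?_ hne ?_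
    · calc a * b'' * (a * b'') = a * (b'' * a) * b'' := by group
        _ = a * (a * b'') * b'' := by rw [hcom]
        _ = (a * a) * (b'' * b'') := by group
        _ = 1 := by rw [ha.isTv.sq h2, hb''.isTv.sq h2, one_mul]
    · rw [← hzc]
      exact ((show Commute e (pureGL A) from hez).mul_right hec).eq

/-- the centraliser of an involutive pure tensor with two suitable factors -/
theorem UCtx.gen_two (h : UCtx σ hσ M) (hin : InnerU σ hσ n s) (h2 : (2 : F) = 0)
    {A : Fin (s + 1) → GL (Fin (n + 3)) F} (hA : ∀ l, A l * A l = 1) (hzM : pureGL A ∈ M) {i j : Fin (s + 1)}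
    (hij : i ≠ j) {b'' b : GL (Fin (n + 3)) F} (hb'' : IsUTv σ b'') (hb : IsUTv σ b) (hci : A i * b'' = b'' * A i)
    (hcj : A j * b = b * A j) (hne : A i * b'' ≠ 1)
    (hrk : (((A i * b'' : GL (Fin (n + 3)) F) : Matrix (Fin (n + 3)) (Fin (n + 3)) F) - 1).rank ≠
      (((A j * b : GL (Fin (n + 3)) F) : Matrix (Fin (n + 3)) (Fin (n + 3)) F) - 1).rank)
    {k : GL (Fin (s + 1) → Fin (n + 3)) F} (hk : k ∈ M) (hkz : k * pureGL A = pureGL A * k) :
    k ∈ tensorWreathStandard (n + 3) (s + 1) F :=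
  h.gen_aux hin h2 hA hzM hij hb'' hb hci hcj hne hrk
    (fun π H hπ hji hb' e heM _ hec => h.pair_two hin h2 (Ne.symm hji) hb'' hb' heM hec) hk hkz

end CfsgLib.Perm.Trans.TensorPowerU
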