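import Cfsg.Agent.Lib.Perm.Trans.TensorPowerU.Odd
import Cfsg.Agent.Lib.Perm.Trans.TensorPower.TwoInv

/-!
# Characteristic two: the centraliser of an involution of one factor
-/

set_option autoImplicit false
set_option linter.all false

namespace CfsgLib.Perm.Trans.TensorPowerU

open scoped Matrix
open Matrix Cfsg.Geo CfsgLib.Perm.Asch CfsgLib.Perm.Trans CfsgLib.Perm.Trans.TensorPower

variable {F : Type*} [Field F] {σ : F ≃+* F} {n s t : ℕ} {hσ : ∀ a, σ (σ a) = a}

theorem neg_eq_of_two (h2 : (2 : F) = 0) (a : F) : -a = a := by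
  rw [neg_eq_iff_add_eq_zero, ← two_mul, h2, zero_mul]

theorem utv_isTv {u : Fin (n + 3) → F} (hu : dual σ (s1 n) u ⬝ᵥ u = 0) {c : F} (hu0 : u ≠ 0) (hc : c ≠ 0) :
    IsTv (utv σ u hu c) := by
  refine ⟨c • u, dual σ (s1 n) u, _, smul_ne_zero hc hu0, fun e => hu0 (funext fun y => ?_), rfl⟩
  have := congrFun e (s1 n y)
  simpa [dual, s1_inv y] using this

theorem IsURoot.sq (h2 : (2 : F) = 0) {r : GL (Fin t → Fin (n + 3)) F} (hr : IsURoot σ r) : r * r = 1 :=
  IsRoot.sq h2 hr.isRoot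

/-- the commutator of two short roots -/
theorem eta_comm {a : Fin (n + 3)} (ha0 : a ≠ 0) (ha1 : a ≠ 1) (l μ l' μ' : F) :
    eta σ a ha0 ha1 l μ * eta σ a ha0 ha1 l' μ' =
      rt σ (σ l' * l - σ l * l') * (eta σ a ha0 ha1 l' μ' * eta σ a ha0 ha1 l μ) := by
  refine Units.ext ?_
  rw [Units.val_mul, Units.val_mul _ (_ * _), Units.val_mul, eta_coe, eta_coe, rt_coe]
  set E : Matrix (Fin (n + 3)) (Fin (n + 3)) F := Matrix.single 0 1 1 with hE
  set N := Matrix.single a (1 : Fin (n + 3)) l + Matrix.single 0 a (-σ l) + Matrix.single 0 1 μ with hN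
  set N' := Matrix.single a (1 : Fin (n + 3)) l' + Matrix.single 0 a (-σ l') + Matrix.single 0 1 μ' with hN'
  have e1 : N * N' = (-(σ l * l')) • E := by
    rw [hN, hN', hE, ← single_smul_one]
    simp [add_mul, mul_add, Matrix.single_mul_single_of_ne, ha0, ha1, ha0.symm, ha1.symm]
  have e2 : N' * N = (-(σ l' * l)) • E := by
    rw [hN, hN', hE, ← single_smul_one]
    simp [add_mul, mul_add, Matrix.single_mul_single_of_ne, ha0, ha1, ha0.symm, ha1.symm]
  have e3 : E * N = 0 := by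
    rw [hN, hE]; simp [mul_add, Matrix.single_mul_single_of_ne, ha1.symm]
  have e4 : E * N' = 0 := by
    rw [hN', hE]; simp [mul_add, Matrix.single_mul_single_of_ne, ha1.symm]
  have e5 : E * E = 0 := by rw [hE]; simp [Matrix.single_mul_single_of_ne]
  have h1 : (1 + N) * (1 + N') = 1 + N + N' + (-(σ l * l')) • E := by rw [← e1]; noncomm_ring
  have h3 : (1 + N') * (1 + N) = 1 + N + N' + (-(σ l' * l)) • E := by rw [← e2]; noncomm_ring
  have key : ∀ d e : F, (1 + d • E) * (1 + N + N' + e • E) = 1 + N + N' + (d + e) • E := fun d e => by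
    simp only [mul_add, add_mul, one_mul, mul_one, Matrix.smul_mul, Matrix.mul_smul, e3, e4, e5, smul_zero, add_zero,
      add_smul]
    abel
  rw [h1, h3, key, show σ l' * l - σ l * l' + -(σ l' * l) = -(σ l * l') by ring]

variable [Fintype F] {M : Subgroup (GL (Fin (s + 1) → Fin (n + 3)) F)}

/-- a two-subgroup of `M` containing a root lies in the wreath subgroup -/
theorem UCtx.two_group_le (h : UCtx σ hσ M) (hin : InnerU σ hσ n s) {Q : Subgroup (GL (Fin (s + 1) → Fin (n + 3)) F)}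
    (hQ : IsPGroup 2 Q) (hQM : Q ≤ M) {r : GL (Fin (s + 1) → Fin (n + 3)) F} (hr : IsURoot σ r) (hrQ : r ∈ Q) :
    Q ≤ tensorWreathStandard (n + 3) (s + 1) F :=
  haveI : Fact (Nat.Prime 2) := ⟨Nat.prime_two⟩
  h.p_group_le hin hQ hQM hr hrQ

/-- the dihedral argument -/
theorem UCtx.key (h : UCtx σ hσ M) (hin : InnerU σ hσ n s) (h2 : (2 : F) = 0)
    {z x x'' : GL (Fin (s + 1) → Fin (n + 3)) F} (hz : z * z = 1) (hzM : z ∈ M)
    (hztw : z ∈ tensorWreathStandard (n + 3) (s + 1) F) (hx : IsURoot σ x) (hx'' : IsURoot σ x'') (hzx : z * x = x * z)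
    (hzx'' : z * x'' = x'' * z) (hnr : ¬ IsURoot σ (z * x''))
    {k : GL (Fin (s + 1) → Fin (n + 3)) F} (hk : k ∈ M) (hkz : k * z = z * k) :
    k ∈ tensorWreathStandard (n + 3) (s + 1) F ∨
      ∃ hh ∈ M, hh ∈ tensorWreathStandard (n + 3) (s + 1) F ∧ hh * z = z * hh ∧
        (hh * x * hh⁻¹ ≠ x'' → ∃ m : ℕ, (x'' * (hh * x * hh⁻¹)) ^ m * (x'' * (hh * x * hh⁻¹)) ^ m = 1 ∧
          (x'' * (hh * x * hh⁻¹)) ^ m ≠ 1 ∧ Commute (k * x * k⁻¹) ((x'' * (hh * x * hh⁻¹)) ^ m)) := by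
  by_cases hktw : k ∈ tensorWreathStandard (n + 3) (s + 1) F
  · exact Or.inl hktw
  right
  set y := k * x * k⁻¹ with hydef
  have hxx := hx.sq h2
  have hx''x'' := hx''.sq h2
  have hyy : y * y = 1 := by
    rw [hydef, show k * x * k⁻¹ * (k * x * k⁻¹) = k * (x * x) * k⁻¹ by group, hxx]; group
  have hyM : y ∈ M := M.mul_mem (M.mul_mem hk (hx.mem h.base)) (M.inv_mem hk)
  have hzy : z * y = y * z := by
    have h1 : Commute z k := (show Commute k z from hkz).symm
    exact ((h1.mul_right hzx).mul_right h1.inv_right).eq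
  set v := z * x'' with hv
  have hvv : v * v = 1 := by
    rw [hv, show z * x'' * (z * x'') = z * (x'' * z) * x'' by group, ← hzx'',
      show z * (z * x'') * x'' = z * z * (x'' * x'') by group, hz, hx''x'', one_mul]
  have hvM : v ∈ M := M.mul_mem hzM (hx''.mem h.base)
  have hvtw : v ∈ tensorWreathStandard (n + 3) (s + 1) F := mul_mem hztw hx''.mem_tw
  have hnc : ∀ g ∈ M, g * y * g⁻¹ ≠ v := fun g hg e => hnr (by
    have e' : g * k * x * (g * k)⁻¹ = v := by rw [← e, hydef]; group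
    rw [← e'] at hvtw ⊢
    exact h.cls hin hx (M.mul_mem hg hk) hvtw)
  obtain ⟨e, g0, c, he, hg0, hcM, hord, hconj, hwc, hinv, hcomm⟩ := dihedral_data M hvv hyy hvM hyM hnc
  have hzv : z * v = v * z := by rw [hv, mul_assoc z x'', ← hzx'', ← mul_assoc]
  obtain ⟨hzc, hzg0⟩ := hwc z hzv hzy
  set P := (Subgroup.zpowers g0 ⊔ Subgroup.zpowers v : Subgroup (GL (Fin (s + 1) → Fin (n + 3)) F)) with hPdef
  have hP : IsPGroup 2 P := dihedral_pgroup hvv hord hinv
  have hPc : P ≤ Subgroup.centralizer {z} := by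
    refine sup_le (Subgroup.zpowers_le.2 ?_) (Subgroup.zpowers_le.2 ?_) <;>
      rw [Subgroup.mem_centralizer_singleton_iff]
    · exact hzg0.symm
    · exact hzv.symm
  have hQ : IsPGroup 2 (P ⊔ Subgroup.zpowers z : Subgroup (GL (Fin (s + 1) → Fin (n + 3)) F)) := by
    refine IsPGroup.to_sup_of_normal_left' hP (isPGroup_zpowers (k := 1) (by rw [pow_one, pow_two]; exact hz)) ?_
    refine Subgroup.zpowers_le.2 (Subgroup.mem_normalizer_iff.2 fun a => ?_)
    have hfix : ∀ b ∈ P, z * b * z⁻¹ = b := fun b hb => by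
      rw [← Subgroup.mem_centralizer_singleton_iff.1 (hPc hb), mul_inv_cancel_right]
    refine ⟨fun ha => by rw [hfix a ha]; exact ha, fun ha => ?_⟩
    have h1 := hfix _ ha
    have : z * a * z⁻¹ = a := by
      calc z * a * z⁻¹ = z⁻¹ * (z * (z * a * z⁻¹) * z⁻¹) * z := by group
        _ = z⁻¹ * (z * a * z⁻¹) * z := by rw [h1]
        _ = a := by group
    rwa [this] at ha
  have hQM : P ⊔ Subgroup.zpowers z ≤ M := sup_le (sup_le (Subgroup.zpowers_le.2 hg0) (Subgroup.zpowers_le.2 hvM))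
    (Subgroup.zpowers_le.2 hzM)
  have hQtw := h.two_group_le hin hQ hQM hx'' (by
    rw [show x'' = z * v by rw [hv, ← mul_assoc, hz, one_mul]]
    exact Subgroup.mul_mem _ (Subgroup.mem_sup_right (Subgroup.mem_zpowers z))
      (Subgroup.mem_sup_left (Subgroup.mem_sup_right (Subgroup.mem_zpowers v))))
  have hg0tw : g0 ∈ tensorWreathStandard (n + 3) (s + 1) F :=
    hQtw (Subgroup.mem_sup_left (Subgroup.mem_sup_left (Subgroup.mem_zpowers g0)))
  set hh := c⁻¹ * k with hhdef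
  have hr : v * g0 = hh * x * hh⁻¹ := by
    rw [hhdef, show c⁻¹ * k * x * (c⁻¹ * k)⁻¹ = c⁻¹ * y * c by rw [hydef]; group, ← hconj]; group
  have hhM : hh ∈ M := M.mul_mem (M.inv_mem hcM) hk
  have hrroot := h.cls hin hx hhM (hr ▸ mul_mem hvtw hg0tw)
  have hhz : hh * z = z * hh :=
    ((show Commute z c from hzc).inv_right.symm.mul_left (show Commute k z from hkz)).eq
  refine ⟨hh, hhM, h.fusion hin hx hhM hrroot, hhz, fun hne => ?_⟩
  set r := hh * x * hh⁻¹ with hrdef
  set m := 2 ^ (e - 1) with hn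
  have h1 : Commute z r := ((show Commute z hh from hhz.symm).mul_right hzx).mul_right (show Commute z hh from hhz.symm).inv_right
  have hcm : Commute z (x'' * r) := (show Commute z x'' from hzx'').mul_right h1
  have hg0eq : g0 = z * (x'' * r) := by
    rw [← mul_assoc, ← hv, ← hr, ← mul_assoc, hvv, one_mul]
  have hpow : g0 ^ m = z ^ m * (x'' * r) ^ m := by rw [hg0eq, hcm.mul_pow]
  have hgn : g0 ^ m * g0 ^ m = 1 := by
    rw [← pow_add, hn, ← two_mul, ← pow_succ', Nat.sub_add_cancel he, ← hord, pow_orderOf_eq_one]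
  have hgn1 : g0 ^ m ≠ 1 := fun hcon => by
    have := orderOf_dvd_of_pow_eq_one hcon
    rw [hord, hn, Nat.pow_dvd_pow_iff_le_right (by norm_num)] at this
    omega
  have hzn : z ^ m * z ^ m = 1 := by rw [← (Commute.refl z).mul_pow, hz, one_pow]
  have hcsq : (x'' * r) ^ m * (x'' * r) ^ m = 1 := by
    rw [hpow, (hcm.pow_pow m m).symm.mul_mul_mul_comm, hzn, one_mul] at hgn
    exact hgn
  have hcne : (x'' * r) ^ m ≠ 1 := fun hcon => by
    rcases Nat.eq_or_lt_of_le he with he1 | he1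
    · subst he1
      rw [hn, Nat.sub_self, pow_zero, pow_one] at hcon
      exact hne (by
        calc r = x'' * x'' * r := by rw [hx''x'', one_mul]
          _ = x'' * (x'' * r) := by rw [mul_assoc]
          _ = x'' := by rw [hcon, mul_one])
    · refine hgn1 ?_
      rw [hpow, hcon, mul_one, hn, show e - 1 = (e - 2) + 1 by omega, pow_succ', pow_mul, pow_two, hz, one_pow]
  refine ⟨m, hcsq, hcne, ?_⟩
  have hyg : Commute y (g0 ^ m) := (show Commute (g0 ^ m) y from hcomm).symm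
  have hyz : Commute y (z ^ m) := (show Commute y z from hzy.symm).pow_right m
  have := hyz.inv_right.mul_right hyg
  rwa [hpow, inv_mul_cancel_left] at this

/-- the centraliser of an involution of one factor -/
theorem UCtx.single_two (h : UCtx σ hσ M) (hin : InnerU σ hσ n s) (h2 : (2 : F) = 0)
    {k : GL (Fin (s + 1) → Fin (n + 3)) F} (hk : k ∈ M) {i : Fin (s + 1)} {C : GL (Fin (n + 3)) F}
    (hCU : C ∈ u1 σ hσ n) (hC : C * C = 1) (hC1 : C ≠ 1) (hc : k * sl i C = sl i C * k) :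
    k ∈ tensorWreathStandard (n + 3) (s + 1) F := by
  classical
  by_cases hs : s = 0
  · subst hs; exact tw_of_one (by omega) k
  by_contra hktw
  haveI : Nontrivial (Fin (s + 1)) := Fin.nontrivial_iff_two_le.2 (by omega)
  haveI : Nonempty (Fin (n + 3)) := ⟨0⟩
  obtain ⟨j, hji⟩ := exists_ne i
  have hneg := neg_eq_of_two h2
  -- the nilpotent part
  set N := (C : Matrix (Fin (n + 3)) (Fin (n + 3)) F) - 1 with hN
  have hCe : (C : Matrix (Fin (n + 3)) (Fin (n + 3)) F) = 1 + N := by rw [hN]; abel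
  have hNN : N * N = 0 := by
    rw [hN, sub_mul, mul_sub, one_mul, mul_one, ← Units.val_mul, hC, Units.val_one,
      show (1 : Matrix (Fin (n + 3)) (Fin (n + 3)) F) - C - (C - 1) =
        (2 : F) • (1 - (C : Matrix (Fin (n + 3)) (Fin (n + 3)) F)) by rw [two_smul]; abel, h2, zero_smul]
  have hCd : (C : Matrix (Fin (n + 3)) (Fin (n + 3)) F).det = 1 := eq_one_of_mul_self h2 (by
    rw [← Matrix.det_mul, ← Units.val_mul, hC, Units.val_one, Matrix.det_one])
  have hNa : adj σ (s1 n) N = N := by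
    rw [adj_of_one_add hCU hCe hNN]
    ext x y
    exact hneg _
  obtain ⟨f, hf⟩ : ∃ f, N *ᵥ f ≠ 0 := by
    by_contra hcon
    push Not at hcon
    refine hC1 (Units.ext (sub_eq_zero.1 (Matrix.ext_iff_mulVec.2 fun v => ?_)))
    rw [zero_mulVec]; exact hcon v
  set c := N *ᵥ f with hcdef
  have hdc : dual σ (s1 n) c = dual σ (s1 n) f ᵥ* N := by rw [hcdef, dual_mulVec hσ s1_inv, hNa]
  have hdcN : dual σ (s1 n) c ᵥ* N = 0 := by rw [hdc, vecMul_vecMul, hNN, vecMul_zero]
  have hciso : dual σ (s1 n) c ⬝ᵥ c = 0 := by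
    rw [hcdef, dual_mulVec hσ s1_inv, hNa, ← dotProduct_mulVec, mulVec_mulVec, hNN, zero_mulVec, dotProduct_zero]
  set τ := utv σ c hciso 1 with hτ
  have hz0 : ∀ w : Fin (n + 3) → F, vecMulVec w (0 : Fin (n + 3) → F) = 0 := fun w => by ext; simp [vecMulVec_apply]
  have hCτ : C * τ = τ * C := Units.ext (by
    have e1 : N * vecMulVec c (dual σ (s1 n) c) = 0 := by
      rw [mul_vecMulVec, hcdef, mulVec_mulVec, hNN, zero_mulVec]; ext; simp [vecMulVec_apply]
    have e2 : vecMulVec c (dual σ (s1 n) c) * N = 0 := by rw [vecMulVec_mul, hdcN, hz0]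
    rw [Units.val_mul, Units.val_mul, hτ, utv_coe, one_smul, hCe]
    simp only [add_mul, mul_add, one_mul, mul_one, e1, e2, add_zero]
    abel)
  have hone : σ (1 : F) = -1 := by rw [map_one, hneg]
  have hτr : IsURoot σ (sl i τ : GL (Fin (s + 1) → Fin (n + 3)) F) := ⟨i, c, hciso, 1, hf, one_ne_zero, hone, rfl⟩
  have hzM : sl i C ∈ M := h.base i C hCU hCd
  set y := k * sl i τ * k⁻¹ with hy
  have hyM : y ∈ M := M.mul_mem (M.mul_mem hk (hτr.mem h.base)) (M.inv_mem hk)
  -- the elements of the first factor which occur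
  let 𝒜 : Subgroup (GL (Fin (n + 3)) F) :=
  { carrier := {a | ((a : Matrix (Fin (n + 3)) (Fin (n + 3)) F) - 1) * N = 0 ∧
      ∃ Q, (a : Matrix (Fin (n + 3)) (Fin (n + 3)) F) - 1 = N * Q}
    one_mem' := ⟨by rw [Units.val_one, sub_self, zero_mul], 0, by rw [Units.val_one, sub_self, mul_zero]⟩
    mul_mem' := by
      rintro a a' ⟨ha, Q, hQ⟩ ⟨ha', Q', hQ'⟩
      have e : ((a * a' : GL (Fin (n + 3)) F) : Matrix (Fin (n + 3)) (Fin (n + 3)) F) - 1 =
          N * (Q + Q') := by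
        have e0 : ((a : Matrix (Fin (n + 3)) (Fin (n + 3)) F) - 1) * ((a' : Matrix (Fin (n + 3)) (Fin (n + 3)) F) - 1) = 0 := by
          rw [hQ', ← mul_assoc, ha, zero_mul]
        rw [mul_add, ← hQ, ← hQ', Units.val_mul, ← sub_eq_zero, ← e0]
        noncomm_ring
      refine ⟨?_, _, e⟩
      rw [e, mul_add, add_mul, ← hQ, ← hQ', ha, ha', add_zero]
    inv_mem' := by
      rintro a ⟨ha, Q, hQ⟩
      have hsq : ((a : Matrix (Fin (n + 3)) (Fin (n + 3)) F) - 1) * ((a : Matrix (Fin (n + 3)) (Fin (n + 3)) F) - 1) = 0 := by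
        conv_lhs => arg 2; rw [hQ]
        rw [← mul_assoc, ha, zero_mul]
      rw [Set.mem_setOf_eq, inv_one_add (show (a : Matrix (Fin (n + 3)) (Fin (n + 3)) F) = 1 + ((a : Matrix _ _ F) - 1) by abel) hsq]
      exact ⟨by rw [sub_sub_cancel_left, neg_mul, ha, neg_zero], -Q, by rw [sub_sub_cancel_left, hQ, mul_neg]⟩ }
  have h𝒜 : ∀ a ∈ 𝒜, ∀ a' ∈ 𝒜, Commute a a' := by
    rintro a ⟨ha, Q, hQ⟩ a' ⟨ha', Q', hQ'⟩
    refine Units.ext ?_
    have e1 : ((a : Matrix (Fin (n + 3)) (Fin (n + 3)) F) - 1) * ((a' : Matrix (Fin (n + 3)) (Fin (n + 3)) F) - 1) = 0 := by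
      rw [hQ', ← mul_assoc, ha, zero_mul]
    have e2 : ((a' : Matrix (Fin (n + 3)) (Fin (n + 3)) F) - 1) * ((a : Matrix (Fin (n + 3)) (Fin (n + 3)) F) - 1) = 0 := by
      rw [hQ, ← mul_assoc, ha', zero_mul]
    have e3 := e1.trans e2.symm
    simp only [sub_mul, mul_sub, one_mul, mul_one] at e3
    rw [Units.val_mul, Units.val_mul]
    linear_combination (norm := abel) e3
  let P : Subgroup (GL (Fin (n + 3)) F) :=
  { carrier := {b | ∃ a ∈ 𝒜, Commute y (sl i a * sl j b)}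
    one_mem' := ⟨1, one_mem _, by rw [sl_one, sl_one, one_mul]; exact Commute.one_right y⟩
    mul_mem' := by
      rintro b b' ⟨a, ha, hab⟩ ⟨a', ha', hab'⟩
      refine ⟨a * a', mul_mem ha ha', ?_⟩
      have e : sl i (a * a') * sl j (b * b') = sl i a * sl j b * (sl i a' * sl j b') := by
        rw [← sl_mul, ← sl_mul]
        simp only [mul_assoc]
        rw [← mul_assoc (sl i a'), sl_comm hji.symm, mul_assoc]
      rw [e]; exact hab.mul_right hab'
    inv_mem' := by
      rintro b ⟨a, ha, hab⟩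
      refine ⟨a⁻¹, inv_mem ha, ?_⟩
      have e : sl i a⁻¹ * sl j b⁻¹ = (sl i a * sl j b)⁻¹ := by
        rw [sl_comm hji.symm a b, _root_.mul_inv_rev, sl_inv, sl_inv]
      rw [e]; exact hab.inv_right }
  have hP : ∀ (u : Fin (n + 3) → F) (hu : dual σ (s1 n) u ⬝ᵥ u = 0) (d : F), σ d = -d → utv σ u hu d ∈ P := by
    intro u hu d hd
    by_cases h0 : u = 0 ∨ d = 0
    · have : utv σ u hu d = 1 := Units.ext (by
        rw [utv_coe, Units.val_one]
        rcases h0 with e | e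
        · subst e; simp
        · rw [e, zero_smul, add_zero])
      rw [this]; exact one_mem P
    push Not at h0
    set b := utv σ u hu d with hb
    have hbt : IsTv b := utv_isTv hu h0.1 h0.2
    have hx'' : IsURoot σ (sl j b : GL (Fin (s + 1) → Fin (n + 3)) F) := ⟨j, u, hu, d, h0.1, h0.2, hd, rfl⟩
    have hnr : ¬ IsURoot σ (sl i C * sl j b : GL (Fin (s + 1) → Fin (n + 3)) F) := fun hroot => by
      obtain ⟨l, D, hD, hl⟩ := hroot.isRoot.exists_tv
      rw [sl, sl, sl, pureGL_mul] at hl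
      have hsq : ∀ (p : Fin (s + 1)) {X : GL (Fin (n + 3)) F}, X * X = 1 → ∀ q,
          (Pi.mulSingle p X : Fin (s + 1) → GL (Fin (n + 3)) F) q * (Pi.mulSingle p X : Fin (s + 1) → GL (Fin (n + 3)) F) q = 1 :=
        fun p X hX q => by
          rcases eq_or_ne q p with rfl | hq
          · simpa using hX
          · simp [Pi.mulSingle_eq_of_ne hq]
      have he := pureGL_inj (by omega) h2 (fun q => by
        rcases eq_or_ne q i with rfl | hq
        · simp [Pi.mulSingle_eq_of_ne hji.symm, hC]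
        · simpa [Pi.mulSingle_eq_of_ne hq] using hsq j (hbt.sq h2) q) (hsq l (hD.sq h2)) hl
      by_cases hli : i = l
      · subst hli
        have e := he j
        simp [Pi.mulSingle_eq_of_ne hji] at e
        exact hbt.ne_one e
      · have e := he i
        simp [Pi.mulSingle_eq_of_ne hji.symm, Pi.mulSingle_eq_of_ne hli] at e
        exact hC1 e
    rcases h.key hin h2 (z := sl i C) (by rw [sl_mul, hC, sl_one]) hzM (sl_mem_tw i C) hτr hx''
      (by rw [sl_mul, sl_mul, hCτ]) (sl_comm hji.symm C b) hnr hk hc with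
      hk' | ⟨hh, -, hhtw, hhz, hstep⟩
    · exact absurd hk' hktw
    obtain ⟨π, H, rfl⟩ := tw_shape hhtw
    rw [sl] at hhz
    have hπ := comm_pure (by omega) h2 (A := Pi.mulSingle i C) (fun q => by
      rcases eq_or_ne q i with rfl | hq
      · simp [hC]
      · simp [Pi.mulSingle_eq_of_ne hq]) hhz i
    have hπi : π i = i := by
      by_contra hne
      rw [Pi.mulSingle_eq_of_ne hne, Pi.mulSingle_eq_same, eq_comm] at hπ
      exact hC1 (conj_eq_one_iff.1 hπ)
    rw [hπi, Pi.mulSingle_eq_same] at hπ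
    rw [conj_sl, hπi] at hstep
    set a := H i * τ * (H i)⁻¹ with ha
    have hat : IsTv a := (utv_isTv hciso hf one_ne_zero).conj _
    have hne : sl i a ≠ sl j b := sl_ne hji.symm (by omega) h2 (hat.sq h2) (hbt.sq h2) hat.ne_one
    obtain ⟨m, hsq, hm1, hcy⟩ := hstep hne
    have ha𝒜 : a ∈ 𝒜 := by
      have hHN : cj (H i) N = N := by
        rw [hN, cj_sub, cj_one, cj_coe, ← hπ]
      have e : (a : Matrix (Fin (n + 3)) (Fin (n + 3)) F) - 1 = cj (H i) (vecMulVec c (dual σ (s1 n) c)) := by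
        rw [ha, ← cj_coe, hτ, utv_coe, one_smul, cj_add, cj_one, add_sub_cancel_left]
      refine ⟨?_, cj (H i) (vecMulVec f (dual σ (s1 n) c)), ?_⟩
      · rw [e]
        conv_lhs => arg 2; rw [← hHN]
        rw [← cj_mul, vecMulVec_mul, hdcN, hz0, cj_zero]
      · rw [e]
        conv_rhs => arg 1; rw [← hHN]
        rw [← cj_mul, mul_vecMulVec]
    refine ⟨a, ha𝒜, ?_⟩
    have hx2 : (sl j b * sl i a) * (sl j b * sl i a) = 1 := by
      calc sl j b * sl i a * (sl j b * sl i a)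
          = sl j b * (sl i a * sl j b) * sl i a := by group
        _ = sl j b * (sl j b * sl i a) * sl i a := by rw [sl_comm hji.symm]
        _ = (sl j b * sl j b) * (sl i a * sl i a) := by group
        _ = 1 := by rw [sl_mul, sl_mul, hat.sq h2, hbt.sq h2, sl_one, sl_one, one_mul]
    rcases Nat.even_or_odd m with ⟨q, rfl⟩ | ⟨q, rfl⟩
    · exact absurd (by rw [← two_mul, pow_mul, pow_two, hx2, one_pow]) hm1
    · rw [pow_succ, pow_mul, pow_two, hx2, one_pow, one_mul] at hcy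
      rw [sl_comm hji.symm]
      exact hcy
  have hf' := hform_unitary h.sc (s1_inv (n := n))
  have hSU : Unit.isoU (hform σ (s1 n)) ⊓ specialLinear (Fin (n + 3)) F ≤ P := by
    refine Unit.isoU_inf_SL_le hf' (fun u _ huu d hd => ?_) (h.hq.imp (fun e => by rw [Fintype.card_fin]; omega) id)
    have hu : dual σ (s1 n) u ⬝ᵥ u = 0 := by rw [dotProduct_comm]; exact huu
    have hφ : (d • hv hf' u) ⬝ᵥ u = 0 := utv_orth hf' huu d
    refine ⟨hφ, ?_⟩
    have e : tv u (d • hv hf' u) hφ = utv σ u hu d := Units.ext (by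
      rw [tv_coe, utv_coe, hv_hform h.sc s1_inv, vecMulVec_smul])
    rw [e]
    exact hP u hu d hd
  rw [isoU_hform h.sc s1_inv] at hSU
  -- two short roots and their commutator
  obtain ⟨w, hw⟩ := h.sc.exists_unfixed
  obtain ⟨μ, hμ⟩ := h.sc.exists_trace 1
  obtain ⟨μ', hμ'⟩ := h.sc.exists_trace w
  have hd0 : σ w * 1 - σ 1 * w ≠ 0 := by rw [map_one, one_mul, mul_one]; exact sub_ne_zero.2 hw
  set η := eta σ (2 : Fin (n + 3)) two_ne.1 two_ne.2 1 μ with hη
  set η' := eta σ (2 : Fin (n + 3)) two_ne.1 two_ne.2 w μ' with hη'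
  obtain ⟨a1, ha1, hy1⟩ := hSU ⟨eta_mem hσ two_ne.1 two_ne.2 hμ, Units.ext (eta_det _ _ _ _)⟩
  obtain ⟨a2, ha2, hy2⟩ := hSU ⟨eta_mem hσ two_ne.1 two_ne.2 hμ', Units.ext (eta_det _ _ _ _)⟩
  rw [← hη] at hy1
  rw [← hη'] at hy2
  have hcr : Commute y (sl j (rt (n := n) σ (σ w * 1 - σ 1 * w))) := by
    have h3 := (((hy1.mul_right hy2).mul_right hy1.inv_right).mul_right hy2.inv_right)
    have hcA : sl i a1 * sl i a2 = sl (t := s + 1) i a2 * sl i a1 := by rw [sl_mul, sl_mul, (h𝒜 a1 ha1 a2 ha2).eq]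
    have c1 : Commute (sl i a1) (sl j η) := sl_comm hji.symm _ _
    have c2 : Commute (sl i a1) (sl j η') := sl_comm hji.symm _ _
    have c3 : Commute (sl i a2) (sl j η) := sl_comm hji.symm _ _
    have c4 : Commute (sl i a2) (sl j η') := sl_comm hji.symm _ _
    have e : sl i a1 * sl j η * (sl i a2 * sl j η') * (sl i a1 * sl j η)⁻¹ * (sl i a2 * sl j η')⁻¹ =
        sl j (η * η' * η⁻¹ * η'⁻¹) := by
      rw [← sl_mul, ← sl_mul, ← sl_mul, sl_inv, sl_inv,
        show sl i a1 * sl j η * (sl i a2 * sl j η') = sl i a1 * sl i a2 * (sl j η * sl j η') by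
          simp only [mul_assoc]; rw [← mul_assoc (sl j η), ← c3.eq, mul_assoc],
        _root_.mul_inv_rev, _root_.mul_inv_rev,
        show sl i a1 * sl i a2 * (sl j η * sl j η') * ((sl j η)⁻¹ * (sl i a1)⁻¹) * ((sl j η')⁻¹ * (sl i a2)⁻¹) =
          sl i a1 * sl i a2 * (sl j η * sl j η' * (sl j η)⁻¹) * ((sl i a1)⁻¹ * (sl j η')⁻¹) * (sl i a2)⁻¹ by group,
        c2.inv_inv.eq,
        show sl i a1 * sl i a2 * (sl j η * sl j η' * (sl j η)⁻¹) * ((sl j η')⁻¹ * (sl i a1)⁻¹) * (sl i a2)⁻¹ =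
          sl i a1 * sl i a2 * (sl j η * sl j η' * (sl j η)⁻¹ * (sl j η')⁻¹) * (sl i a2 * sl i a1)⁻¹ by group,
        ← hcA,
        ((((c1.mul_right c2).mul_right c1.inv_right).mul_right c2.inv_right).mul_left
          (((c3.mul_right c4).mul_right c3.inv_right).mul_right c4.inv_right)).eq, mul_inv_cancel_right]
    rw [e, eta_comm two_ne.1 two_ne.2 1 μ w μ'] at h3
    rwa [show rt σ (σ w * 1 - σ 1 * w) * (η' * η) * η⁻¹ * η'⁻¹ = rt σ (σ w * 1 - σ 1 * w) by group] at h3
  have hroot : IsURoot σ (sl j (rt (n := n) σ (σ w * 1 - σ 1 * w)) : GL (Fin (s + 1) → Fin (n + 3)) F) :=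
    ⟨j, Pi.single 0 1, e0_iso, _, by simp, hd0, by rw [map_sub, map_mul, map_mul, hσ, map_one, map_one, hneg]; linear_combination (w - σ w) * h2, rfl⟩
  have hyW := h.root_centraliser hin hroot hyM hcr.eq
  exact hktw (h.fusion hin hτr hk (h.cls hin hτr hk hyW))

end CfsgLib.Perm.Trans.TensorPowerU
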