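import Cfsg.Agent.Lib.Perm.Trans.TensorPowerU.Base

/-!
# Images of the units of one factor
-/

set_option autoImplicit false
set_option linter.all false

namespace CfsgLib.Perm.Trans.TensorPowerU

open scoped Matrix
open Matrix Cfsg.Geo CfsgLib.Perm.Asch CfsgLib.Perm.Trans CfsgLib.Perm.Trans.TensorPower

variable {F : Type*} [Field F] {σ : F ≃+* F} {n t : ℕ} {hσ : ∀ a, σ (σ a) = a}

theorem cj_unit {g : GL (Fin (n + 3)) F} (hg : g ∈ u1 σ hσ n) (a b : Fin (n + 3)) :
    cj g (Matrix.single a b (1 : F)) = vecMulVec ((g : Matrix (Fin (n + 3)) (Fin (n + 3)) F) *ᵥ Pi.single a 1)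
      (dual σ (s1 n) ((g : Matrix (Fin (n + 3)) (Fin (n + 3)) F) *ᵥ Pi.single (s1 n b) 1)) := by
  rw [dual_mulVec hσ s1_inv, dual_single s1_inv, s1_inv, map_one, adj_of_mem hg, cj, single_eq_vecMulVec,
    mul_vecMulVec, vecMulVec_mul]

section Eta

variable {a : Fin (n + 3)} (ha0 : a ≠ 0) (ha1 : a ≠ 1) (l μ : F)

theorem eta_mulVec (v : Fin (n + 3) → F) :
    (eta σ a ha0 ha1 l μ : Matrix (Fin (n + 3)) (Fin (n + 3)) F) *ᵥ v =
      v + Pi.single a (l * v 1) + Pi.single 0 (-σ l * v a) + Pi.single 0 (μ * v 1) := by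
  rw [eta_coe ha0 ha1, add_mulVec, one_mulVec, add_mulVec, add_mulVec, single_mulVec, single_mulVec, single_mulVec,
    ← add_assoc, ← add_assoc]
  rfl

theorem eta_e0 :
    (eta σ a ha0 ha1 l μ : Matrix (Fin (n + 3)) (Fin (n + 3)) F) *ᵥ Pi.single 0 1 = Pi.single 0 1 := by
  rw [eta_mulVec]; simp [ha0]

theorem eta_e1 :
    (eta σ a ha0 ha1 l μ : Matrix (Fin (n + 3)) (Fin (n + 3)) F) *ᵥ Pi.single 1 1 =
      Pi.single 1 1 + Pi.single a l + Pi.single 0 μ := by
  rw [eta_mulVec]; simp [ha1]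

theorem eta_ea :
    (eta σ a ha0 ha1 l μ : Matrix (Fin (n + 3)) (Fin (n + 3)) F) *ᵥ Pi.single a 1 =
      Pi.single a 1 + Pi.single 0 (-σ l) := by
  rw [eta_mulVec]; simp [ha1.symm]

theorem eta_other {b : Fin (n + 3)} (hb1 : b ≠ 1) (hba : b ≠ a) :
    (eta σ a ha0 ha1 l μ : Matrix (Fin (n + 3)) (Fin (n + 3)) F) *ᵥ Pi.single b 1 = Pi.single b 1 := by
  rw [eta_mulVec]; simp [hb1.symm, hba.symm]

end Eta

theorem rt_mulVec (c : F) (v : Fin (n + 3) → F) :
    ((rt σ c : GL (Fin (n + 3)) F) : Matrix (Fin (n + 3)) (Fin (n + 3)) F) *ᵥ v = v + Pi.single 0 (c * v 1) := by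
  rw [rt_coe, add_mulVec, one_mulVec, Matrix.smul_single, smul_eq_mul, mul_one, single_mulVec]
  rfl

/-- the scalars of the long Weyl element -/
def wd (n : ℕ) (F : Type*) [Field F] : Fin (n + 3) → Fˣ := fun y => if y = 2 then -1 else 1

/-- exchange of the hyperbolic pair -/
def wl (n : ℕ) (F : Type*) [Field F] : GL (Fin (n + 3)) F := mono (Equiv.swap 0 1) (wd n F)

theorem two_ne : (2 : Fin (n + 3)) ≠ 0 ∧ (2 : Fin (n + 3)) ≠ 1 := by
  simp [Fin.ext_iff, Fin.val_ofNat, Nat.mod_eq_of_lt (show 2 < n + 3 by omega)]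

theorem wl_mem : wl n F ∈ u1 σ hσ n := by
  refine mono_mem hσ (fun y => by simp [s1]) fun y => ?_
  have h2 : s1 n (2 : Fin (n + 3)) = 2 := s1_other two_ne.1 two_ne.2
  by_cases h : y = 2
  · subst h; simp [wd, h2]
  · have : s1 n y ≠ 2 := fun e => h (by rw [← s1_inv y, e, h2])
    simp [wd, h, this]

theorem wl_det : (wl n F : Matrix (Fin (n + 3)) (Fin (n + 3)) F).det = 1 := by
  rw [wl, mono_det, Equiv.Perm.sign_swap (by simp)]
  have : ∏ y : Fin (n + 3), ((wd n F y : Fˣ) : F) = -1 := by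
    rw [Finset.prod_eq_single (2 : Fin (n + 3)) (fun b _ hb => by simp [wd, hb]) (by simp)]
    simp [wd]
  rw [this]
  simp

theorem wl_e0 : (wl n F : Matrix (Fin (n + 3)) (Fin (n + 3)) F) *ᵥ Pi.single 0 1 = Pi.single 1 1 := by
  rw [wl, mono_mulVec_single]; simp [wd, two_ne.1.symm]

theorem wl_e1 : (wl n F : Matrix (Fin (n + 3)) (Fin (n + 3)) F) *ᵥ Pi.single 1 1 = Pi.single 0 1 := by
  rw [wl, mono_mulVec_single]; simp [wd, two_ne.2.symm]

theorem wl_mid {b : Fin (n + 3)} (h0 : b ≠ 0) (h1 : b ≠ 1) :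
    (wl n F : Matrix (Fin (n + 3)) (Fin (n + 3)) F) *ᵥ Pi.single b 1 = Pi.single b (wd n F b : F) := by
  rw [wl, mono_mulVec_single, Equiv.swap_apply_of_ne_of_ne h0 h1]

/-- the scalars of the long torus -/
def td (σ : F ≃+* F) (n : ℕ) (x : Fˣ) : Fin (n + 3) → Fˣ := fun y =>
  if y = 0 then x else if y = 1 then (Units.map σ.toRingHom.toMonoidHom x)⁻¹
    else if y = 2 then Units.map σ.toRingHom.toMonoidHom x * x⁻¹ else 1

/-- the torus of the hyperbolic pair -/
def tor (σ : F ≃+* F) (n : ℕ) (x : Fˣ) : GL (Fin (n + 3)) F := mono 1 (td σ n x)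

theorem td_val (x : Fˣ) (y : Fin (n + 3)) : (td σ n x y : F) =
    if y = 0 then (x : F) else if y = 1 then (σ x)⁻¹ else if y = 2 then σ x * (x : F)⁻¹ else 1 := by
  rw [td]
  split_ifs <;> simp

theorem tor_mem (x : Fˣ) : tor σ n x ∈ u1 σ hσ n := by
  refine mono_mem hσ (fun y => rfl) fun y => ?_
  have hx : (x : F) ≠ 0 := x.ne_zero
  have hsx : σ (x : F) ≠ 0 := by simpa using hx
  rw [td_val, td_val]
  by_cases h0 : y = 0
  · subst h0
    simp [s1_zero, map_inv₀, hσ, hx]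
  by_cases h1 : y = 1
  · subst h1
    simp [s1_one, hsx]
  rw [s1_other h0 h1]
  simp only [if_neg h0, if_neg h1]
  split_ifs
  · rw [map_mul, map_inv₀, hσ]; field_simp
  · simp

theorem tor_det (x : Fˣ) : (tor σ n x : Matrix (Fin (n + 3)) (Fin (n + 3)) F).det = 1 := by
  have hx : (x : F) ≠ 0 := x.ne_zero
  have hsx : σ (x : F) ≠ 0 := by simpa using hx
  rw [tor, mono_det, Equiv.Perm.sign_one]
  simp only [Units.val_one, Int.cast_one, one_mul, td_val]
  rw [← Finset.prod_subset (Finset.subset_univ ({0, 1, 2} : Finset (Fin (n + 3))))]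
  · rw [Finset.prod_insert (by simp [two_ne.1.symm]), Finset.prod_pair two_ne.2.symm]
    simp [two_ne.1, two_ne.2]
  · intro y _ hy
    simp only [Finset.mem_insert, Finset.mem_singleton, not_or] at hy
    simp [hy.1, hy.2.1, hy.2.2]

theorem tor_mulVec_e0 (x : Fˣ) :
    (tor σ n x : Matrix (Fin (n + 3)) (Fin (n + 3)) F) *ᵥ Pi.single 0 1 = Pi.single 0 (x : F) := by
  rw [tor, mono_mulVec_single, Equiv.Perm.one_apply, td_val, if_pos rfl]

theorem cj_tor (hσ : ∀ a, σ (σ a) = a) (x : Fˣ) :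
    cj (tor σ n x) (Matrix.single 0 1 (1 : F)) = ((x : F) * σ x) • Matrix.single 0 1 1 := by
  rw [cj_unit (hσ := hσ) (tor_mem x), s1_one, tor_mulVec_e0, dual_single s1_inv, s1_zero, vmv_single2,
    Matrix.smul_single, smul_eq_mul, mul_one]

/-! ### differences along one factor -/

section Ops

variable {ι : Type} [Fintype ι] [DecidableEq ι]

/-- the difference under conjugation -/
def df (g : GL ι F) : Matrix ι ι F →ₗ[F] Matrix ι ι F := (cjAlg g).toLinearMap - LinearMap.id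

theorem df_apply (g : GL ι F) (X : Matrix ι ι F) : df g X = cj g X - X := rfl

/-- a product of differences -/
def dd (gs : List (GL ι F)) : Matrix ι ι F →ₗ[F] Matrix ι ι F := gs.foldr (fun g φ => df g ∘ₗ φ) LinearMap.id

theorem dd_cons (g : GL ι F) (gs : List (GL ι F)) (X : Matrix ι ι F) : dd (g :: gs) X = cj g (dd gs X) - dd gs X := rfl

theorem dd_nil (X : Matrix ι ι F) : dd ([] : List (GL ι F)) X = X := rfl

theorem dd_mem {S : AddSubgroup (Matrix ι ι F)} {gs : List (GL ι F)} (hS : ∀ g ∈ gs, ∀ X ∈ S, cj g X ∈ S)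
    {X : Matrix ι ι F} (hX : X ∈ S) : dd gs X ∈ S := by
  induction gs with
  | nil => exact hX
  | cons g gs ih =>
    have h := ih fun g hg => hS g (List.mem_cons_of_mem _ hg)
    exact S.sub_mem (hS g (List.mem_cons_self ..) _ h) h

end Ops

theorem pure_update_apply (A : Fin t → Matrix (Fin (n + 3)) (Fin (n + 3)) F) (l : Fin t)
    (X : Matrix (Fin (n + 3)) (Fin (n + 3)) F) (x y : Fin t → Fin (n + 3)) :
    CfsgLib.Perm.Asch.pure (Function.update A l X) x y =
      X (x l) (y l) * ∏ k ∈ Finset.univ.erase l, A k (x k) (y k) := by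
  rw [pure_apply, ← Finset.mul_prod_erase Finset.univ _ (Finset.mem_univ l), Function.update_self]
  congr 1
  exact Finset.prod_congr rfl fun k hk => by rw [Function.update_of_ne (Finset.ne_of_mem_erase hk)]

/-- one factor of a pure tensor varies -/
def updL (A : Fin t → Matrix (Fin (n + 3)) (Fin (n + 3)) F) (l : Fin t) :
    Matrix (Fin (n + 3)) (Fin (n + 3)) F →ₗ[F] Matrix (Fin t → Fin (n + 3)) (Fin t → Fin (n + 3)) F where
  toFun X := CfsgLib.Perm.Asch.pure (Function.update A l X)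
  map_add' X Y := by
    ext x y
    rw [Matrix.add_apply, pure_update_apply, pure_update_apply, pure_update_apply, Matrix.add_apply, add_mul]
  map_smul' c X := by
    ext x y
    rw [RingHom.id_apply, Matrix.smul_apply, pure_update_apply, pure_update_apply, Matrix.smul_apply, smul_eq_mul,
      smul_eq_mul, mul_assoc]

theorem updL_apply (A : Fin t → Matrix (Fin (n + 3)) (Fin (n + 3)) F) (l : Fin t)
    (X : Matrix (Fin (n + 3)) (Fin (n + 3)) F) : updL A l X = CfsgLib.Perm.Asch.pure (Function.update A l X) := rfl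

theorem cj_sl_pure (l : Fin t) (g : GL (Fin (n + 3)) F) (A : Fin t → Matrix (Fin (n + 3)) (Fin (n + 3)) F) :
    cj (sl l g) (CfsgLib.Perm.Asch.pure A) = CfsgLib.Perm.Asch.pure (Function.update A l (cj g (A l))) := by
  rw [cj, ← sl_inv, sl_coe, sl_coe, slot_mul_pure, pure_mul_slot, Function.update_self, Function.update_idem]
  rfl

theorem dd_pure (l : Fin t) (gs : List (GL (Fin (n + 3)) F)) (A : Fin t → Matrix (Fin (n + 3)) (Fin (n + 3)) F) :
    dd (gs.map (sl l)) (CfsgLib.Perm.Asch.pure A) = CfsgLib.Perm.Asch.pure (Function.update A l (dd gs (A l))) := by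
  induction gs with
  | nil => rw [List.map_nil, dd_nil, dd_nil, Function.update_eq_self]
  | cons g gs ih =>
    rw [List.map_cons, dd_cons, dd_cons, ih, cj_sl_pure, Function.update_self, Function.update_idem, ← updL_apply,
      ← updL_apply, ← map_sub, updL_apply]

/-! ### the differences used -/

section Values

variable {a : Fin (n + 3)} (ha0 : a ≠ 0) (ha1 : a ≠ 1) {l μ l' μ' : F}
  (hμ : μ + σ μ + l * σ l = 0) (hμ' : μ' + σ μ' + l' * σ l' = 0)

include hσ hμ in
theorem df_e00 : df (eta σ a ha0 ha1 l μ) (Matrix.single 0 0 (1 : F)) =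
    Matrix.single 0 a (σ l) + Matrix.single 0 1 (σ μ) := by
  rw [df_apply, cj_unit (eta_mem hσ ha0 ha1 hμ), s1_zero, eta_e0, eta_e1, dual_add, dual_add,
    dual_single s1_inv, dual_single s1_inv, dual_single s1_inv, s1_one, s1_other ha0 ha1, s1_zero, vecMulVec_add,
    vecMulVec_add, vmv_single2, vmv_single2, vmv_single2]
  simp only [one_mul, map_one]
  abel

include hσ hμ in
theorem df_e11 : df (eta σ a ha0 ha1 l μ) (Matrix.single 1 1 (1 : F)) =
    Matrix.single a 1 l + Matrix.single 0 1 μ := by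
  rw [df_apply, cj_unit (eta_mem hσ ha0 ha1 hμ), s1_one, eta_e0, eta_e1, add_vecMulVec, add_vecMulVec,
    dual_single s1_inv, s1_zero, vmv_single2, vmv_single2, vmv_single2]
  simp only [one_mul, mul_one, map_one]
  abel

include hσ hμ in
theorem df_e01 : df (eta σ a ha0 ha1 l μ) (Matrix.single 0 1 (1 : F)) = 0 := by
  rw [df_apply, cj_unit (eta_mem hσ ha0 ha1 hμ), s1_one, eta_e0, dual_single s1_inv, s1_zero, vmv_single2]
  simp

include hσ hμ' in
theorem df_e0a : df (eta σ a ha0 ha1 l' μ') (Matrix.single 0 a (1 : F)) = Matrix.single 0 1 (-l') := by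
  rw [df_apply, cj_unit (eta_mem hσ ha0 ha1 hμ'), s1_other ha0 ha1, eta_e0, eta_ea, dual_add, dual_single s1_inv,
    dual_single s1_inv, s1_other ha0 ha1, s1_zero, vecMulVec_add, vmv_single2, vmv_single2]
  simp [hσ]

include hσ hμ' in
theorem df_ea1 : df (eta σ a ha0 ha1 l' μ') (Matrix.single a 1 (1 : F)) = Matrix.single 0 1 (-σ l') := by
  rw [df_apply, cj_unit (eta_mem hσ ha0 ha1 hμ'), s1_one, eta_e0, eta_ea, add_vecMulVec,
    dual_single s1_inv, s1_zero, vmv_single2, vmv_single2]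
  simp

theorem single_smul_one {p q : Fin (n + 3)} (c : F) : Matrix.single p q c = c • Matrix.single p q (1 : F) := by
  rw [Matrix.smul_single, smul_eq_mul, mul_one]

include hσ hμ hμ' in
theorem dd_e00 : dd [eta σ a ha0 ha1 l' μ', eta σ a ha0 ha1 l μ] (Matrix.single 0 0 (1 : F)) =
    (-(σ l * l')) • Matrix.single 0 1 1 := by
  show df _ (df _ _) = _
  rw [df_e00 (hσ := hσ) ha0 ha1 hμ, map_add, single_smul_one (σ l), single_smul_one (σ μ), map_smul, map_smul,
    df_e01 (hσ := hσ) ha0 ha1 hμ', df_e0a (hσ := hσ) ha0 ha1 hμ', smul_zero, add_zero, single_smul_one (-l'), smul_smul,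
    mul_neg]

include hσ hμ hμ' in
theorem dd_e11 : dd [eta σ a ha0 ha1 l' μ', eta σ a ha0 ha1 l μ] (Matrix.single 1 1 (1 : F)) =
    (-(l * σ l')) • Matrix.single 0 1 1 := by
  show df _ (df _ _) = _
  rw [df_e11 (hσ := hσ) ha0 ha1 hμ, map_add, single_smul_one l, single_smul_one μ, map_smul, map_smul,
    df_e01 (hσ := hσ) ha0 ha1 hμ', df_ea1 (hσ := hσ) ha0 ha1 hμ', smul_zero, add_zero, single_smul_one (-σ l'),
    smul_smul, mul_neg]

include hσ hμ hμ' in
theorem dd_e01 : dd [eta σ a ha0 ha1 l' μ', eta σ a ha0 ha1 l μ] (Matrix.single 0 1 (1 : F)) = 0 := by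
  show df _ (df _ _) = _
  rw [df_e01 (hσ := hσ) ha0 ha1 hμ, map_zero]

end Values

theorem cj_wl (p q : Fin (n + 3)) (hp : p = 0 ∨ p = 1) (hq : q = 0 ∨ q = 1) :
    cj (wl n F) (Matrix.single p q (1 : F)) = Matrix.single (s1 n p) (s1 n q) 1 := by
  have hw : wl n F ∈ uSub (RingEquiv.refl F) (s1 n) (fun _ => rfl) s1_inv := wl_mem (hσ := fun _ => rfl)
  rw [cj_unit hw]
  rcases hp with rfl | rfl <;> rcases hq with rfl | rfl <;>
    simp only [s1_zero, s1_one, wl_e0, wl_e1, dual_single s1_inv, vmv_single2, map_one, mul_one]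

/-- the operator sending the root to a multiple of itself and killing one -/
def opN (σ : F ≃+* F) (n : ℕ) (κ l μ μ' : F) : List (GL (Fin (n + 3)) F) :=
  [eta σ 2 two_ne.1 two_ne.2 1 μ', eta σ 2 two_ne.1 two_ne.2 l μ, rt σ κ, wl n F]

theorem opN_root (hσ : ∀ a, σ (σ a) = a) {κ l μ μ' : F} (hκ : σ κ = -κ) (hμ : μ + σ μ + l * σ l = 0) (hμ' : μ' + σ μ' + 1 * σ 1 = 0) :
    dd (opN σ n κ l μ μ') (Matrix.single 0 1 (1 : F)) = (κ * (l - σ l)) • Matrix.single 0 1 1 := by
  show dd [eta σ 2 two_ne.1 two_ne.2 1 μ', eta σ 2 two_ne.1 two_ne.2 l μ] (df _ (df _ _)) = _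
  have hr : rt σ κ ∈ u1 σ hσ n := utv_mem hσ _ _ hκ
  have e1 : df (rt σ κ) (Matrix.single 0 1 (1 : F)) = (0 : Matrix (Fin (n + 3)) (Fin (n + 3)) F) := by
    rw [df_apply, cj_unit hr, s1_one, rt_mulVec]
    simp [vmv_single2, s1_zero, dual_single s1_inv]
  have e2 : df (rt σ κ) (Matrix.single 1 0 (1 : F)) =
      κ • Matrix.single (0 : Fin (n + 3)) 0 1 + (-κ) • Matrix.single 1 1 1 + (-(κ * κ)) • Matrix.single 0 1 1 := by
    rw [df_apply, cj_unit hr, s1_zero, rt_mulVec]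
    simp only [Pi.single_eq_same, mul_one, dual_add, dual_single s1_inv, s1_zero, s1_one, map_one, hκ, add_vecMulVec,
      vecMulVec_add, vmv_single2, Matrix.smul_single, smul_eq_mul, one_mul, mul_neg]
    abel
  have e3 : df (wl n F) (Matrix.single 0 1 (1 : F)) = Matrix.single 1 0 1 - Matrix.single 0 1 1 := by
    rw [df_apply, cj_wl 0 1 (Or.inl rfl) (Or.inr rfl), s1_zero, s1_one]
  rw [e3, map_sub, e1, e2, sub_zero, map_add, map_add, map_smul, map_smul, map_smul,
    dd_e00 (hσ := hσ) two_ne.1 two_ne.2 hμ hμ', dd_e11 (hσ := hσ) two_ne.1 two_ne.2 hμ hμ',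
    dd_e01 (hσ := hσ) two_ne.1 two_ne.2 hμ hμ', smul_zero, add_zero, smul_smul, smul_smul, ← add_smul, map_one]
  congr 1
  ring

theorem dd_one {ι : Type} [Fintype ι] [DecidableEq ι] (g : GL ι F) (gs : List (GL ι F)) :
    dd (gs ++ [g]) (1 : Matrix ι ι F) = 0 := by
  induction gs with
  | nil => rw [List.nil_append, dd_cons, dd_nil, cj_one, sub_self]
  | cons h gs ih => rw [List.cons_append, dd_cons, ih, TensorPower.cj_zero, sub_zero]

end CfsgLib.Perm.Trans.TensorPowerU
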